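import Cfsg.Agent.JFourType.M22Facts
import Cfsg.Agent.TwoBlockMathieu.Powers
import Cfsg.Agent.Small.Counting

/-!
# Elements of order five and seven of the automorphism group of `M22`
-/

set_option autoImplicit false
set_option maxRecDepth 10000

namespace CfsgLib.JFourSeven

open Cfsg CfsgLib.Mathieu CfsgLib.Schur.Pc CfsgLib.SporadicOut CfsgLib.TwoBlockMathieu
open CfsgLib.JFourType
open TwoBlockMathieu.M22Data (cert valid)

/-- A member of `M24` exchanging the two points induces an outer automorphism. -/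
theorem exists_outer_of_table {t : ℕ}
    (ht : (inM24 t && app t 23 == 0 && app t 0 == 23) = true) :
    ∃ σ : MulAut M22g, σ ∉ Inn M22g ∧
      ∀ (x : M22g) (a : ℕ), Rep enc x.1 a → prodEq t a a t = true → σ x = x := by
  simp only [Bool.and_eq_true, beq_iff_eq] at ht
  obtain ⟨⟨hin, h23⟩, h0⟩ := ht
  obtain ⟨π, hπ, rπ⟩ := inGroup_of_inM24 hin
  have p1 : π none = some 0 := rπ.apply_eq enc (by
    change app _ (idx none) = idx (some 0); exact h23)
  have p2 : π (some 0) = none := rπ.apply_eq enc (by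
    change app _ (idx (some 0)) = idx none; exact h0)
  have i1 : π⁻¹ none = some 0 := (Equiv.symm_apply_eq π).2 p2.symm
  have i2 : π⁻¹ (some 0) = none := (Equiv.symm_apply_eq π).2 p1.symm
  have hstab : ∀ (s : Equiv.Perm GolayPt), s ∈ M24 → s none = some 0 → s (some 0) = none →
      s⁻¹ none = some 0 → s⁻¹ (some 0) = none → ∀ x : M22g, s * x.1 * s⁻¹ ∈ Spor.M22 := by
    intro s hs e1 e2 e3 e4 x
    obtain ⟨⟨hx24, hxn⟩, hx0⟩ := mem_SporM22.1 x.2
    refine mem_SporM22.2 ⟨⟨mul_mem (mul_mem hs hx24) (inv_mem hs), ?_⟩, ?_⟩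
    · rw [Equiv.Perm.mul_apply, Equiv.Perm.mul_apply, e3, hx0, e2]
    · rw [Equiv.Perm.mul_apply, Equiv.Perm.mul_apply, e4, hxn, e1]
  let ψ : MulAut M22g :=
    { toFun := fun x => ⟨π * x.1 * π⁻¹, hstab π hπ p1 p2 i1 i2 x⟩
      invFun := fun x => ⟨π⁻¹ * x.1 * π, by
        simpa using hstab π⁻¹ (inv_mem hπ) i1 i2 (by simpa using p1) (by simpa using p2) x⟩
      left_inv := fun x => Subtype.ext (by simp [mul_assoc])
      right_inv := fun x => Subtype.ext (by simp [mul_assoc])
      map_mul' := fun x y => Subtype.ext (by simp [mul_assoc]) }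
  refine ⟨ψ, ?_, fun x a rx e => Subtype.ext ?_⟩
  · rintro ⟨h, hh⟩
    refine M24Classes.not_inner_SporM22 π hπ p1 p2 ⟨h.1, h.2, fun x hx => ?_⟩
    exact (congrArg Subtype.val (DFunLike.congr_fun hh ⟨x, hx⟩)).symm
  · show π * x.1 * π⁻¹ = x.1
    rw [mul_eq_of_prodEq rπ rx rx rπ e, mul_inv_cancel_right]

theorem index_inn : (Inn M22g).index = 2 := by
  have h : Nat.card (Cfsg.Out M22g) = 2 := Cfsg.Agent.S2062.result
  exact h

theorem conj_injective : Function.Injective (MulAut.conj : M22g →* MulAut M22g) := by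
  haveI := simple_SporM22
  rw [← MonoidHom.ker_eq_bot_iff]
  refine ((MulAut.conj : M22g →* MulAut M22g).normal_ker.eq_bot_or_eq_top).resolve_right fun e => ?_
  obtain ⟨g, hg⟩ := exists_order_four
  have hc : ∀ a b : M22g, a * b = b * a := fun a b => by
    have := DFunLike.congr_fun (MonoidHom.mem_ker.1 (e ▸ Subgroup.mem_top a :
      a ∈ (MulAut.conj : M22g →* MulAut M22g).ker)) b
    simp only [MulAut.conj_apply, MulAut.one_apply] at this
    exact mul_inv_eq_iff_eq_mul.1 this
  let S : Subgroup M22g := Subgroup.zpowers (g ^ 2)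
  haveI : S.Normal := ⟨fun x hx y => by rw [hc y x, mul_inv_cancel_right]; exact hx⟩
  rcases Subgroup.Normal.eq_bot_or_eq_top (inferInstance : S.Normal) with h | h
  · have := orderOf_dvd_of_pow_eq_one (Subgroup.zpowers_eq_bot.1 h)
    rw [hg] at this
    omega
  · have hg' : g ∈ S := h ▸ Subgroup.mem_top g
    have h2 := orderOf_dvd_of_mem_zpowers hg'
    rw [hg, orderOf_pow' _ (by norm_num : (2 : ℕ) ≠ 0), hg] at h2
    norm_num at h2

/-- Centraliser tables for a representative, with the outer element and the squaring element. -/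
def torusOK (i : Fin cert.cls.length) (o s n : ℕ) : Bool :=
  inM24 o && app o 23 == 0 && app o 0 == 23 && prodEq o cert.cls[i].a cert.cls[i].a o && inM22 s &&
    powId s n &&
    allBelow 24 (fun j => app s (app cert.cls[i].a j) ==
      app cert.cls[i].a (app cert.cls[i].a (app s j)))

theorem torus_of_ok {i : Fin cert.cls.length} {o s n : ℕ} (h : torusOK i o s n = true) :
    (∃ σ : MulAut M22g, σ ∉ Inn M22g ∧ σ (elt valid i) = elt valid i) ∧
      ∃ g : M22g, g * elt valid i * g⁻¹ = elt valid i ^ 2 ∧ g ^ n = 1 := by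
  simp only [torusOK, Bool.and_eq_true, beq_iff_eq] at h
  obtain ⟨⟨⟨⟨⟨⟨hin, h23⟩, h0⟩, hcm⟩, hs⟩, hn⟩, hsq⟩ := h
  refine ⟨?_, ?_⟩
  · obtain ⟨σ, hσ, hfix⟩ := exists_outer_of_table (t := o) (by simp [hin, h23, h0])
    exact ⟨σ, hσ, hfix _ _ (rep_elt valid i) hcm⟩
  · obtain ⟨g, rg⟩ := JFourType.exists_elt hs
    refine ⟨g, ?_, (pow_eq_one_iff_powId rg n).1 hn⟩
    refine mul_inv_eq_iff_eq_mul.2 (Subtype.ext (Equiv.ext fun p => enc.injective (Fin.ext ?_)))
    simp only [allBelow_iff, beq_iff_eq] at hsq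
    have := hsq _ (enc p).isLt
    rw [rep_elt valid i p, rg, rg p, rep_elt valid i, rep_elt valid i] at this
    simpa [pow_two] using this

theorem torusFive_holds : torusOK ⟨1, by decide⟩
    1059965771705344735308740709947197059042790329989267991
    565591140001782695231907535181487834356202710992712499456 4 = true := by decide +kernel

theorem torusSevenA_holds : torusOK ⟨2, by decide⟩
    580701443183743827324099865798412279059995757411172631
    566066670205639455464799932133467175357996551843686646016 21 = true := by decide +kernel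

theorem torusSevenB_holds : torusOK ⟨3, by decide⟩
    580701443183743827324099865798412279059995757411172631
    566066670205639455464799932133467175357996551843686646016 21 = true := by decide +kernel

theorem torus_lengths : ∀ i : Fin cert.cls.length,
    (cert.cls[i].r = 5 → i.1 = 1 ∧ cert.cls[i].L.length = 5) ∧
      (cert.cls[i].r = 7 → (i.1 = 2 ∨ i.1 = 3) ∧ cert.cls[i].L.length = 7) := by decide +kernel

theorem sevenB_inv : allBelow 24 (fun t => app cert.cls[(⟨3, by decide⟩ : Fin cert.cls.length)].a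
    (app cert.cls[(⟨2, by decide⟩ : Fin cert.cls.length)].a t) == t) = true := by decide +kernel

/-- An element of odd prime order of the automorphism group is inner. -/
theorem exists_inner {x : MulAut M22g} {p : ℕ} (hp : Odd p) (hx : orderOf x = p) :
    ∃ m : M22g, MulAut.conj m = x ∧ orderOf m = p := by
  have hmem : x ∈ Inn M22g := by
    by_contra hne
    have h2 : x * x ∈ Inn M22g := (Subgroup.mul_mem_iff_of_index_two index_inn).2 Iff.rfl
    obtain ⟨k, rfl⟩ := hp
    refine hne ?_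
    have e : x = x ^ (2 * k + 1) * ((x * x) ^ k)⁻¹ := by
      rw [pow_succ', pow_mul, pow_two, mul_inv_cancel_right]
    rw [e, ← hx, pow_orderOf_eq_one, one_mul]
    exact inv_mem (pow_mem h2 k)
  obtain ⟨m, hm⟩ := hmem
  refine ⟨m, hm, ?_⟩
  rw [← orderOf_injective _ conj_injective m]
  exact (congrArg orderOf hm).trans hx

theorem exists_torus {m : M22g} (h : orderOf m = 5 ∨ orderOf m = 7) :
    Nat.card (Subgroup.centralizer ({m} : Set M22g)) = orderOf m ∧
      (∃ σ : MulAut M22g, σ ∉ Inn M22g ∧ σ m = m) ∧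
      (∃ g : M22g, g * m * g⁻¹ = m ^ 2 ∧ (orderOf m = 5 → g ^ 4 = 1)) ∧
      (orderOf m = 7 → ¬ IsConj m m⁻¹) := by
  obtain ⟨i, hi⟩ := exists_isConj_elt valid (g := m) (by rcases h with h | h <;> rw [h] <;> decide)
    (fun e => by rw [e, orderOf_one] at h; omega)
  obtain ⟨c, hc⟩ := isConj_iff.1 hi
  have ho : orderOf m = cert.cls[i].r := by
    rw [← orderOf_elt valid i, ← hc]
    exact ((MulAut.conj c).orderOf_eq m).symm
  have hm : m = c⁻¹ * elt valid i * c := by rw [← hc]; group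
  have hL : cert.cls[i].L.length = orderOf m := by
    rcases h with h | h
    · rw [h, ((torus_lengths i).1 (ho.symm.trans h)).2]
    · rw [h, ((torus_lengths i).2 (ho.symm.trans h)).2]
  have hcard : Nat.card (Subgroup.centralizer ({m} : Set M22g)) = orderOf m := by
    have h1 := CfsgLib.Small.card_conjugates_mul_card_centralizer (G := M22g) m
    have h2 := CfsgLib.Small.card_conjugates_mul_card_centralizer (G := M22g) (elt valid i)
    have e : Nat.card {y : M22g // IsConj m y} = Nat.card {y : M22g // IsConj (elt valid i) y} :=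
      Nat.card_congr (Equiv.subtypeEquivRight fun y => ⟨hi.symm.trans, hi.trans⟩)
    rw [e, ← h2, TwoBlockMathieu.card_centralizer valid i, hL] at h1
    exact Nat.eq_of_mul_eq_mul_left (Nat.card_pos_iff.2 ⟨⟨⟨elt valid i, IsConj.refl _⟩⟩,
      inferInstance⟩) h1
  have hok : ∃ o s n, torusOK i o s n = true ∧ (orderOf m = 5 → n = 4) := by
    rcases h with h | h
    · obtain rfl : i = ⟨1, by decide⟩ := Fin.ext ((torus_lengths i).1 (ho.symm.trans h)).1
      exact ⟨_, _, _, torusFive_holds, fun _ => rfl⟩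
    · rcases ((torus_lengths i).2 (ho.symm.trans h)).1 with e | e
      · obtain rfl : i = ⟨2, by decide⟩ := Fin.ext e
        exact ⟨_, _, _, torusSevenA_holds, fun h5 => absurd (h.symm.trans h5) (by norm_num)⟩
      · obtain rfl : i = ⟨3, by decide⟩ := Fin.ext e
        exact ⟨_, _, _, torusSevenB_holds, fun h5 => absurd (h.symm.trans h5) (by norm_num)⟩
  obtain ⟨o, s, n, hok, hn⟩ := hok
  obtain ⟨⟨σ, hσ, hfix⟩, g, hg, hgn⟩ := torus_of_ok hok
  refine ⟨hcard, ⟨(MulAut.conj c)⁻¹ * σ * MulAut.conj c, ?_, ?_⟩,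
    ⟨c⁻¹ * g * c, ?_, fun h5 => ?_⟩, fun h7 hinv => ?_⟩
  · intro hmem
    refine hσ ?_
    have e : σ = MulAut.conj c * ((MulAut.conj c)⁻¹ * σ * MulAut.conj c) * (MulAut.conj c)⁻¹ := by
      group
    rw [e]
    exact mul_mem (mul_mem ⟨c, rfl⟩ hmem) (inv_mem ⟨c, rfl⟩)
  · show (MulAut.conj c : MulAut M22g)⁻¹ (σ (MulAut.conj c m)) = m
    rw [MulAut.conj_apply, hc, hfix, ← hc, ← MulAut.conj_apply, MulAut.inv_apply_self]
  · calc c⁻¹ * g * c * m * (c⁻¹ * g * c)⁻¹ = c⁻¹ * (g * elt valid i * g⁻¹) * c := by rw [hm]; group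
      _ = c⁻¹ * (elt valid i * elt valid i) * c := by rw [hg, pow_two]
      _ = m ^ 2 := by rw [hm, pow_two]; group
  · rw [hn h5] at hgn
    calc (c⁻¹ * g * c) ^ 4 = c⁻¹ * g ^ 4 * c := by
          simpa using conj_pow (i := 4) (a := c⁻¹) (b := g)
      _ = 1 := by rw [hgn]; group
  · have h1 : IsConj (elt valid i) (elt valid i)⁻¹ :=
      hi.symm.trans (hinv.trans (isConj_iff.2 ⟨c, by rw [hm]; group⟩))
    rcases ((torus_lengths i).2 (ho.symm.trans h7)).1 with e | e
    · obtain rfl : i = ⟨2, by decide⟩ := Fin.ext e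
      rw [← elt_eq_inv valid (j := ⟨3, by decide⟩) sevenB_inv] at h1
      exact absurd (congrArg Fin.val (eq_of_isConj_elt valid h1)) (by decide)
    · obtain rfl : i = ⟨3, by decide⟩ := Fin.ext e
      rw [elt_eq_inv valid (i := ⟨2, by decide⟩) sevenB_inv, inv_inv,
        ← elt_eq_inv valid (j := ⟨3, by decide⟩) sevenB_inv] at h1
      exact absurd (congrArg Fin.val (eq_of_isConj_elt valid h1)) (by decide)

theorem mem_cent_conj {σ : MulAut M22g} {m : M22g} :
    σ ∈ Subgroup.centralizer ({MulAut.conj m} : Set (MulAut M22g)) ↔ σ m = m := by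
  have key : σ * MulAut.conj m * σ⁻¹ = MulAut.conj (σ m) := MulEquiv.ext fun y => by
    show σ (m * σ⁻¹ y * m⁻¹) = σ m * y * (σ m)⁻¹
    rw [map_mul, map_mul, map_inv, MulAut.apply_inv_self]
  rw [Subgroup.mem_centralizer_singleton_iff, ← mul_inv_eq_iff_eq_mul, key,
    conj_injective.eq_iff]

/-- The centraliser in the automorphism group has twice the order. -/
theorem card_centralizer_conj {m : M22g} (h : orderOf m = 5 ∨ orderOf m = 7) :
    Nat.card (Subgroup.centralizer ({MulAut.conj m} : Set (MulAut M22g))) = 2 * orderOf m := by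
  obtain ⟨hcard, ⟨σ, hσ, hfix⟩, -, -⟩ := exists_torus h
  set C := Subgroup.centralizer ({MulAut.conj m} : Set (MulAut M22g)) with hC
  have hidx : ((Inn M22g).subgroupOf C).index = 2 := by
    refine Subgroup.index_eq_two_iff.2 ⟨⟨σ, mem_cent_conj.2 hfix⟩, fun b => ?_⟩
    simp only [Subgroup.mem_subgroupOf, Subgroup.coe_mul]
    have e := Subgroup.mul_mem_iff_of_index_two index_inn (a := (b : MulAut M22g)) (b := σ)
    by_cases hb : (b : MulAut M22g) ∈ Inn M22g
    · exact .inr ⟨hb, fun hbσ => hσ ((e.1 hbσ).1 hb)⟩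
    · exact .inl ⟨e.2 (iff_of_false hb hσ), hb⟩
  have e : (Inn M22g).subgroupOf C ≃ Subgroup.centralizer ({m} : Set M22g) := by
    refine (Equiv.ofBijective (fun g : Subgroup.centralizer ({m} : Set M22g) =>
      (⟨⟨MulAut.conj g.1, ?_⟩, ⟨g.1, rfl⟩⟩ : (Inn M22g).subgroupOf C)) ⟨?_, ?_⟩).symm
    · refine mem_cent_conj.2 ?_
      rw [MulAut.conj_apply, Subgroup.mem_centralizer_singleton_iff.1 g.2, mul_inv_cancel_right]
    · intro a b hab
      exact Subtype.ext (conj_injective (congrArg (fun q => (q.1 : MulAut M22g)) hab))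
    · rintro ⟨⟨τ, hτ⟩, ⟨g, hg⟩⟩
      have hg' : MulAut.conj g = τ := hg
      have := mem_cent_conj.1 hτ
      rw [← hg', MulAut.conj_apply] at this
      exact ⟨⟨g, Subgroup.mem_centralizer_singleton_iff.2 (mul_inv_eq_iff_eq_mul.1 this)⟩,
        Subtype.ext (Subtype.ext hg')⟩
  have := ((Inn M22g).subgroupOf C).card_mul_index
  rw [hidx, Nat.card_congr e, hcard] at this
  omega

/-- The elements of order seven of the automorphism group. -/
theorem aut_seven {x : MulAut M22g} (hx : orderOf x = 7) :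
    Nat.card (Subgroup.centralizer ({x} : Set (MulAut M22g))) = 14 ∧
      (∃ g : MulAut M22g, g * x * g⁻¹ = x ^ 2) ∧ ¬ IsConj x x⁻¹ := by
  obtain ⟨m, rfl, hm⟩ := exists_inner (by decide) hx
  obtain ⟨-, ⟨σ, hσ, hfix⟩, ⟨g, hg, -⟩, hno⟩ := exists_torus (.inr hm)
  refine ⟨by rw [card_centralizer_conj (.inr hm), hm], ⟨MulAut.conj g, ?_⟩, fun hc => hno hm ?_⟩
  · rw [← map_inv, ← map_mul, ← map_mul, hg, map_pow]
  obtain ⟨τ, hτ⟩ := isConj_iff.1 hc
  have hτm : τ m = m⁻¹ := conj_injective (by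
    rw [map_inv, ← hτ]
    refine MulEquiv.ext fun y => ?_
    show τ m * y * (τ m)⁻¹ = τ (m * τ⁻¹ y * m⁻¹)
    rw [map_mul, map_mul, map_inv, MulAut.apply_inv_self])
  have key : ∀ ρ : MulAut M22g, ρ ∈ Inn M22g → ρ m = m⁻¹ → IsConj m m⁻¹ := by
    rintro ρ ⟨c, rfl⟩ e
    exact isConj_iff.2 ⟨c, e⟩
  by_cases hin : τ ∈ Inn M22g
  · exact key τ hin hτm
  · refine key (τ * σ) ((Subgroup.mul_mem_iff_of_index_two index_inn).2 (iff_of_false hin hσ)) ?_
    rw [MulAut.mul_apply, hfix, hτm]

/-- The elements of order five of the automorphism group. -/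
theorem aut_five {x : MulAut M22g} (hx : orderOf x = 5) :
    Nat.card (Subgroup.centralizer ({x} : Set (MulAut M22g))) = 10 ∧
      ∃ g : MulAut M22g, g * x * g⁻¹ = x ^ 2 ∧ g ^ 4 = 1 := by
  obtain ⟨m, rfl, hm⟩ := exists_inner (by decide) hx
  obtain ⟨-, -, ⟨g, hg, h4⟩, -⟩ := exists_torus (.inl hm)
  refine ⟨by rw [card_centralizer_conj (.inl hm), hm], MulAut.conj g, ?_, ?_⟩
  · rw [← map_inv, ← map_mul, ← map_mul, hg, map_pow]
  · rw [← map_pow, h4 hm, map_one]

end CfsgLib.JFourSeven
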