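import Cfsg.Agent.JFourType.Space

/-!
# A linear isometry of order seven of the twelve-dimensional space fixes nothing
-/

set_option autoImplicit false

namespace CfsgLib.JFourSeven

open Module CfsgLib.JFourType CfsgLib.JFourType.Space

variable {V : Type*} [AddCommGroup V] [Module (ZMod 2) V] {u : V ≃ₗ[ZMod 2] V}

theorem iterate_add_fixed {a r : V} (ha : u a = a + r) (hr : u r = r) :
    ∀ k : ℕ, (⇑u)^[k] a = a + (k : ZMod 2) • r
  | 0 => by simp
  | k + 1 => by
    rw [Function.iterate_succ_apply', iterate_add_fixed ha hr k, map_add, map_smul, ha, hr,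
      Nat.cast_succ, add_smul, one_smul]
    abel

/-- For odd period the commutator space contains no fixed vector. -/
theorem range_inf_ker {p : ℕ} (hp : Odd p) (h : ∀ x, (⇑u)^[p] x = x) {r : V}
    (hr : r ∈ LinearMap.range (nMap u)) (hf : u r = r) : r = 0 := by
  obtain ⟨a, rfl⟩ := hr
  have ha : u a = a + nMap u a := apply_eq_add u a
  have h1 := iterate_add_fixed ha hf p
  rw [h] at h1
  obtain ⟨k, rfl⟩ := hp
  have h2 : ((2 * k + 1 : ℕ) : ZMod 2) = 1 := by
    push_cast
    rw [show (2 : ZMod 2) = 0 from rfl]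
    simp
  rw [h2, one_smul] at h1
  simpa using h1

/-- The period divides the number of non-zero vectors of an invariant fixed point free subspace. -/
theorem card_modEq_one [Finite V] {p : ℕ} [Fact p.Prime] (h : ∀ x, (⇑u)^[p] x = x)
    {W : Submodule (ZMod 2) V} (hW : ∀ x ∈ W, u x ∈ W) (hfix : ∀ x ∈ W, u x = x → x = 0) :
    2 ^ finrank (ZMod 2) W ≡ 1 [MOD p] := by
  classical
  have := Fintype.ofFinite W
  let f : Function.End W := fun x => ⟨u x, hW _ x.2⟩
  have hiter : ∀ (k : ℕ) (x : W), ((f ^ k) x : V) = (⇑u)^[k] x := by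
    intro k
    induction k with
    | zero => exact fun x => rfl
    | succ k ih =>
      intro x
      rw [Function.iterate_succ_apply', ← ih x, pow_succ']
      rfl
  have hf : f ^ p ^ 1 = 1 := funext fun x => Subtype.ext (by rw [pow_one, hiter, h]; rfl)
  have hm := Equiv.Perm.card_fixedPoints_modEq hf
  have hone : Fintype.card (Function.fixedPoints f) = 1 := by
    refine Fintype.card_eq_one_iff.2 ⟨⟨0, Subtype.ext (map_zero u)⟩, fun x => ?_⟩
    exact Subtype.ext (Subtype.ext (hfix _ x.1.2 (congrArg Subtype.val x.2)))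
  rw [hone, ← Nat.card_eq_fintype_card, Module.natCard_eq_pow_finrank (K := ZMod 2),
    Nat.card_zmod] at hm
  exact hm

theorem dvd_six_of_modEq {d : ℕ} (hd : d ≤ 12) (he : Even d) (h : 2 ^ d ≡ 1 [MOD 7]) :
    d = 0 ∨ d = 6 ∨ d = 12 := by
  obtain ⟨k, rfl⟩ := he
  have hk : k ≤ 6 := by omega
  interval_cases k <;> simp_all [Nat.ModEq]

/-- No non-trivial linear isometry of period seven fixes a non-zero vector. -/
theorem fixed_seven [Finite V] (S : Space V) (hi : S.IsIso u) (hl : S.Lin u)
    (h7 : ∀ x, (⇑u)^[7] x = x) (hne : u ≠ LinearEquiv.refl (ZMod 2) V) {x : V} (hx : u x = x) :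
    x = 0 := by
  haveI : Fact (Nat.Prime 7) := ⟨by norm_num⟩
  set R := LinearMap.range (nMap u) with hR
  set K := LinearMap.ker (nMap u) with hK
  have hinf : ∀ y ∈ R, u y = y → y = 0 := fun y hy hf => range_inf_ker (by decide) h7 hy hf
  have hRu : ∀ y ∈ R, u y ∈ R := by
    rintro _ ⟨a, rfl⟩
    exact ⟨u a, by rw [nMap_apply, nMap_apply, map_add]⟩
  have hRst : S.Stable R := hl.stable_range
  have hsum : finrank (ZMod 2) R + finrank (ZMod 2) K = 12 := by
    rw [LinearMap.finrank_range_add_finrank_ker, S.dim]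
  have hperp : K ≤ S.orth R := fun w hw => S.mem_orth.2 fun y hy => by
    obtain ⟨a, rfl⟩ := hy
    exact hi.perp (mem_ker_nMap.1 hw) a
  have horth : S.orth R = K := (Submodule.eq_of_le_of_finrank_le hperp (by
    have := S.finrank_orth R
    omega)).symm
  -- the two cubic factors
  let f : V →ₗ[ZMod 2] V :=
    u.toLinearMap ∘ₗ u.toLinearMap ∘ₗ u.toLinearMap + u.toLinearMap + LinearMap.id
  let g : V →ₗ[ZMod 2] V :=
    u.toLinearMap ∘ₗ u.toLinearMap ∘ₗ u.toLinearMap + u.toLinearMap ∘ₗ u.toLinearMap + LinearMap.id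
  have f_apply : ∀ y, f y = u (u (u y)) + u y + y := fun y => rfl
  have g_apply : ∀ y, g y = u (u (u y)) + u (u y) + y := fun y => rfl
  have f_comm : ∀ y, f (u y) = u (f y) := fun y => by simp only [f_apply, map_add]
  have f_om : ∀ y, f (S.om y) = S.om (f y) := fun y => by simp only [f_apply, map_add, hl _]
  have hfR : ∀ y ∈ R, f y ∈ R := fun y hy => by
    rw [f_apply]
    exact add_mem (add_mem (hRu _ (hRu _ (hRu _ hy))) (hRu _ hy)) hy
  have hgR : ∀ y ∈ R, g y ∈ R := fun y hy => by
    rw [g_apply]
    exact add_mem (add_mem (hRu _ (hRu _ (hRu _ hy))) (hRu _ (hRu _ hy))) hy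
  have hgf : ∀ y ∈ R, g (f y) = 0 := by
    intro y hy
    refine hinf _ (hgR _ (hfR _ hy)) ?_
    have e7 : u (u (u (u (u (u (u y)))))) = y := h7 y
    set a3 := u (u (u y)) with ha3
    simp only [f_apply, g_apply, map_add, ← ha3]
    rw [e7]
    simp only [ha3]
    set b1 := u y
    set b2 := u b1
    set b3 := u b2
    set b4 := u b3
    set b5 := u b4
    set b6 := u b5
    have q : ∀ z : V, z + z = 0 := v_add_self
    calc y + b5 + b4 + (b6 + b4 + b3) + (b4 + b2 + b1) =
          y + b1 + b2 + b3 + b4 + b5 + b6 + (b4 + b4) := by abel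
      _ = y + b1 + b2 + b3 + b4 + b5 + b6 + (b3 + b3) := by rw [q, q]
      _ = b6 + b4 + b3 + (b5 + b3 + b2) + (b3 + b1 + y) := by abel
  have hRdim : finrank (ZMod 2) R = 0 ∨ finrank (ZMod 2) R = 6 ∨ finrank (ZMod 2) R = 12 :=
    dvd_six_of_modEq (by omega) (S.even_finrank hRst) (card_modEq_one h7 hRu hinf)
  rcases hRdim with h0 | h6 | h12
  · exact absurd (nMap_eq_zero_iff.1 (LinearMap.range_eq_bot.1 (Submodule.finrank_eq_zero.1 h0))) hne
  · exfalso
    -- one cubic kills all of `R`
    set W := R ⊓ LinearMap.ker f with hW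
    have hWu : ∀ y ∈ W, u y ∈ W := fun y hy => ⟨hRu y hy.1, LinearMap.mem_ker.2 (by
      rw [f_comm, LinearMap.mem_ker.1 hy.2, map_zero])⟩
    have hWst : S.Stable W := fun y hy => ⟨hRst y hy.1, LinearMap.mem_ker.2 (by
      rw [f_om, LinearMap.mem_ker.1 hy.2, map_zero])⟩
    have hWle : finrank (ZMod 2) W ≤ 6 := h6 ▸ Submodule.finrank_mono inf_le_left
    have hcases : (∀ y ∈ R, f y = 0) ∨ (∀ y ∈ R, g y = 0) := by
      rcases dvd_six_of_modEq (by omega) (S.even_finrank hWst)
        (card_modEq_one h7 hWu fun y hy => hinf y hy.1) with e | e | e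
      · right
        intro y hy
        have hinj : Function.Injective (f.restrict hfR) := by
          rw [← LinearMap.ker_eq_bot, eq_bot_iff]
          intro a ha
          have ha' : (a : V) ∈ W := ⟨a.2, congrArg Subtype.val (LinearMap.mem_ker.1 ha)⟩
          rw [Submodule.finrank_eq_zero.1 e] at ha'
          exact Submodule.mem_bot _ |>.2 (Subtype.ext ((Submodule.mem_bot _).1 ha'))
        obtain ⟨⟨a, ha⟩, hae⟩ := (Finite.injective_iff_surjective.1 hinj) ⟨y, hy⟩
        have hae' : f a = y := congrArg Subtype.val hae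
        rw [← hae']
        exact hgf a ha
      · left
        intro y hy
        have : W = R := Submodule.eq_of_le_of_finrank_le inf_le_left (by omega)
        exact LinearMap.mem_ker.1 (this.symm ▸ hy : y ∈ W).2
      · omega
    -- then `R` is totally isotropic
    have hkey : ∀ a ∈ R, ∀ b ∈ R, S.B a (g b) = S.B (f a) (u (u (u b))) := by
      intro a _ b _
      rw [f_apply, g_apply]
      simp only [map_add, LinearMap.add_apply, hi.B]
      abel
    have hboth : ∀ y ∈ R, f y = 0 → g y = 0 → y = 0 := by
      intro y hy hf0 hg0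
      refine hinf y hy ?_
      rw [f_apply] at hf0
      rw [g_apply] at hg0
      have h1 : u (u y) + u y = 0 := by
        calc u (u y) + u y = u (u y) + u y + (u (u (u y)) + u (u (u y))) + (y + y) := by
              rw [v_add_self (u (u (u y))), v_add_self y]; abel
          _ = (u (u (u y)) + u y + y) + (u (u (u y)) + u (u y) + y) := by abel
          _ = 0 := by rw [hf0, hg0, add_zero]
      exact u.injective (v_eq_of_add_eq_zero h1)
    have hbot : R = ⊥ := by
      rw [eq_bot_iff]
      intro a ha
      rw [Submodule.mem_bot]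
      have horthR : a ∈ S.orth R → a = 0 := fun h => hinf a ha (by
        rw [horth, hK] at h
        exact mem_ker_nMap.1 h)
      refine horthR ?_
      rcases hcases with hc | hc
      · have hinj : Function.Injective (g.restrict hgR) := by
          rw [← LinearMap.ker_eq_bot, eq_bot_iff]
          intro b hb
          exact (Submodule.mem_bot _).2 (Subtype.ext (hboth b b.2 (hc b b.2)
            (congrArg Subtype.val (LinearMap.mem_ker.1 hb))))
        refine S.mem_orth'.2 fun b hb => ?_
        obtain ⟨⟨c, hc'⟩, hce⟩ := (Finite.injective_iff_surjective.1 hinj) ⟨b, hb⟩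
        have hce' : g c = b := congrArg Subtype.val hce
        rw [← hce', hkey a ha c hc', hc a ha, map_zero, LinearMap.zero_apply]
      · have hinj : Function.Injective (f.restrict hfR) := by
          rw [← LinearMap.ker_eq_bot, eq_bot_iff]
          intro b hb
          exact (Submodule.mem_bot _).2 (Subtype.ext (hboth b b.2
            (congrArg Subtype.val (LinearMap.mem_ker.1 hb)) (hc b b.2)))
        refine S.mem_orth.2 fun b hb => ?_
        obtain ⟨⟨c, hc'⟩, hce⟩ := (Finite.injective_iff_surjective.1 hinj) ⟨b, hb⟩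
        have hce' : f c = b := congrArg Subtype.val hce
        have hsym : ∀ y ∈ R, u.symm y ∈ R := fun y hy => by
          have h6' : u.symm y = (⇑u)^[6] y := u.injective (by
            rw [u.apply_symm_apply, ← Function.iterate_succ_apply' (⇑u) 6 y, h7])
          rw [h6']
          exact Set.MapsTo.iterate (s := (R : Set V)) hRu 6 hy
        have ha' := hsym _ (hsym _ (hsym _ ha))
        have e := hkey c hc' _ ha'
        rw [u.apply_symm_apply, u.apply_symm_apply, u.apply_symm_apply, hce', hc _ ha',
          map_zero] at e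
        exact e.symm
    rw [hbot, finrank_bot] at h6
    omega
  · have : K = ⊥ := Submodule.finrank_eq_zero.1 (by omega)
    exact (Submodule.mem_bot (ZMod 2)).1 (this ▸ mem_ker_nMap.2 hx)

end CfsgLib.JFourSeven
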