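import Cfsg.Agent.JFourType.Shapes
import Cfsg.Agent.JFourSeven.M22Torus
import Cfsg.Agent.JFourSeven.FixedSeven

/-!
# Elements of order five and seven in the centralizer of the involution
-/

set_option autoImplicit false
set_option linter.style.haveILetI false

namespace CfsgLib.JFourSeven

open Cfsg CfsgLib.JFourType CfsgLib.JFourType.Shape

variable {G : Type*} [Group G] [Finite G] {S : Shape G}

theorem piv_conj {m x : G} (hm : m ∈ S.H) (hx : x ∈ S.H) :
    S.piv (m * x * m⁻¹) = S.piv m * S.piv x * (S.piv m)⁻¹ := by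
  rw [piv_mul (mul_mem hm hx) (inv_mem hm), piv_mul hm hx, piv_inv hm]

/-- Elements of `C` of period prime to six with equal images are equal. -/
theorem eq_of_piv {c d : G} (hc : c ∈ S.C) (hd : d ∈ S.C) {q : ℕ} (hq : Nat.Coprime q 6)
    (hcq : c ^ q = 1) (hdq : d ^ q = 1) (h : S.piv c = S.piv d) : c = d := by
  have hw : S.piv (c⁻¹ * d) = 1 := by
    rw [piv_mul (inv_mem (S.C_le_H hc)) (S.C_le_H hd), piv_inv (S.C_le_H hc), h, inv_mul_cancel]
  obtain ⟨hcz, hcp⟩ := S.mem_C.1 hc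
  have hzp : Commute S.z S.p := (show Commute S.p S.z from S.p_comm).symm
  have hp6 : ∀ k : ℕ, (S.p ^ k) ^ 6 = 1 := fun k => by
    rw [← pow_mul, show k * 6 = 3 * (k * 2) by ring, pow_mul, S.p_pow_three, one_pow]
  obtain ⟨k, -, hk⟩ := eq_of_piv_eq_one (mul_mem (inv_mem hc) hd) hw
  have hw6 : (c⁻¹ * d) ^ 6 = 1 := by
    rcases hk with e | e <;> rw [e]
    · exact hp6 k
    · rw [(hzp.pow_right k).mul_pow, hp6, mul_one, show (6 : ℕ) = 2 * 3 from rfl, pow_mul, pow_two,
        S.z_mul_z, one_pow]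
  have hcom : Commute c (c⁻¹ * d) := by
    rcases hk with e | e <;> rw [e]
    · exact (show Commute c S.p from hcp).pow_right k
    · exact (show Commute c S.z from hcz).mul_right ((show Commute c S.p from hcp).pow_right k)
  have hwq : (c⁻¹ * d) ^ q = 1 := by
    have := hcom.mul_pow q
    rw [mul_inv_cancel_left, hcq, hdq, one_mul] at this
    exact this.symm
  have h1 : c⁻¹ * d = 1 := by simpa [hq.gcd_eq_one] using pow_gcd_eq_one.2 ⟨hwq, hw6⟩
  exact inv_mul_eq_one.1 h1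

/-- The kernel part of a centralizer. -/
theorem card_ker_cent {x : G} (hx : x ∈ S.C) :
    Nat.card {g : G // g ∈ S.H ∧ S.piv g = 1 ∧ Commute g x} =
      3 * Nat.card ↥(S.E ⊓ Subgroup.centralizer ({x} : Set G)) := by
  have hxp : ∀ k : ℕ, Commute (S.p ^ k) x := fun k =>
    ((show Commute x S.p from (S.mem_C.1 hx).2).pow_right k).symm
  let f : Fin 3 × ↥(S.E ⊓ Subgroup.centralizer ({x} : Set G)) →
      {g : G // g ∈ S.H ∧ S.piv g = 1 ∧ Commute g x} := fun a =>
    ⟨a.2.1 * S.p ^ (a.1 : ℕ), mul_mem (S.E_le_H a.2.2.1) (S.p_pow_mem _),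
      (piv_eq_one (mul_mem (S.E_le_H a.2.2.1) (S.p_pow_mem _))).2 ⟨_, a.2.2.1, _, rfl⟩,
      (show Commute (a.2.1) x from Subgroup.mem_centralizer_singleton_iff.1 a.2.2.2).mul_left
        (hxp _)⟩
  have hf : Function.Bijective f := by
    constructor
    · rintro ⟨i, e, he⟩ ⟨j, e', he'⟩ h
      have h' : e * S.p ^ (i : ℕ) = e' * S.p ^ (j : ℕ) := congrArg Subtype.val h
      have hmem : S.p ^ ((i : ℕ) + 2 * (j : ℕ)) ∈ S.E := by
        have h3 : S.p ^ (2 * (j : ℕ)) = (S.p ^ (j : ℕ))⁻¹ := by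
          refine eq_inv_of_mul_eq_one_left ?_
          rw [← pow_add, show 2 * (j : ℕ) + j = 3 * j by ring, pow_mul, S.p_pow_three, one_pow]
        have e2 : e⁻¹ * e' = S.p ^ (i : ℕ) * (S.p ^ (j : ℕ))⁻¹ := by
          rw [inv_mul_eq_iff_eq_mul, ← mul_assoc, h', mul_inv_cancel_right]
        rw [pow_add, h3, ← e2]
        exact mul_mem (inv_mem he.1) he'.1
      have h1 := S.p_pow_mem_E hmem
      have hd := orderOf_dvd_of_pow_eq_one h1
      rw [S.p3] at hd
      have hij : i = j := Fin.ext (by omega)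
      subst hij
      exact Prod.ext rfl (Subtype.ext (mul_right_cancel h'))
    · rintro ⟨g, hg, hpiv, hgx⟩
      obtain ⟨e, he, k, rfl⟩ := (piv_eq_one hg).1 hpiv
      rw [S.p_pow_mod] at hgx
      have hex : Commute e x := by
        have := hgx.mul_left (hxp (k % 3)).inv_left
        rwa [mul_inv_cancel_right] at this
      exact ⟨(⟨k % 3, Nat.mod_lt _ (by norm_num)⟩,
        ⟨e, he, Subgroup.mem_centralizer_singleton_iff.2 hex⟩),
        Subtype.ext (by show e * S.p ^ (k % 3) = e * S.p ^ k; rw [← S.p_pow_mod])⟩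
  rw [← Nat.card_eq_of_bijective f hf, Nat.card_prod, Nat.card_fin]

/-- The order of a centralizer in the centralizer of the involution. -/
theorem card_cent {x : G} (hx : x ∈ S.C) {q : ℕ} (hq : Nat.Coprime q 6) (hxq : x ^ q = 1) :
    Nat.card ↥(S.H ⊓ Subgroup.centralizer ({x} : Set G)) =
      3 * Nat.card ↥(S.E ⊓ Subgroup.centralizer ({x} : Set G)) *
        Nat.card (Subgroup.centralizer ({S.piv x} : Set (MulAut M22g))) := by
  set D := S.H ⊓ Subgroup.centralizer ({x} : Set G) with hD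
  have hxH := S.C_le_H hx
  let ρ : ↥D →* Subgroup.centralizer ({S.piv x} : Set (MulAut M22g)) :=
    MonoidHom.mk' (fun g => ⟨S.piv g, by
      rw [Subgroup.mem_centralizer_singleton_iff, ← piv_mul g.2.1 hxH, ← piv_mul hxH g.2.1,
        Subgroup.mem_centralizer_singleton_iff.1 g.2.2]⟩)
      fun g h => Subtype.ext (piv_mul g.2.1 h.2.1)
  have hsurj : Function.Surjective ρ := by
    rintro ⟨σ, hσ⟩
    obtain ⟨m, hm, rfl⟩ := piv_surj (S := S) σ
    obtain ⟨e, he, n, hn, rfl, hnp⟩ := decompose hm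
    rw [piv_mul (S.E_le_H he) hn, piv_E he, one_mul] at hσ
    have hxp : Commute x S.p := (S.mem_C.1 hx).2
    have hd : n * x * n⁻¹ ∈ S.C := by
      refine S.mem_C.2 ⟨S.mem_H.1 (mul_mem (mul_mem hn hxH) (inv_mem hn)), ?_⟩
      rcases hnp with h | h
      · exact (((show Commute n S.p from h).mul_left hxp).mul_left
          (show Commute n S.p from h).inv_left).eq
      · have h2 : n * S.p⁻¹ = S.p * n := by
          have := congrArg (·⁻¹) h
          simp only [mul_inv_rev, inv_inv, ← mul_assoc] at this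
          exact mul_inv_eq_iff_eq_mul.1 this
        have h1 : n⁻¹ * S.p = S.p⁻¹ * n⁻¹ := by
          rw [inv_mul_eq_iff_eq_mul, ← mul_assoc, h2, mul_inv_cancel_right]
        calc n * x * n⁻¹ * S.p = n * x * (n⁻¹ * S.p) := by group
          _ = n * (x * S.p⁻¹) * n⁻¹ := by rw [h1]; group
          _ = n * (S.p⁻¹ * x) * n⁻¹ := by rw [hxp.inv_right.eq]
          _ = (n * S.p⁻¹) * x * n⁻¹ := by group
          _ = S.p * (n * x * n⁻¹) := by rw [h2]; group
    have heq : x = n * x * n⁻¹ := eq_of_piv hx hd hq hxq (by rw [conj_pow, hxq]; simp) (by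
      rw [piv_conj hn hxH, Subgroup.mem_centralizer_singleton_iff.1 hσ, mul_inv_cancel_right])
    refine ⟨⟨n, hn, Subgroup.mem_centralizer_singleton_iff.2
      (mul_inv_eq_iff_eq_mul.1 heq.symm)⟩, Subtype.ext ?_⟩
    show S.piv n = S.piv (e * n)
    rw [piv_mul (S.E_le_H he) hn, piv_E he, one_mul]
  have hker : Nat.card ρ.ker = 3 * Nat.card ↥(S.E ⊓ Subgroup.centralizer ({x} : Set G)) := by
    rw [← card_ker_cent hx]
    exact Nat.card_congr
      { toFun := fun g => ⟨g.1.1, g.1.2.1, congrArg Subtype.val g.2,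
          Subgroup.mem_centralizer_singleton_iff.1 g.1.2.2⟩
        invFun := fun g => ⟨⟨g.1, g.2.1, Subgroup.mem_centralizer_singleton_iff.2 g.2.2.2⟩,
          Subtype.ext g.2.2.1⟩
        left_inv := fun g => rfl
        right_inv := fun g => rfl }
  have := ρ.ker.card_mul_index
  rw [hker, Subgroup.index_ker, MonoidHom.range_eq_top.2 hsurj, Subgroup.card_top] at this
  exact this.symm

theorem card_aut : Nat.card (MulAut M22g) = 887040 := by
  have h := (Inn M22g).card_mul_index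
  rw [index_inn] at h
  have e : Nat.card (Inn M22g) = 443520 := by
    rw [← CfsgLib.Mathieu.card_SporM22]
    exact (Nat.card_congr (Equiv.ofInjective _ conj_injective)).symm
  omega

theorem card_H : Nat.card S.H = 2 ^ 13 * 3 * 887040 := by
  have h := card_cent (S := S) (one_mem _) (q := 1) (Nat.coprime_one_left 6) (one_pow 1)
  have e1 : Subgroup.centralizer ({(1 : G)} : Set G) = ⊤ :=
    eq_top_iff.2 fun g _ => Subgroup.mem_centralizer_singleton_iff.2 (by simp)
  have e2 : Subgroup.centralizer ({S.piv 1} : Set (MulAut M22g)) = ⊤ :=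
    eq_top_iff.2 fun g _ => Subgroup.mem_centralizer_singleton_iff.2 (by rw [piv_one]; simp)
  rw [e1, e2, inf_top_eq, inf_top_eq, Subgroup.card_top, card_aut, S.card_E] at h
  rw [h, mul_comm (2 ^ 13 : ℕ) 3]

theorem piv_ne_one {x : G} (hx : x ∈ S.C) {q : ℕ} (hq : Nat.Coprime q 6) (hxq : x ^ q = 1)
    (h1 : x ≠ 1) : S.piv x ≠ 1 := fun e =>
  h1 (eq_of_piv hx (one_mem _) hq hxq (one_pow q) (e.trans piv_one.symm))

theorem orderOf_piv {x : G} (hx : x ∈ S.C) {q : ℕ} [Fact q.Prime] (hq : Nat.Coprime q 6)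
    (ho : orderOf x = q) : orderOf (S.piv x) = q := by
  have hxq : x ^ q = 1 := ho ▸ pow_orderOf_eq_one x
  refine orderOf_eq_prime (by rw [← piv_pow (S.C_le_H hx), hxq, piv_one]) ?_
  exact piv_ne_one hx hq hxq (fun e => by
    rw [e, orderOf_one] at ho
    exact absurd ho.symm (Fact.out : q.Prime).ne_one)

/-- An element of order five or seven is conjugate into `C`. -/
theorem exists_conj_C {q : ℕ} [Fact q.Prime] (hq : q = 5 ∨ q = 7) {y : G} (hy : y ∈ S.H)
    (ho : orderOf y = q) : ∃ h ∈ S.H, h * y * h⁻¹ ∈ S.C := by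
  have hdvd : q ∣ Nat.card S.C := by
    have h1 : q ∣ Nat.card M22g := by
      rw [CfsgLib.Mathieu.card_SporM22]; rcases hq with rfl | rfl <;> norm_num
    refine h1.trans ?_
    have h2 := S.barC.ker.card_mul_index
    rw [Subgroup.index_ker, MonoidHom.range_eq_top.2 barC_surj, Subgroup.card_top] at h2
    exact ⟨_, by rw [← h2, mul_comm]⟩
  obtain ⟨c, hc⟩ := exists_prime_orderOf_dvd_card' (G := S.C) q hdvd
  set P := Subgroup.zpowers (⟨c.1, S.C_le_H c.2⟩ : S.H) with hP
  set R := Subgroup.zpowers (⟨y, hy⟩ : S.H) with hR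
  have hcardP : Nat.card P = q := by
    rw [hP, Nat.card_zpowers, ← Subgroup.orderOf_coe]
    exact (Subgroup.orderOf_coe c).trans hc
  have hcardR : Nat.card R = q := by
    rw [hR, Nat.card_zpowers, ← Subgroup.orderOf_coe]
    exact ho
  have hidx : ∀ T : Subgroup S.H, Nat.card T = q → ¬ q ∣ T.index := by
    intro T hT hd
    have := T.card_mul_index
    rw [hT, card_H] at this
    obtain ⟨k, hk⟩ := hd
    rw [hk] at this
    rcases hq with rfl | rfl <;> omega
  have hp' : ∀ T : Subgroup S.H, Nat.card T = q → IsPGroup q T := fun T hT =>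
    IsPGroup.of_card (n := 1) (by rw [pow_one, hT])
  obtain ⟨g, hg⟩ := MulAction.exists_smul_eq S.H ((hp' R hcardR).toSylow (hidx R hcardR))
    ((hp' P hcardP).toSylow (hidx P hcardP))
  have hmem : g * (⟨y, hy⟩ : S.H) * g⁻¹ ∈ P := by
    have hval : ((g • (hp' R hcardR).toSylow (hidx R hcardR) : Sylow q S.H) : Subgroup S.H) = P := by
      rw [hg]; rfl
    rw [← hval, Sylow.coe_subgroup_smul]
    have := Subgroup.smul_mem_pointwise_smul (⟨y, hy⟩ : S.H) (MulAut.conj g) _
      (show (⟨y, hy⟩ : S.H) ∈ ((hp' R hcardR).toSylow (hidx R hcardR) : Subgroup S.H) from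
        Subgroup.mem_zpowers _)
    rwa [MulAut.smul_def, MulAut.conj_apply] at this
  obtain ⟨k, hk⟩ := Subgroup.mem_zpowers_iff.1 hmem
  refine ⟨g, g.2, ?_⟩
  have e := congrArg Subtype.val hk
  simp only [Subgroup.coe_zpow, Subgroup.coe_mul, Subgroup.coe_inv] at e
  rw [← e]
  exact zpow_mem c.2 k

/-- One may assume that a given element of order five or seven commutes with `p`. -/
theorem exists_shape {q : ℕ} [Fact q.Prime] (hq : q = 5 ∨ q = 7) {y : G} (hy : y ∈ S.H)
    (ho : orderOf y = q) :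
    ∃ T : Shape G, T.z = S.z ∧ y ∈ T.C ∧ ∃ h ∈ S.H, T.p = h⁻¹ * S.p * h := by
  obtain ⟨h, hh, hc⟩ := exists_conj_C hq hy ho
  have hz : h⁻¹ * S.z * h = S.z := by
    rw [mul_assoc, ← S.mem_H.1 hh, inv_mul_cancel_left]
  refine ⟨S.conj h⁻¹, ?_, ?_, h, hh, ?_⟩
  · show h⁻¹ * S.z * h⁻¹⁻¹ = S.z
    rw [inv_inv, hz]
  · obtain ⟨h1, h2⟩ := S.mem_C.1 hc
    refine (S.conj h⁻¹).mem_C.2 ⟨?_, ?_⟩
    · show y * (h⁻¹ * S.z * h⁻¹⁻¹) = (h⁻¹ * S.z * h⁻¹⁻¹) * y
      rw [inv_inv, hz, S.mem_H.1 hy]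
    · show y * (h⁻¹ * S.p * h⁻¹⁻¹) = (h⁻¹ * S.p * h⁻¹⁻¹) * y
      calc y * (h⁻¹ * S.p * h⁻¹⁻¹) = h⁻¹ * (h * y * h⁻¹ * S.p) * h := by group
        _ = h⁻¹ * (S.p * (h * y * h⁻¹)) * h := by rw [h2]
        _ = h⁻¹ * S.p * h⁻¹⁻¹ * y := by group
  · show h⁻¹ * S.p * h⁻¹⁻¹ = _
    rw [inv_inv]

/-- An element of order seven of `C` centralises only the centre of `E`. -/
theorem E_cent_seven {x : G} (hx : x ∈ S.C) (h7 : orderOf x = 7) {e : G} (he : e ∈ S.E)
    (hec : Commute e x) : e = 1 ∨ e = S.z := by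
  haveI : Fact (Nat.Prime 7) := ⟨by norm_num⟩
  haveI : Finite S.Vec := Nat.finite_of_card_ne_zero (by rw [card_vec]; norm_num)
  have hxH := S.C_le_H hx
  have hx7 : x ^ 7 = 1 := h7 ▸ pow_orderOf_eq_one x
  have hpiv := piv_ne_one hx (q := 7) (by decide) hx7 (fun e => by simp [e] at h7)
  refine (pr_eq_zero he).1 (fixed_seven S.space (isIso_cj hxH) (lin_of_C hx) (fun v => ?_)
    (cj_ne_refl hxH fun hE => hpiv (piv_E hE)) ?_)
  · rw [← S.cj_pow hxH 7 v, hx7, S.cj_one]
  · rw [S.cj_pr hxH he, ← hec.eq, mul_inv_cancel_right]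

/-- The centralizer of an element of order seven. -/
theorem card_cent_seven {x : G} (hx : x ∈ S.C) (h7 : orderOf x = 7) :
    Nat.card ↥(S.H ⊓ Subgroup.centralizer ({x} : Set G)) = 84 := by
  haveI : Fact (Nat.Prime 7) := ⟨by norm_num⟩
  rw [card_cent hx (q := 7) (by decide) (h7 ▸ pow_orderOf_eq_one x),
    (aut_seven (orderOf_piv hx (by decide) h7)).1]
  have e : S.E ⊓ Subgroup.centralizer ({x} : Set G) = Subgroup.zpowers S.z := by
    refine le_antisymm (fun g hg => ?_) (Subgroup.zpowers_le.2 ⟨S.sub.z_mem,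
      Subgroup.mem_centralizer_singleton_iff.2 (S.mem_C.1 hx).1.symm⟩)
    rcases E_cent_seven hx h7 hg.1 (Subgroup.mem_centralizer_singleton_iff.1 hg.2) with e | e <;>
      rw [e]
    exacts [one_mem _, Subgroup.mem_zpowers _]
  rw [e, Nat.card_zpowers, S.sub.two]

/-- The only involution commuting with `p` and with an element of order seven of `C`. -/
theorem eq_z_of_commute {x g : G} (hx : x ∈ S.C) (h7 : orderOf x = 7) (hg : g ∈ S.C)
    (hgx : Commute g x) (hg2 : g * g = 1) (hg1 : g ≠ 1) : g = S.z := by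
  haveI : Fact (Nat.Prime 7) := ⟨by norm_num⟩
  obtain ⟨m, hm⟩ : ∃ m : M22g, MulAut.conj m = S.piv g := inner_of_C hg
  obtain ⟨a, ha⟩ : ∃ a : M22g, MulAut.conj a = S.piv x := inner_of_C hx
  have hma : m * a = a * m := conj_injective (by
    rw [map_mul, map_mul, hm, ha, ← piv_mul (S.C_le_H hg) (S.C_le_H hx),
      ← piv_mul (S.C_le_H hx) (S.C_le_H hg), hgx.eq])
  have ha7 : orderOf a = 7 := by
    rw [← orderOf_injective _ conj_injective a]
    exact (congrArg orderOf ha).trans (orderOf_piv hx (by decide) h7)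
  have hC := (exists_torus (.inr ha7)).1
  rw [ha7] at hC
  have hm7 : m ^ 7 = 1 := by
    have := pow_card_eq_one' (x := (⟨m, Subgroup.mem_centralizer_singleton_iff.2 hma⟩ :
      Subgroup.centralizer ({a} : Set M22g)))
    rw [hC] at this
    exact congrArg Subtype.val this
  have hm2 : m ^ 2 = 1 := conj_injective (by
    rw [map_pow, hm, map_one, pow_two, ← piv_mul (S.C_le_H hg) (S.C_le_H hg), hg2, piv_one])
  have hm1 : m = 1 := by simpa using pow_gcd_eq_one.2 ⟨hm7, hm2⟩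
  obtain ⟨k, hk3, hk⟩ := eq_of_piv_eq_one hg (by rw [← hm, hm1, map_one])
  have hzp : Commute S.z (S.p ^ k) := ((show Commute S.p S.z from S.p_comm).symm).pow_right k
  have hp2 : S.p ^ (2 * k) = 1 := by
    rcases hk with e | e <;> rw [e] at hg2
    · rwa [← pow_add, ← two_mul] at hg2
    · rwa [← pow_two, hzp.mul_pow, pow_two S.z, S.z_mul_z, one_mul, ← pow_mul, mul_comm] at hg2
  have hd := orderOf_dvd_of_pow_eq_one hp2
  rw [S.p3] at hd
  have hk0 : k = 0 := by omega
  subst hk0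
  simp only [pow_zero, mul_one] at hk
  exact hk.resolve_left hg1

/-- Squaring of an element of order seven is induced inside the centralizer of the involution. -/
theorem exists_sq_conj {x : G} (hx : x ∈ S.C) (h7 : orderOf x = 7) :
    ∃ g ∈ S.H, g * x * g⁻¹ = x ^ 2 := by
  haveI : Fact (Nat.Prime 7) := ⟨by norm_num⟩
  have hx7 : x ^ 7 = 1 := h7 ▸ pow_orderOf_eq_one x
  obtain ⟨τ, hτ⟩ := (aut_seven (orderOf_piv hx (by decide) h7)).2.1
  obtain ⟨m, hm, rfl⟩ := piv_surj (S := S) τ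
  obtain ⟨e, he, n, hn, rfl, hnp⟩ := decompose hm
  rw [piv_mul (S.E_le_H he) hn, piv_E he, one_mul] at hτ
  have hxp : Commute x S.p := (S.mem_C.1 hx).2
  refine ⟨n, hn, eq_of_piv (q := 7) ?_ (pow_mem hx 2) (by decide)
    (by rw [conj_pow, hx7]; simp) (by rw [← pow_mul, mul_comm, pow_mul, hx7, one_pow]) (by
      rw [piv_conj hn (S.C_le_H hx), hτ, piv_pow (S.C_le_H hx)])⟩
  refine S.mem_C.2 ⟨S.mem_H.1 (mul_mem (mul_mem hn (S.C_le_H hx)) (inv_mem hn)), ?_⟩
  rcases hnp with h | h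
  · exact (((show Commute n S.p from h).mul_left hxp).mul_left
      (show Commute n S.p from h).inv_left).eq
  · have h2 : n * S.p⁻¹ = S.p * n := by
      have := congrArg (·⁻¹) h
      simp only [mul_inv_rev, inv_inv, ← mul_assoc] at this
      exact mul_inv_eq_iff_eq_mul.1 this
    have h1 : n⁻¹ * S.p = S.p⁻¹ * n⁻¹ := by
      rw [inv_mul_eq_iff_eq_mul, ← mul_assoc, h2, mul_inv_cancel_right]
    calc n * x * n⁻¹ * S.p = n * x * (n⁻¹ * S.p) := by group
      _ = n * (x * S.p⁻¹) * n⁻¹ := by rw [h1]; group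
      _ = n * (S.p⁻¹ * x) * n⁻¹ := by rw [hxp.inv_right.eq]
      _ = (n * S.p⁻¹) * x * n⁻¹ := by group
      _ = S.p * (n * x * n⁻¹) := by rw [h2]; group

/-- An element of order seven is not inverted inside the centralizer of the involution. -/
theorem not_inverted {x g : G} (hx : x ∈ S.C) (h7 : orderOf x = 7) (hg : g ∈ S.H)
    (h : g * x * g⁻¹ = x⁻¹) : False := by
  haveI : Fact (Nat.Prime 7) := ⟨by norm_num⟩
  refine (aut_seven (orderOf_piv hx (by decide) h7)).2.2 (isConj_iff.2 ⟨S.piv g, ?_⟩)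
  rw [← piv_conj hg (S.C_le_H hx), h, piv_inv (S.C_le_H hx)]

end CfsgLib.JFourSeven
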