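import Mathlib
import Cfsg.Prelude.Def_TwoFusion

/-!
# Counting lemmas for the local analysis at the prime seven

Orbits under conjugation by a subgroup, fixed points of an element of prime power order, conjugate
elements of prime order, quotients by a central subgroup of odd order, and products with a
complement.
-/

set_option autoImplicit false
set_option linter.style.haveILetI false
set_option linter.unusedSectionVars false

namespace CfsgLib.JFourSeven

open Cfsg

variable {G : Type*} [Group G] [Finite G]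

/-- Orbit and stabilizer for conjugation by a subgroup. -/
theorem ncard_orbit_mul_card (M : Subgroup G) (a : G) :
    Set.ncard {v : G | ∃ n ∈ M, n * a * n⁻¹ = v} *
      Nat.card ↥(M ⊓ Subgroup.centralizer ({a} : Set G)) = Nat.card M := by
  letI : MulAction M G := MulAction.compHom G (MulAut.conj.comp M.subtype)
  have hsm : ∀ (n : M) (v : G), n • v = (n : G) * v * (n : G)⁻¹ := fun n v => rfl
  have horb : MulAction.orbit M a = {v : G | ∃ n ∈ M, n * a * n⁻¹ = v} := by
    ext v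
    simp only [MulAction.mem_orbit_iff, hsm, Subtype.exists, exists_prop, Set.mem_ofPred_eq]
  have hstab : Nat.card (MulAction.stabilizer M a) =
      Nat.card ↥(M ⊓ Subgroup.centralizer ({a} : Set G)) :=
    Nat.card_congr
      { toFun := fun n => ⟨n.1, n.1.2, Subgroup.mem_centralizer_singleton_iff.2
          (mul_inv_eq_iff_eq_mul.1 ((hsm n.1 a).symm.trans n.2))⟩
        invFun := fun n => ⟨⟨n.1, n.2.1⟩, (hsm _ a).trans
          (mul_inv_eq_iff_eq_mul.2 (Subgroup.mem_centralizer_singleton_iff.1 n.2.2))⟩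
        left_inv := fun n => rfl
        right_inv := fun n => rfl }
  rw [← horb, ← MulAction.index_stabilizer, ← hstab, mul_comm, Subgroup.card_mul_index]

/-- The fixed points of an element of prime power order on an invariant set. -/
theorem card_modEq_fixed {q : ℕ} [Fact q.Prime] {x : G} {k : ℕ} (hx : x ^ q ^ k = 1) (s : Set G)
    (hs : ∀ v ∈ s, x * v * x⁻¹ ∈ s) :
    Nat.card s ≡ Nat.card {v : G // v ∈ s ∧ Commute x v} [MOD q] := by
  have hpow : ∀ j : ℕ, ∀ v ∈ s, x ^ j * v * (x ^ j)⁻¹ ∈ s := by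
    intro j
    induction j with
    | zero => simp
    | succ j ih =>
      intro v hv
      have := hs _ (ih v hv)
      rwa [show x ^ (j + 1) * v * (x ^ (j + 1))⁻¹ = x * (x ^ j * v * (x ^ j)⁻¹) * x⁻¹ by
        rw [pow_succ']; group]
  have hmem : ∀ (g : Subgroup.zpowers x), ∀ v ∈ s, (g : G) * v * (g : G)⁻¹ ∈ s := by
    rintro ⟨g, hg⟩ v hv
    obtain ⟨j, rfl⟩ := (isOfFinOrder_of_finite x).mem_powers_iff_mem_zpowers.2 hg
    exact hpow j v hv
  letI : MulAction (Subgroup.zpowers x) s :=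
    { smul := fun g v => ⟨g * v * (g : G)⁻¹, hmem g v v.2⟩
      one_smul := fun v => Subtype.ext (by
        show ((1 : Subgroup.zpowers x) : G) * v * ((1 : Subgroup.zpowers x) : G)⁻¹ = v
        simp)
      mul_smul := fun g h v => Subtype.ext (by
        show ((g * h : Subgroup.zpowers x) : G) * v * ((g * h : Subgroup.zpowers x) : G)⁻¹ =
          g * ((h : G) * v * (h : G)⁻¹) * (g : G)⁻¹
        rw [Subgroup.coe_mul]; group) }
  have hsm : ∀ (g : Subgroup.zpowers x) (v : s),
      ((g • v : s) : G) = (g : G) * v * (g : G)⁻¹ := fun g v => rfl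
  have hp : IsPGroup q (Subgroup.zpowers x) := by
    rintro ⟨g, j, rfl⟩
    refine ⟨k, Subtype.ext ?_⟩
    show (x ^ j) ^ q ^ k = 1
    rw [← zpow_natCast, ← zpow_mul, mul_comm, zpow_mul, zpow_natCast, hx, one_zpow]
  refine (hp.card_modEq_card_fixedPoints (α := s)).trans (congrArg (· % q) ?_)
  refine Nat.card_congr
    { toFun := fun v => ⟨v.1.1, v.1.2, ?_⟩
      invFun := fun v => ⟨⟨v.1, v.2.1⟩, fun g => Subtype.ext ?_⟩
      left_inv := fun v => rfl
      right_inv := fun v => rfl }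
  · have := congrArg Subtype.val (v.2 ⟨x, Subgroup.mem_zpowers x⟩)
    rw [hsm] at this
    exact mul_inv_eq_iff_eq_mul.1 this
  · rw [hsm]
    obtain ⟨j, hj⟩ := g.2
    have : Commute (g : G) v.1 := by
      rw [← hj]
      exact v.2.2.zpow_left j
    rw [this.eq, mul_inv_cancel_right]

/-- Elements of order a prime dividing a subgroup only once generate conjugate subgroups. -/
theorem exists_conj_mem_zpowers {q : ℕ} [Fact q.Prime] {D : Subgroup G}
    (hD : ¬ q ^ 2 ∣ Nat.card D) {x y : G} (hx : x ∈ D) (hy : y ∈ D) (hox : orderOf x = q)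
    (hoy : orderOf y = q) : ∃ c ∈ D, c * y * c⁻¹ ∈ Subgroup.zpowers x := by
  have key : ∀ w : D, orderOf (w : G) = q →
      IsPGroup q (Subgroup.zpowers w) ∧ ¬ q ∣ (Subgroup.zpowers w).index := by
    intro w hw
    have hc : Nat.card (Subgroup.zpowers w) = q := by
      rw [Nat.card_zpowers, ← Subgroup.orderOf_coe, hw]
    refine ⟨IsPGroup.of_card (n := 1) (by rw [pow_one, hc]), fun hd => hD ?_⟩
    rw [← (Subgroup.zpowers w).card_mul_index, hc, pow_two]
    exact mul_dvd_mul_left q hd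
  obtain ⟨hpx, hix⟩ := key ⟨x, hx⟩ hox
  obtain ⟨hpy, hiy⟩ := key ⟨y, hy⟩ hoy
  obtain ⟨c, hc⟩ := MulAction.exists_smul_eq D (hpy.toSylow hiy) (hpx.toSylow hix)
  refine ⟨c, c.2, ?_⟩
  have hval : ((c • hpy.toSylow hiy : Sylow q D) : Subgroup D) =
      Subgroup.zpowers (⟨x, hx⟩ : D) := by
    rw [hc]; rfl
  have hmem : c * (⟨y, hy⟩ : D) * c⁻¹ ∈ Subgroup.zpowers (⟨x, hx⟩ : D) := by
    rw [← hval, Sylow.coe_subgroup_smul]
    have := Subgroup.smul_mem_pointwise_smul (⟨y, hy⟩ : D) (MulAut.conj c) _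
      (show (⟨y, hy⟩ : D) ∈ ((hpy.toSylow hiy : Sylow q D) : Subgroup D) from
        Subgroup.mem_zpowers _)
    rwa [MulAut.smul_def, MulAut.conj_apply] at this
  obtain ⟨j, hj⟩ := Subgroup.mem_zpowers_iff.1 hmem
  exact ⟨j, by simpa using congrArg Subtype.val hj⟩

/-- The normalizer of a cyclic subgroup. -/
theorem mem_normalizer_zpowers {x n : G} (hn : n * x * n⁻¹ ∈ Subgroup.zpowers x) :
    n ∈ Subgroup.normalizer ((Subgroup.zpowers x : Subgroup G) : Set G) := by
  have hle : (Subgroup.zpowers x).map (MulAut.conj n).toMonoidHom ≤ Subgroup.zpowers x := by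
    rw [MonoidHom.map_zpowers, Subgroup.zpowers_le]
    simpa using hn
  have heq : (Subgroup.zpowers x).map (MulAut.conj n).toMonoidHom = Subgroup.zpowers x :=
    Subgroup.eq_of_le_of_card_ge hle
      (le_of_eq (Subgroup.card_map_of_injective (MulAut.conj n).injective).symm)
  refine Subgroup.mem_normalizer_iff.2 fun h => ⟨fun hh => hle ⟨h, hh, rfl⟩, fun hh => ?_⟩
  rw [← heq] at hh
  obtain ⟨h', hh', e⟩ := hh
  rwa [show h = h' from (MulAut.conj n).injective e.symm]

section quotient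

variable {D : Type*} [Group D] [Finite D] {X : Subgroup D} [X.Normal]

/-- Conjugate images of involutions over a central subgroup of odd order come from conjugate
involutions. -/
theorem conj_eq_of_mk (hX : X ≤ Subgroup.center D) {m : ℕ} (hm : Odd m) (hXm : ∀ c ∈ X, c ^ m = 1)
    {s t d : D} (hs : s * s = 1) (ht : t * t = 1)
    (h : (d : D ⧸ X) * (s : D ⧸ X) * (d : D ⧸ X)⁻¹ = (t : D ⧸ X)) : d * s * d⁻¹ = t := by
  set c := t⁻¹ * (d * s * d⁻¹) with hcdef
  have hc : c ∈ X := QuotientGroup.eq.1 (by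
    rw [QuotientGroup.mk_mul, QuotientGroup.mk_mul, QuotientGroup.mk_inv, h])
  have e : d * s * d⁻¹ = t * c := by rw [hcdef, mul_inv_cancel_left]
  have hcc : Commute t c := (Subgroup.mem_center_iff.1 (hX hc) t)
  have h2 : c ^ 2 = 1 := by
    have h' : (d * s * d⁻¹) ^ 2 = 1 := by rw [conj_pow, pow_two, hs]; simp
    rw [e, hcc.mul_pow, pow_two t, ht, one_mul] at h'
    exact h'
  have h1 : c = 1 := by
    have := pow_gcd_eq_one.2 ⟨hXm c hc, h2⟩
    rwa [Nat.coprime_iff_gcd_eq_one.1 (Nat.coprime_two_right.2 hm), pow_one] at this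
  rw [e, h1, mul_one]

theorem isConj_of_mk (hX : X ≤ Subgroup.center D) {m : ℕ} (hm : Odd m)
    (hXm : ∀ c ∈ X, c ^ m = 1) {s t : D} (hs : s * s = 1) (ht : t * t = 1)
    (h : IsConj (s : D ⧸ X) (t : D ⧸ X)) : IsConj s t := by
  obtain ⟨q, hq⟩ := isConj_iff.1 h
  induction q using QuotientGroup.induction_on with
  | H d => exact isConj_iff.2 ⟨d, conj_eq_of_mk hX hm hXm hs ht hq⟩

theorem orderOf_mk (hX : X ≤ Subgroup.center D) {m : ℕ} (hm : Odd m)
    (hXm : ∀ c ∈ X, c ^ m = 1) {s : D} (hs : s * s = 1) (hs1 : s ≠ 1) :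
    orderOf (s : D ⧸ X) = 2 := by
  refine orderOf_eq_prime (by rw [pow_two, ← QuotientGroup.mk_mul, hs, QuotientGroup.mk_one])
    fun h => hs1 ?_
  have := isConj_of_mk hX hm hXm (one_mul (1 : D)) hs (by rw [QuotientGroup.mk_one, h])
  exact isConj_one_right.1 this

theorem card_centralizer_mk (hX : X ≤ Subgroup.center D) {m : ℕ} (hm : Odd m)
    (hXm : ∀ c ∈ X, c ^ m = 1) {s : D} (hs : s * s = 1) :
    Nat.card (Subgroup.centralizer ({(s : D ⧸ X)} : Set (D ⧸ X))) * Nat.card X =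
      Nat.card (Subgroup.centralizer ({s} : Set D)) := by
  set C := Subgroup.centralizer ({s} : Set D) with hC
  have hcomap : (Subgroup.centralizer ({(s : D ⧸ X)} : Set (D ⧸ X))).comap (QuotientGroup.mk' X)
      = C := by
    ext d
    rw [Subgroup.mem_comap, Subgroup.mem_centralizer_singleton_iff, hC,
      Subgroup.mem_centralizer_singleton_iff, QuotientGroup.mk'_apply]
    refine ⟨fun h => mul_inv_eq_iff_eq_mul.1 (conj_eq_of_mk hX hm hXm hs hs (by
      rw [h, mul_inv_cancel_right])), fun h => ?_⟩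
    rw [← QuotientGroup.mk_mul, h, QuotientGroup.mk_mul]
  rw [← hcomap, mul_comm]
  set B := Subgroup.centralizer ({(s : D ⧸ X)} : Set (D ⧸ X))
  have h1 := (B.comap (QuotientGroup.mk' X)).card_mul_index
  rw [Subgroup.index_comap_of_surjective _ (QuotientGroup.mk'_surjective X), ← X.card_mul_index,
    ← B.card_mul_index.trans X.index_eq_card.symm] at h1
  have hpos : 0 < B.index := Nat.pos_of_ne_zero Subgroup.FiniteIndex.index_ne_zero
  exact Nat.eq_of_mul_eq_mul_right hpos ((mul_assoc _ _ _).trans h1.symm)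

end quotient

/-- Factorisation of a centralizer in a split extension. -/
theorem card_cent_split {V K : Subgroup G} (hK : K ≤ Subgroup.normalizer (V : Set G))
    (hKV : K ⊓ V = ⊥) {x : G} (hx : x ∈ K) :
    Nat.card ↥(V ⊓ Subgroup.centralizer ({x} : Set G)) *
      Nat.card ↥(K ⊓ Subgroup.centralizer ({x} : Set G)) =
        Nat.card ↥((V ⊔ K) ⊓ Subgroup.centralizer ({x} : Set G)) := by
  rw [← Nat.card_prod]
  refine Nat.card_eq_of_bijective (fun a => ⟨a.1.1 * a.2.1,
    mul_mem (Subgroup.mem_sup_left a.1.2.1) (Subgroup.mem_sup_right a.2.2.1),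
    mul_mem a.1.2.2 a.2.2.2⟩) ⟨?_, ?_⟩
  · rintro ⟨⟨v, hv⟩, ⟨k, hk⟩⟩ ⟨⟨v', hv'⟩, ⟨k', hk'⟩⟩ h
    have h' : v * k = v' * k' := congrArg Subtype.val h
    have e : v'⁻¹ * v = k' * k⁻¹ := by
      rw [inv_mul_eq_iff_eq_mul, ← mul_assoc, ← h', mul_inv_cancel_right]
    have hm : v'⁻¹ * v ∈ K ⊓ V :=
      Subgroup.mem_inf.2 ⟨e ▸ mul_mem hk'.1 (inv_mem hk.1), mul_mem (inv_mem hv'.1) hv.1⟩
    rw [hKV] at hm
    have h1 : v'⁻¹ * v = 1 := Subgroup.mem_bot.1 hm
    have ev : v' = v := inv_mul_eq_one.1 h1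
    subst ev
    exact Prod.ext rfl (Subtype.ext (mul_left_cancel h'))
  · rintro ⟨g, hg, hgx⟩
    obtain ⟨v, hv, k, hk, rfl⟩ : ∃ v ∈ V, ∃ k ∈ K, g = v * k := by
      have : g ∈ ((V ⊔ K : Subgroup G) : Set G) := hg
      rw [Subgroup.coe_mul_of_right_le_normalizer_left V K hK] at this
      obtain ⟨v, hv, k, hk, e⟩ := this
      exact ⟨v, hv, k, hk, e.symm⟩
    have hvx : v * (k * x * k⁻¹ * x⁻¹) = x * v * x⁻¹ := by
      calc v * (k * x * k⁻¹ * x⁻¹) = v * k * x * (k⁻¹ * x⁻¹) := by group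
        _ = x * (v * k) * (k⁻¹ * x⁻¹) := by
          rw [Subgroup.mem_centralizer_singleton_iff.1 hgx]
        _ = x * v * x⁻¹ := by group
    have hmem : k * x * k⁻¹ * x⁻¹ ∈ V := by
      have h1 : x * v * x⁻¹ ∈ V := (Subgroup.mem_normalizer_iff.1 (hK hx) v).1 hv
      rw [← hvx] at h1
      simpa using mul_mem (inv_mem hv) h1
    have hm : k * x * k⁻¹ * x⁻¹ ∈ K ⊓ V :=
      Subgroup.mem_inf.2 ⟨mul_mem (mul_mem (mul_mem hk hx) (inv_mem hk)) (inv_mem hx), hmem⟩
    rw [hKV] at hm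
    have h1 : k * x * k⁻¹ * x⁻¹ = 1 := Subgroup.mem_bot.1 hm
    rw [h1, mul_one] at hvx
    have hkx : k * x = x * k := mul_inv_eq_iff_eq_mul.1 (mul_inv_eq_one.1 h1)
    exact ⟨(⟨v, hv, Subgroup.mem_centralizer_singleton_iff.2
      (mul_inv_eq_iff_eq_mul.1 hvx.symm).symm⟩,
      ⟨k, hk, Subgroup.mem_centralizer_singleton_iff.2 hkx⟩), rfl⟩

/-- Transport of a centralizer by an automorphism. -/
theorem map_centralizer_equiv (φ : G ≃* G) (s : Set G) :
    (Subgroup.centralizer s).map φ.toMonoidHom = Subgroup.centralizer (φ '' s) := by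
  ext g
  simp only [Subgroup.mem_map, Subgroup.mem_centralizer_iff, MulEquiv.coe_toMonoidHom,
    Set.forall_mem_image]
  constructor
  · rintro ⟨m, hm, rfl⟩ a ha
    rw [← map_mul, hm a ha, map_mul]
  · exact fun h => ⟨φ.symm g, fun a ha => φ.injective (by simpa using h ha), by simp⟩

/-- Transport of a normalizer by an automorphism. -/
theorem map_normalizer_equiv' (φ : G ≃* G) (S : Subgroup G) :
    (Subgroup.normalizer (S : Set G)).map φ.toMonoidHom =
      Subgroup.normalizer ((S.map φ.toMonoidHom : Subgroup G) : Set G) :=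
  Subgroup.map_equiv_normalizer_eq S φ

end CfsgLib.JFourSeven
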