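import Cfsg.Agent.JFourSeven.FiveOuter

/-!
# The centralizer and the normalizer of the element of order five

The seven conjugates of `z` in `C(x)` form, with the identity, a normal subgroup `B`; the order of
`C(x)` is `6720`, and only `B⟨x⟩` centralises `B`.
-/

set_option autoImplicit false
set_option linter.style.haveILetI false
set_option linter.unusedSectionVars false

namespace CfsgLib.JFourSeven

open Cfsg CfsgLib.JFourType CfsgLib.JFourType.Shape

variable {G : Type*} [Group G] [Finite G]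

theorem FiveLocalData.exists_g {T : Shape G} {V K : Subgroup G} {x : G}
    (h : FiveLocalData T V K x) : ∃ g : G, g ∈ T.H ∧ g * x * g⁻¹ = x ^ 2 ∧ g ^ 4 = 1 := by
  obtain ⟨g, hg, hg4⟩ := exists_sq_isoM24 h.iso (x := (⟨x, h.hxK⟩ : K))
    (by rw [← Subgroup.orderOf_coe]; exact h.h5)
  have hg' : (g : G) * x * (g : G)⁻¹ = x ^ 2 := congrArg Subtype.val hg
  refine ⟨g, h.L_le_H (Subgroup.mem_inf.2 ⟨h.le_norm g.2, mem_normalizer_zpowers ?_⟩), hg',
    congrArg Subtype.val hg4⟩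
  rw [hg']
  exact Subgroup.pow_mem _ (Subgroup.mem_zpowers x) 2

theorem conj_pow_two_iter {x g : G} (hg : g * x * g⁻¹ = x ^ 2) :
    ∀ j : ℕ, g ^ j * x * (g ^ j)⁻¹ = x ^ 2 ^ j := by
  intro j
  induction j with
  | zero => simp
  | succ j ih =>
    rw [show g ^ (j + 1) * x * (g ^ (j + 1))⁻¹ = g * (g ^ j * x * (g ^ j)⁻¹) * g⁻¹ by
      rw [pow_succ']; group, ih, ← conj_pow, hg, ← pow_mul, pow_succ']

/-- The normalizer of `⟨x⟩` is the centralizer extended by the powers of `g`. -/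
theorem exists_pow_mul {x g n : G} (h5 : orderOf x = 5) (hg : g * x * g⁻¹ = x ^ 2)
    (hn : n ∈ Subgroup.normalizer ((Subgroup.zpowers x : Subgroup G) : Set G)) :
    ∃ j : ℕ, Commute (n * (g ^ j)⁻¹) x ∧ Commute ((g ^ j)⁻¹ * n) x := by
  obtain ⟨i, hi⟩ := (isOfFinOrder_of_finite x).mem_powers_iff_mem_zpowers.2
    ((Subgroup.mem_normalizer_iff.1 hn x).1 (Subgroup.mem_zpowers x))
  have hi' : n * x * n⁻¹ = x ^ (i % 5) := by rw [← h5, pow_mod_orderOf]; exact hi.symm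
  have hi0 : i % 5 ≠ 0 := fun e => by
    rw [e, pow_zero] at hi'
    have := h5
    rw [conj_eq_one_iff.1 hi', orderOf_one] at this
    omega
  obtain ⟨j, hj⟩ : ∃ j : ℕ, 2 ^ j % 5 = i % 5 := by
    have : i % 5 < 5 := Nat.mod_lt _ (by norm_num)
    interval_cases i % 5 <;>
      first | omega | exact ⟨0, rfl⟩ | exact ⟨1, rfl⟩ | exact ⟨3, rfl⟩ | exact ⟨2, rfl⟩
  have hje : g ^ j * x * (g ^ j)⁻¹ = n * x * n⁻¹ := by
    rw [conj_pow_two_iter hg, hi', ← pow_mod_orderOf, h5, hj]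
  have hc : Commute ((g ^ j)⁻¹ * n) x := by
    show (g ^ j)⁻¹ * n * x = x * ((g ^ j)⁻¹ * n)
    calc (g ^ j)⁻¹ * n * x = (g ^ j)⁻¹ * (n * x * n⁻¹) * n := by group
      _ = x * ((g ^ j)⁻¹ * n) := by rw [← hje]; group
  refine ⟨j, ?_, hc⟩
  have hgN : g ^ j ∈ Subgroup.normalizer ((Subgroup.zpowers x : Subgroup G) : Set G) :=
    pow_mem (mem_normalizer_zpowers (hg ▸ Subgroup.pow_mem _ (Subgroup.mem_zpowers x) 2)) j
  have := (norm_commute_iff hgN).2 hc
  rwa [show g ^ j * ((g ^ j)⁻¹ * n) * (g ^ j)⁻¹ = n * (g ^ j)⁻¹ by group] at this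

namespace FiveFrame

variable {T : Shape G} {V K : Subgroup G} {x a τ a' : G} (F : FiveFrame T V K x a τ a')
include F

theorem mem_B_iff {B : Subgroup G} (hB : ∀ v, v ∈ B ↔ v ∈ Rx T x ∧ (v = 1 ∨ IsConj T.z v)) {v : G} :
    v ∈ B ↔ Commute v x ∧ (v = 1 ∨ IsConj T.z v) := by
  rw [hB]
  refine ⟨fun h => ⟨(mem_Rx.1 h.1).2, h.2⟩, fun h => ⟨?_, h.2⟩⟩
  rcases h.2 with e | e
  · rw [e]; exact one_mem _
  · exact F.z_all h.1 e

theorem card_D {B : Subgroup G} (hB : ∀ v, v ∈ B ↔ v ∈ Rx T x ∧ (v = 1 ∨ IsConj T.z v))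
    (hB8 : Nat.card B = 8) : Nat.card ↥(Subgroup.centralizer ({x} : Set G)) = 6720 := by
  obtain ⟨g, hgH, hg, -⟩ := F.local_data.exists_g
  have horb : {v : G | ∃ d ∈ Subgroup.centralizer ({x} : Set G), d * T.z * d⁻¹ = v} =
      (B : Set G) \ {1} := by
    ext v
    constructor
    · rintro ⟨d, hd, rfl⟩
      have hdx : Commute d x := Subgroup.mem_centralizer_singleton_iff.1 hd
      exact ⟨(F.mem_B_iff hB).2 ⟨(hdx.mul_left F.local_data.zx).mul_left hdx.inv_left,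
        .inr (isConj_iff.2 ⟨d, rfl⟩)⟩, fun e => T.sub.ne_one (conj_eq_one_iff.1 e)⟩
    · rintro ⟨hv, hv1⟩
      obtain ⟨hvx, hvz⟩ := (F.mem_B_iff hB).1 hv
      obtain ⟨n, hn, rfl⟩ := F.local_data.z_conj hvx (hvz.resolve_left hv1)
      obtain ⟨j, hj, -⟩ := exists_pow_mul F.local_data.h5 hg hn
      refine ⟨n * (g ^ j)⁻¹, Subgroup.mem_centralizer_singleton_iff.2 hj.eq, ?_⟩
      have hgz : (g ^ j)⁻¹ * T.z = T.z * (g ^ j)⁻¹ := T.mem_H.1 (inv_mem (pow_mem hgH j))
      rw [show n * (g ^ j)⁻¹ * T.z * (n * (g ^ j)⁻¹)⁻¹ = n * ((g ^ j)⁻¹ * T.z * g ^ j) * n⁻¹ by group,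
        hgz]
      group
  have hcount := ncard_orbit_mul_card (Subgroup.centralizer ({x} : Set G)) T.z
  have e8 : (B : Set G).ncard = 8 := (Nat.card_coe_set_eq _).symm.trans hB8
  have eW : Nat.card ↥(Subgroup.centralizer ({x} : Set G) ⊓ Subgroup.centralizer ({T.z} : Set G)) =
      960 := by
    rw [inf_comm]; exact F.local_data.card_W
  rw [horb, Set.ncard_sdiff_singleton_of_mem (one_mem B), e8, eW] at hcount
  exact hcount.symm

theorem card_N {B : Subgroup G} (hB : ∀ v, v ∈ B ↔ v ∈ Rx T x ∧ (v = 1 ∨ IsConj T.z v))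
    (hB8 : Nat.card B = 8) :
    Nat.card ↥(Subgroup.normalizer ((Subgroup.zpowers x : Subgroup G) : Set G)) = 4 * 6720 := by
  obtain ⟨g, -, hg, -⟩ := F.local_data.exists_g
  set N := Subgroup.normalizer ((Subgroup.zpowers x : Subgroup G) : Set G)
  have hgN : g ∈ N := mem_normalizer_zpowers (hg ▸ Subgroup.pow_mem _ (Subgroup.mem_zpowers x) 2)
  have horb : {v : G | ∃ n ∈ N, n * x * n⁻¹ = v} =
      ((Subgroup.zpowers x : Subgroup G) : Set G) \ {1} := by
    ext v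
    constructor
    · rintro ⟨n, hn, rfl⟩
      refine ⟨(Subgroup.mem_normalizer_iff.1 hn x).1 (Subgroup.mem_zpowers x), fun e => ?_⟩
      have := F.local_data.h5
      rw [conj_eq_one_iff.1 e, orderOf_one] at this
      omega
    · rintro ⟨hv, hv1⟩
      obtain ⟨i, rfl⟩ := (isOfFinOrder_of_finite x).mem_powers_iff_mem_zpowers.2 hv
      show ∃ n ∈ N, n * x * n⁻¹ = x ^ i
      have hi : i % 5 ≠ 0 := fun e => hv1 (by
        show x ^ i = 1
        rw [← pow_mod_orderOf, F.local_data.h5, e, pow_zero])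
      obtain ⟨j, hj⟩ : ∃ j : ℕ, 2 ^ j % 5 = i % 5 := by
        have : i % 5 < 5 := Nat.mod_lt _ (by norm_num)
        interval_cases i % 5 <;>
          first | omega | exact ⟨0, rfl⟩ | exact ⟨1, rfl⟩ | exact ⟨3, rfl⟩ | exact ⟨2, rfl⟩
      refine ⟨g ^ j, pow_mem hgN j, ?_⟩
      rw [conj_pow_two_iter hg, ← pow_mod_orderOf, F.local_data.h5, hj, ← F.local_data.h5,
        pow_mod_orderOf]
  have hcount := ncard_orbit_mul_card N x
  have e5 : ((Subgroup.zpowers x : Subgroup G) : Set G).ncard = 5 :=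
    (Nat.card_coe_set_eq _).symm.trans ((Nat.card_zpowers x).trans F.local_data.h5)
  have eD : Nat.card ↥(N ⊓ Subgroup.centralizer ({x} : Set G)) = 6720 := by
    rw [inf_eq_right.2 fun c hc =>
      cent_le_norm_zpowers (Subgroup.mem_centralizer_singleton_iff.1 hc)]
    exact F.card_D hB hB8
  rw [horb, Set.ncard_sdiff_singleton_of_mem (one_mem (Subgroup.zpowers x)), e5, eD] at hcount
  exact hcount.symm

/-- No element of `E⟨p⟩` outside `E` fixes `a * a'`. -/
theorem ker_mem_R {y : G} (hyH : y ∈ T.H) (hyx : Commute y x) (hy1 : T.piv y = 1)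
    (hyc : Commute y (a * a')) : y ∈ Rx T x := by
  refine mem_Rx.2 ⟨?_, hyx⟩
  obtain ⟨e, he, k, rfl⟩ := (piv_eq_one hyH).1 hy1
  by_cases hk : 3 ∣ k
  · obtain ⟨m, rfl⟩ := hk
    rwa [pow_mul, T.p_pow_three, one_pow, mul_one]
  exfalso
  set c := a * a' with hc
  have hcE : c ∈ T.E := (mem_Rx.1 F.c_R).1
  set c1 := T.p ^ k * c * (T.p ^ k)⁻¹ with hc1
  have hc1E : c1 ∈ T.E := T.conj_mem (T.p_pow_mem k) hcE
  have h1 : e * c1 * e⁻¹ = c := by
    rw [hc1, show e * (T.p ^ k * c * (T.p ^ k)⁻¹) * e⁻¹ = e * T.p ^ k * c * (e * T.p ^ k)⁻¹ by group,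
      hyc.eq, mul_inv_cancel_right]
  have h2 : c1 = c ∨ c1 = T.z * c := by
    rcases T.sub.comm_eq he hc1E with e' | e'
    · left
      rw [h1] at e'
      exact (mul_inv_eq_one.1 e').symm
    · right
      rw [h1] at e'
      rw [mul_inv_eq_iff_eq_mul.1 e', ← mul_assoc, T.z_mul_z, one_mul]
  rcases pow_p_move hcE hk h2 with e' | e'
  exacts [F.c_ne.1 e', F.c_ne.2 e']

/-- The centralizer of `B` in `C(x)`. -/
theorem cent_B {B : Subgroup G} (hB : ∀ v, v ∈ B ↔ v ∈ Rx T x ∧ (v = 1 ∨ IsConj T.z v))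
    (hB8 : Nat.card B = 8) (hBc : ∀ v ∈ B, ∀ w ∈ B, Commute v w) {w : G} (hwx : Commute w x)
    (hw : ∀ v ∈ B, Commute w v) : ∃ b ∈ B, ∃ i : ℕ, w = b * x ^ i := by
  haveI : Fact (Nat.Prime 5) := ⟨by norm_num⟩
  haveI : Fact (Nat.Prime 2) := ⟨Nat.prime_two⟩
  have hcB : a * a' ∈ B := (hB _).2 ⟨F.c_R, .inr F.c_isConj⟩
  set d := T.p ^ 1 * (a * a') * (T.p ^ 1)⁻¹ with hd
  have hdB : d ∈ B := (hB _).2 ⟨F.local_data.conj_R_mem (T.p_pow_mem 1)
    (F.local_data.comm_px.pow_left 1) F.c_R, .inr (F.cj_isConj 1).1⟩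
  have hzB : T.z ∈ B := (hB _).2 ⟨F.local_data.xz_R, .inr (IsConj.refl _)⟩
  have hwH : w ∈ T.H := T.mem_H.2 (hw _ hzB).eq
  have hxH := F.local_data.x_mem_H
  have hpw : T.piv (w * w) ^ 5 = 1 ∧ T.piv (w ^ 5) * T.piv (w ^ 5) = 1 := by
    have ho := orderOf_piv F.local_data.hx (by decide : Nat.Coprime 5 6) F.local_data.h5
    set A := Subgroup.centralizer ({T.piv x} : Set (MulAut M22g))
    let σ : A := ⟨T.piv w, Subgroup.mem_centralizer_singleton_iff.2 (by
      rw [← piv_mul hwH hxH, ← piv_mul hxH hwH, hwx.eq])⟩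
    have h10 : σ ^ 10 = 1 := by
      have := pow_card_eq_one' (x := σ)
      rwa [(aut_five ho).1] at this
    have e10 : T.piv w ^ 10 = 1 := congrArg Subtype.val h10
    refine ⟨?_, ?_⟩
    · rw [piv_mul hwH hwH, ← pow_two, ← pow_mul]; exact e10
    · rw [piv_pow hwH, ← pow_add]; exact e10
  have hw5B : ∀ v ∈ B, Commute (w ^ 5) v := fun v hv => (hw v hv).pow_left 5
  have h5H : w ^ 5 ∈ T.H := pow_mem hwH 5
  have h5E : w ^ 5 * w ^ 5 ∈ T.E := (mem_Rx.1 (F.ker_mem_R (mul_mem h5H h5H)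
    ((hwx.pow_left 5).mul_left (hwx.pow_left 5)) (by rw [piv_mul h5H h5H]; exact hpw.2)
    ((hw5B _ hcB).mul_left (hw5B _ hcB)))).1
  have hu : w ^ 5 ∈ T.E := by
    by_contra hE
    set u := w ^ 5 with hu
    have hinv := inverts_p_of_not_mem F.local_data.hx F.local_data.h5 h5H (hwx.pow_left 5) h5E hE
    set y := T.p * u * T.p⁻¹ * u⁻¹ with hy
    have hyH : y ∈ T.H :=
      mul_mem (mul_mem (mul_mem T.p_mem_H h5H) (inv_mem T.p_mem_H)) (inv_mem h5H)
    have hconj : Commute (T.p * u * T.p⁻¹) (a * a') := by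
      have h' : Commute u (T.p⁻¹ * (a * a') * T.p) := hw5B _ ((hB _).2 ⟨by
          simpa using F.local_data.conj_R_mem (inv_mem T.p_mem_H) F.local_data.comm_px.inv_left F.c_R,
        .inr (F.c_isConj.trans (isConj_iff.2 ⟨T.p⁻¹, by group⟩))⟩)
      have := (commute_conj_iff (n := T.p)).2 h'
      rwa [show T.p * (T.p⁻¹ * (a * a') * T.p) * T.p⁻¹ = a * a' by group] at this
    have hyc : Commute y (a * a') := hconj.mul_left (hw5B _ hcB).inv_left
    have hyx : Commute y x := ((F.local_data.comm_px.mul_left (hwx.pow_left 5)).mul_left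
      F.local_data.comm_px.inv_left).mul_left (hwx.pow_left 5).inv_left
    have hy1 : T.piv y = 1 := by
      rw [hy, piv_mul (mul_mem (mul_mem T.p_mem_H h5H) (inv_mem T.p_mem_H)) (inv_mem h5H),
        piv_mul (mul_mem T.p_mem_H h5H) (inv_mem T.p_mem_H), piv_mul T.p_mem_H h5H, piv_p,
        piv_inv T.p_mem_H, piv_p, one_mul, inv_one, mul_one, piv_inv h5H, mul_inv_cancel]
    have hyE := (mem_Rx.1 (F.ker_mem_R hyH hyx hy1 hyc)).1
    have hmem : T.p ^ 2 ∈ T.E := by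
      have e : T.p ^ 2 = y * (u * T.p * u⁻¹ * T.p) * (T.p⁻¹ * 1 * T.p) := by
        rw [hy, pow_two]; group
      rw [e]
      exact mul_mem (mul_mem hyE hinv) (T.conj_mem' T.p_mem_H (one_mem _))
    have hd2 := orderOf_dvd_of_pow_eq_one (T.p_pow_mem_E hmem)
    rw [T.p3] at hd2
    omega
  -- the image of `w` is a power of the image of `x`
  have hσ : ∃ i : ℕ, T.piv (w * x ^ i) = 1 := by
    have ho := orderOf_piv F.local_data.hx (by decide : Nat.Coprime 5 6) F.local_data.h5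
    set A := Subgroup.centralizer ({T.piv x} : Set (MulAut M22g))
    let σ : A := ⟨T.piv w, Subgroup.mem_centralizer_singleton_iff.2 (by
      rw [← piv_mul hwH hxH, ← piv_mul hxH hwH, hwx.eq])⟩
    set X := (Subgroup.zpowers (T.piv x)).subgroupOf A
    have hXA : Subgroup.zpowers (T.piv x) ≤ A :=
      Subgroup.zpowers_le.2 (Subgroup.mem_centralizer_singleton_iff.2 rfl)
    have hXi : X.index = 2 := by
      have := X.card_mul_index
      rw [Nat.card_congr (Subgroup.subgroupOfEquivOfLe hXA).toEquiv, Nat.card_zpowers, ho,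
        (aut_five ho).1] at this
      omega
    have h5 : σ ^ 5 = 1 := Subtype.ext (by
      show T.piv w ^ 5 = 1
      rw [← piv_pow hwH, piv_E hu])
    have hmem : σ ∈ X := by
      have h6 : σ ^ 6 = σ := by rw [pow_succ, h5, one_mul]
      rw [← h6, show (6 : ℕ) = 2 * 3 from rfl, pow_mul]
      exact pow_mem (Subgroup.sq_mem_of_index_two hXi σ) 3
    obtain ⟨i, hi⟩ := (isOfFinOrder_of_finite (T.piv x)).mem_powers_iff_mem_zpowers.2
      (Subgroup.mem_subgroupOf.1 hmem)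
    refine ⟨4 * i, ?_⟩
    have hi' : T.piv x ^ i = T.piv w := hi
    rw [piv_mul hwH (pow_mem hxH _), piv_pow hxH, ← hi', ← pow_add,
      show i + 4 * i = orderOf (T.piv x) * i by rw [ho]; ring, pow_mul, pow_orderOf_eq_one, one_pow]
  obtain ⟨i, hi⟩ := hσ
  set r := w * x ^ i with hr
  have hxB : ∀ v ∈ B, Commute (x ^ i) v := fun v hv =>
    (mem_Rx.1 ((hB v).1 hv).1).2.symm.pow_left i
  have hrB : ∀ v ∈ B, Commute r v := fun v hv => (hw v hv).mul_left (hxB v hv)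
  have hrR : r ∈ Rx T x := F.ker_mem_R (mul_mem hwH (pow_mem hxH i))
    (hwx.mul_left ((Commute.refl x).pow_left i)) hi (hrB _ hcB)
  -- `B` is its own centraliser in `R`
  set Q := Rx T x ⊓ Subgroup.centralizer ({a * a'} : Set G) with hQ
  set Q' := Q ⊓ Subgroup.centralizer ({d} : Set G) with hQ'
  have hQ16 : Nat.card Q = 16 := by
    have hc := ncard_orbit_mul_card (Rx T x) (a * a')
    have e : {v : G | ∃ n ∈ Rx T x, n * (a * a') * n⁻¹ = v} = {a * a', T.z * (a * a')} := by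
      ext v
      constructor
      · rintro ⟨n, hn, rfl⟩
        rcases F.local_data.R_move F.c_R hn with e | e <;> simp [e]
      · rintro (rfl | rfl)
        · exact ⟨1, one_mem _, by simp⟩
        · exact F.flip_c
    rw [e, Set.ncard_pair (fun e => T.sub.ne_one (right_eq_mul.1 e)), F.local_data.card_R] at hc
    change 2 * Nat.card Q = 32 at hc
    omega
  have hBQ : B ≤ Q' := fun v hv => Subgroup.mem_inf.2 ⟨Subgroup.mem_inf.2 ⟨((hB v).1 hv).1,
    Subgroup.mem_centralizer_singleton_iff.2 (hBc v hv _ hcB).eq⟩,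
    Subgroup.mem_centralizer_singleton_iff.2 (hBc v hv _ hdB).eq⟩
  have hQ'8 : Nat.card Q' ≤ 8 := by
    obtain ⟨m, hm⟩ := Subgroup.card_dvd_of_le (inf_le_left : Q' ≤ Q)
    rw [hQ16] at hm
    change 16 = Nat.card Q' * m at hm
    by_contra hlt
    have hm1 : m = 1 := by
      by_contra hm1
      have : 2 ≤ m := by
        rcases Nat.eq_zero_or_pos m with e | e
        · rw [e, mul_zero] at hm; omega
        · omega
      have := Nat.mul_le_mul (show 9 ≤ Nat.card Q' by omega) this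
      omega
    have heq : Q' = Q := Subgroup.eq_of_le_of_card_ge inf_le_left (by rw [hQ16, hm, hm1, mul_one])
    have haQ : a ∈ Q := Subgroup.mem_inf.2 ⟨F.a_R,
      Subgroup.mem_centralizer_singleton_iff.2 F.ca.eq⟩
    rw [← heq] at haQ
    have had : Commute a d :=
      Subgroup.mem_centralizer_singleton_iff.1 (Subgroup.mem_inf.1 haQ).2
    refine F.not_comm (d := 1) (by norm_num) ?_
    have hab := F.local_data.comm_V (F.local_data.mem_A.1 F.ha).1
      (F.local_data.mem_A.1 (F.local_data.p_conj_mem F.ha 1)).1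
    have := hab.inv_right.mul_right had
    rwa [show (T.p ^ 1 * a * (T.p ^ 1)⁻¹)⁻¹ * (T.p ^ 1 * (a * a') * (T.p ^ 1)⁻¹) =
      T.p ^ 1 * a' * (T.p ^ 1)⁻¹ by group] at this
  have hrQ : r ∈ B := by
    rw [Subgroup.eq_of_le_of_card_ge hBQ (by omega)]
    exact Subgroup.mem_inf.2 ⟨Subgroup.mem_inf.2
      ⟨hrR, Subgroup.mem_centralizer_singleton_iff.2 (hrB _ hcB).eq⟩,
      Subgroup.mem_centralizer_singleton_iff.2 (hrB _ hdB).eq⟩
  refine ⟨r, hrQ, 4 * i, ?_⟩
  rw [hr, mul_assoc, ← pow_add, show i + 4 * i = 5 * i by ring, pow_mul, F.local_data.x_pow_five,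
    one_pow, mul_one]

end FiveFrame

end CfsgLib.JFourSeven
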