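import Cfsg.Agent.JFourSeven.FiveLocal

/-!
# The fixed subgroup of an element of order five in `E`

It has order `32`, lies in `N(V)`, and the centralizer of an element `a` of `A` outside `⟨z⟩` in the
centralizer of `x` has order `80`.
-/

set_option autoImplicit false
set_option linter.style.haveILetI false
set_option linter.unusedSectionVars false

namespace CfsgLib.JFourSeven

open Cfsg CfsgLib.JFourType CfsgLib.JFourType.Shape

variable {G : Type*} [Group G] [Finite G]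

/-- The fixed subgroup of `x` in `E`. -/
def Rx (T : Shape G) (x : G) : Subgroup G := T.E ⊓ Subgroup.centralizer ({x} : Set G)

theorem mem_Rx {T : Shape G} {x r : G} : r ∈ Rx T x ↔ r ∈ T.E ∧ Commute r x := by
  rw [Rx, Subgroup.mem_inf, Subgroup.mem_centralizer_singleton_iff]
  rfl

theorem cent_le_norm_zpowers {x c : G} (hc : Commute c x) :
    c ∈ Subgroup.normalizer ((Subgroup.zpowers x : Subgroup G) : Set G) :=
  mem_normalizer_zpowers (by rw [hc.eq, mul_inv_cancel_right]; exact Subgroup.mem_zpowers x)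

/-- Two flipping elements multiply to a fixing one. -/
theorem flip_mul {z a r s : G} (hrz : Commute r z) (hz : z * z = 1) (hr : r * a * r⁻¹ = z * a)
    (hs : s * a * s⁻¹ = z * a) : r * s * a * (r * s)⁻¹ = a := by
  calc r * s * a * (r * s)⁻¹ = r * (s * a * s⁻¹) * r⁻¹ := by group
    _ = r * z * a * r⁻¹ := by rw [hs]; group
    _ = z * (r * a * r⁻¹) := by rw [hrz.eq]; group
    _ = a := by rw [hr, ← mul_assoc, hz, one_mul]

namespace FiveLocalData

variable {T : Shape G} {V K : Subgroup G} {x : G} (h : FiveLocalData T V K x)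
include h

theorem zx : Commute T.z x := ((T.mem_C.1 h.hx).1).symm

theorem xz_R : T.z ∈ Rx T x := mem_Rx.2 ⟨T.sub.z_mem, h.zx⟩

theorem A_le_R {a : G} (ha : a ∈ V ⊓ Subgroup.centralizer ({x} : Set G)) : a ∈ Rx T x :=
  mem_Rx.2 ⟨h.mem_E ha, (h.mem_A.1 ha).2⟩

theorem conj_R_mem {w r : G} (hw : w ∈ T.H) (hwx : Commute w x) (hr : r ∈ Rx T x) :
    w * r * w⁻¹ ∈ Rx T x := by
  obtain ⟨hrE, hrx⟩ := mem_Rx.1 hr
  exact mem_Rx.2 ⟨T.conj_mem hw hrE, (hwx.mul_left hrx).mul_left hwx.inv_left⟩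

/-- Elements of `R` fix `a` or multiply it by `z`. -/
theorem R_move {a r : G} (ha : a ∈ Rx T x) (hr : r ∈ Rx T x) :
    r * a * r⁻¹ = a ∨ r * a * r⁻¹ = T.z * a := by
  rcases T.sub.comm_eq (mem_Rx.1 hr).1 (mem_Rx.1 ha).1 with e | e
  · exact .inl (mul_inv_eq_one.1 e)
  · exact .inr (mul_inv_eq_iff_eq_mul.1 e)

theorem exists_flip_R {a : G} (ha : a ∈ V ⊓ Subgroup.centralizer ({x} : Set G)) (ha1 : a ≠ 1)
    (haz : a ≠ T.z) : ∃ e ∈ Rx T x, e * a * e⁻¹ = T.z * a := by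
  obtain ⟨e, he, hex, hea⟩ := h.exists_flip ha ha1 haz
  exact ⟨e, mem_Rx.2 ⟨he, hex⟩, hea⟩

theorem card_CR {a : G} (ha : a ∈ V ⊓ Subgroup.centralizer ({x} : Set G)) (ha1 : a ≠ 1)
    (haz : a ≠ T.z) :
    2 * Nat.card ↥(Rx T x ⊓ Subgroup.centralizer ({a} : Set G)) = Nat.card ↥(Rx T x) := by
  rw [← ncard_orbit_mul_card (Rx T x) a]
  congr 1
  have e : {v : G | ∃ n ∈ Rx T x, n * a * n⁻¹ = v} = {a, T.z * a} := by
    ext v
    constructor
    · rintro ⟨n, hn, rfl⟩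
      rcases h.R_move (h.A_le_R ha) hn with e | e <;> simp [e]
    · rintro (rfl | rfl)
      · exact ⟨1, one_mem _, by simp⟩
      · exact h.exists_flip_R ha ha1 haz
  rw [e, Set.ncard_pair (fun e => T.sub.ne_one (right_eq_mul.1 e))]

theorem WM_le_H {n : G} (hn : n ∈ Subgroup.normalizer (V : Set G)) (hnx : Commute n x) :
    n ∈ T.H :=
  h.L_le_H (Subgroup.mem_inf.2 ⟨hn, cent_le_norm_zpowers hnx⟩)

theorem WM_conj_mem {n a : G} (hn : n ∈ Subgroup.normalizer (V : Set G)) (hnx : Commute n x)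
    (ha : a ∈ V ⊓ Subgroup.centralizer ({x} : Set G)) :
    n * a * n⁻¹ ∈ V ⊓ Subgroup.centralizer ({x} : Set G) :=
  h.L_conj_mem (Subgroup.mem_inf.2 ⟨hn, cent_le_norm_zpowers hnx⟩) ha

theorem orbit_sub {a : G} (ha : a ∈ V ⊓ Subgroup.centralizer ({x} : Set G)) (ha1 : a ≠ 1)
    (haz : a ≠ T.z) :
    {v : G | ∃ n ∈ Subgroup.normalizer (V : Set G) ⊓ Subgroup.centralizer ({x} : Set G),
      n * a * n⁻¹ = v} ⊆
      ((V ⊓ Subgroup.centralizer ({x} : Set G) : Subgroup G) : Set G) \ {1, T.z} := by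
  rintro v ⟨n, hn, rfl⟩
  obtain ⟨hnV, hnx⟩ := Subgroup.mem_inf.1 hn
  have hnx' : Commute n x := Subgroup.mem_centralizer_singleton_iff.1 hnx
  refine ⟨h.WM_conj_mem hnV hnx' ha, ?_⟩
  rintro (e | e)
  · exact ha1 (conj_eq_one_iff.1 e)
  · have hnz : Commute n T.z := T.mem_H.1 (h.WM_le_H hnV hnx')
    have e1 := mul_inv_eq_iff_eq_mul.1 (Set.mem_singleton_iff.1 e)
    rw [← hnz.eq] at e1
    exact haz (mul_left_cancel e1)

theorem ncard_six :
    (((V ⊓ Subgroup.centralizer ({x} : Set G) : Subgroup G) : Set G) \ {1, T.z}).ncard = 6 := by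
  have e8 : ((V ⊓ Subgroup.centralizer ({x} : Set G) : Subgroup G) : Set G).ncard = 8 :=
    (Nat.card_coe_set_eq _).symm.trans h.card_A
  rw [Set.ncard_sdiff (by rintro v (rfl | rfl); exacts [one_mem _, h.z_mem_A]) (Set.toFinite _),
    e8, Set.ncard_pair (Ne.symm T.sub.ne_one)]

theorem card_R : Nat.card ↥(Rx T x) = 32 := by
  haveI : Fact (Nat.Prime 3) := ⟨Nat.prime_three⟩
  obtain ⟨a, ha, ha1, haz⟩ := h.exists_a
  obtain ⟨haV, hax⟩ := h.mem_A.1 ha
  set W := Subgroup.normalizer (V : Set G) ⊓ Subgroup.centralizer ({x} : Set G) with hW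
  set U := {v : G | ∃ n ∈ W, n * a * n⁻¹ = v} with hU
  have hcount : U.ncard * Nat.card ↥(W ⊓ Subgroup.centralizer ({a} : Set G)) = 480 := by
    rw [hU, ncard_orbit_mul_card W a, hW, h.card_cent_M, h.card_A]
  have h6 : U.ncard ≤ 6 := h.ncard_six ▸ Set.ncard_le_ncard (h.orbit_sub ha ha1 haz) (Set.toFinite _)
  have h3 : 3 ≤ U.ncard := by
    have hmem : ∀ j : ℕ, T.p ^ j * a * (T.p ^ j)⁻¹ ∈ U := fun j =>
      ⟨T.p ^ j, Subgroup.mem_inf.2 ⟨pow_mem h.p_norm j,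
        Subgroup.mem_centralizer_singleton_iff.2 (h.comm_px.pow_left j).eq⟩, rfl⟩
    refine le_trans ?_ (Set.ncard_le_ncard
      (s := {a, T.p ^ 1 * a * (T.p ^ 1)⁻¹, T.p ^ 2 * a * (T.p ^ 2)⁻¹}) ?_ (Set.toFinite U))
    · have h1 := (h.flip_ne ha ha1 haz (d := 1) (by norm_num)).1
      have h2 := (h.flip_ne ha ha1 haz (d := 2) (by norm_num)).1
      have h12 : T.p ^ 1 * a * (T.p ^ 1)⁻¹ ≠ T.p ^ 2 * a * (T.p ^ 2)⁻¹ := fun e => h1 (by
        rw [show T.p ^ 2 * a * (T.p ^ 2)⁻¹ = T.p ^ 1 * (T.p ^ 1 * a * (T.p ^ 1)⁻¹) * (T.p ^ 1)⁻¹ by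
          rw [pow_two, pow_one]; group] at e
        exact (mul_left_cancel (mul_right_cancel e)).symm)
      rw [Set.ncard_insert_of_notMem (by
        rintro (e | e)
        exacts [h1 e.symm, h2 (Set.mem_singleton_iff.1 e).symm]), Set.ncard_pair h12]
    · rintro v (rfl | rfl | rfl)
      · simpa using hmem 0
      · exact hmem 1
      · exact hmem 2
  have hsub : Rx T x ⊓ Subgroup.centralizer ({a} : Set G) ≤
      W ⊓ Subgroup.centralizer ({a} : Set G) := fun r hr => by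
    obtain ⟨hr, hra⟩ := Subgroup.mem_inf.1 hr
    exact Subgroup.mem_inf.2 ⟨Subgroup.mem_inf.2
      ⟨h.cent_t a haV ha1 (h.not_z ha ha1 haz) hra,
        Subgroup.mem_centralizer_singleton_iff.2 (mem_Rx.1 hr).2.eq⟩, hra⟩
  have hd := Subgroup.card_dvd_of_le hsub
  have h2R := h.card_CR ha ha1 haz
  have h8 : 8 ∣ Nat.card ↥(Rx T x) := by
    have := Subgroup.card_dvd_of_le (show V ⊓ Subgroup.centralizer ({x} : Set G) ≤ Rx T x from
      fun b hb => h.A_le_R hb)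
    rwa [h.card_A] at this
  obtain ⟨n, -, hn⟩ := (Nat.dvd_prime_pow Nat.prime_two).1
    (T.card_E ▸ Subgroup.card_dvd_of_le (inf_le_left : Rx T x ≤ T.E))
  change Nat.card ↥(Rx T x) = 2 ^ n at hn
  have hmod := card_modEq_fixed (q := 3) (x := T.p) (k := 1) (by rw [pow_one, T.p_pow_three])
    (Rx T x : Set G) fun v hv => h.conj_R_mem T.p_mem_H h.comm_px hv
  have e2 : Nat.card {v : G // v ∈ (Rx T x : Set G) ∧ Commute T.p v} = 2 := by
    rw [← Set.ncard_pair (Ne.symm T.sub.ne_one), ← Nat.card_coe_set_eq]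
    exact Nat.card_congr (Equiv.subtypeEquivRight fun v => ⟨fun hv => by
      rcases T.fixp v (mem_Rx.1 hv.1).1 hv.2.eq with e | e <;> simp [e],
      fun hv => by
        rcases hv with e | e
        · rw [e]; exact ⟨one_mem _, Commute.one_right _⟩
        · rw [Set.mem_singleton_iff.1 e]; exact ⟨h.xz_R, T.p_comm⟩⟩)
  rw [SetLike.coe_sort_coe, hn, e2] at hmod
  set c := Nat.card ↥(W ⊓ Subgroup.centralizer ({a} : Set G)) with hc
  have hle : 2 ^ n ≤ 64 := by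
    have hn1 : 1 ≤ n := by
      by_contra hn0
      rw [hn, show n = 0 by omega] at h8
      norm_num at h8
    obtain ⟨m, rfl⟩ : ∃ m, n = m + 1 := ⟨n - 1, by omega⟩
    rw [Nat.eq_of_mul_eq_mul_left (by norm_num : 0 < 2)
      (h2R.trans (hn.trans (pow_succ' 2 m)))] at hd
    rw [pow_succ']
    have hc160 : 2 ^ m ∣ 480 := hd.trans (Dvd.intro_left _ hcount)
    have hm5 : m ≤ 5 := by
      by_contra hm
      have := (pow_dvd_pow 2 (show 6 ≤ m by omega)).trans hc160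
      norm_num at this
    calc 2 * 2 ^ m ≤ 2 * 2 ^ 5 := Nat.mul_le_mul_left 2 (Nat.pow_le_pow_right (by norm_num) hm5)
      _ = 64 := by norm_num
  have hn6 : n ≤ 6 := (Nat.pow_le_pow_iff_right (by norm_num : 1 < 2)).1 (hle.trans (le_of_eq (by norm_num)))
  rw [hn] at h8 ⊢
  interval_cases n
  · norm_num at h8
  · norm_num at h8
  · norm_num at h8
  · -- `R = A` would be abelian
    exfalso
    have hRA : V ⊓ Subgroup.centralizer ({x} : Set G) = Rx T x :=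
      Subgroup.eq_of_le_of_card_ge (fun b hb => h.A_le_R hb) (by rw [hn, h.card_A]; norm_num)
    obtain ⟨e, he, hea⟩ := h.exists_flip_R ha ha1 haz
    rw [← hRA] at he
    rw [(h.comm_V (h.mem_A.1 he).1 haV).eq, mul_inv_cancel_right] at hea
    exact T.sub.ne_one (right_eq_mul.1 hea)
  · exact absurd hmod (by decide)
  · norm_num
  · exact absurd hmod (by decide)

theorem R_le_M : Rx T x ≤ Subgroup.normalizer (V : Set G) := by
  intro r hr
  by_contra hrM
  obtain ⟨a, ha, ha1, haz⟩ := h.exists_a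
  have hb := h.p_conj_mem ha 1
  set b := T.p ^ 1 * a * (T.p ^ 1)⁻¹ with hbdef
  have hb1 : b ≠ 1 := fun e => ha1 (conj_eq_one_iff.1 e)
  obtain ⟨hne, hnez⟩ := h.flip_ne ha ha1 haz (d := 1) (by norm_num)
  have hbz : b ≠ T.z := fun e => haz (by
    have hc : Commute (T.p ^ 1) T.z := (show Commute T.p T.z from T.p_comm).pow_left 1
    have e1 := mul_inv_eq_iff_eq_mul.1 e
    rw [← hc.eq] at e1
    exact mul_left_cancel e1)
  have hin : ∀ c ∈ V ⊓ Subgroup.centralizer ({x} : Set G), c ≠ 1 → c ≠ T.z → ∀ s : G,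
      s * c * s⁻¹ = c → s ∈ Subgroup.normalizer (V : Set G) := fun c hc hc1 hcz s hs =>
    h.cent_t c (h.mem_A.1 hc).1 hc1 (h.not_z hc hc1 hcz)
      (Subgroup.mem_centralizer_singleton_iff.2 (mul_inv_eq_iff_eq_mul.1 hs))
  have hflip : ∀ c ∈ V ⊓ Subgroup.centralizer ({x} : Set G), c ≠ 1 → c ≠ T.z →
      r * c * r⁻¹ = T.z * c := fun c hc hc1 hcz =>
    (h.R_move (h.A_le_R hc) hr).resolve_left fun e => hrM (hin c hc hc1 hcz r e)
  have hrz : Commute r T.z := T.sub.z_comm (mem_Rx.1 hr).1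
  have hzb : Commute r T.z := hrz
  have hall : ∀ s ∈ T.E, Commute s x → Commute (a * b) s := fun s hs hsx => by
    have hsR : s ∈ Rx T x := mem_Rx.2 ⟨hs, hsx⟩
    have key : s * a * s⁻¹ = a ∧ s * b * s⁻¹ = b ∨
        s * a * s⁻¹ = T.z * a ∧ s * b * s⁻¹ = T.z * b := by
      have hmove : ∀ c d : G, c ∈ V ⊓ Subgroup.centralizer ({x} : Set G) → c ≠ 1 → c ≠ T.z →
          d ∈ V ⊓ Subgroup.centralizer ({x} : Set G) → d ≠ 1 → d ≠ T.z →
          s * c * s⁻¹ = T.z * c → s * d * s⁻¹ = d → False := by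
        intro c d hc hc1 hcz hd hd1 hdz e1 e2
        have hrs := hin c hc hc1 hcz (r * s) (flip_mul hrz T.z_mul_z (hflip c hc hc1 hcz) e1)
        exact hrM (by simpa using mul_mem hrs (inv_mem (hin d hd hd1 hdz s e2)))
      rcases h.R_move (h.A_le_R ha) hsR with e | e <;>
        rcases h.R_move (h.A_le_R hb) hsR with e' | e'
      · exact .inl ⟨e, e'⟩
      · exact (hmove b a hb hb1 hbz ha ha1 haz e' e).elim
      · exact (hmove a b ha ha1 haz hb hb1 hbz e e').elim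
      · exact .inr ⟨e, e'⟩
    have e : s * (a * b) * s⁻¹ = a * b := by
      rw [show s * (a * b) * s⁻¹ = (s * a * s⁻¹) * (s * b * s⁻¹) by group]
      have hza : Commute a T.z := h.comm_V (h.mem_A.1 ha).1 (h.mem_A.1 h.z_mem_A).1
      rcases key with ⟨e, e'⟩ | ⟨e, e'⟩ <;> rw [e, e']
      calc T.z * a * (T.z * b) = T.z * (a * T.z) * b := by group
        _ = a * b := by rw [hza.eq, ← mul_assoc T.z, T.z_mul_z, one_mul]
    exact (mul_inv_eq_iff_eq_mul.1 e).symm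
  have haa : a⁻¹ = a := inv_eq_of_mul_eq_one_right (h.sq_one (h.mem_A.1 ha).1)
  rcases cent_R_center (T.C_le_H h.hx) (n := 5) (by decide) h.x_pow_five
    (mul_mem (h.mem_E ha) (h.mem_E hb))
    ((h.mem_A.1 ha).2.mul_left (h.mem_A.1 hb).2) hall with e | e
  · exact hne ((eq_inv_of_mul_eq_one_right e).trans haa)
  · refine hnez ?_
    show b = T.z * a
    rw [← e, (h.comm_V (h.mem_A.1 ha).1 (h.mem_A.1 hb).1).eq, mul_assoc,
      h.sq_one (h.mem_A.1 ha).1, mul_one]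

theorem orbit_six {a : G} (ha : a ∈ V ⊓ Subgroup.centralizer ({x} : Set G)) (ha1 : a ≠ 1)
    (haz : a ≠ T.z) :
    {v : G | ∃ n ∈ Subgroup.normalizer (V : Set G) ⊓ Subgroup.centralizer ({x} : Set G),
      n * a * n⁻¹ = v} =
      ((V ⊓ Subgroup.centralizer ({x} : Set G) : Subgroup G) : Set G) \ {1, T.z} := by
  refine Set.Subset.antisymm (h.orbit_sub ha ha1 haz) ?_
  rintro v ⟨hv, hv1⟩
  simp only [Set.mem_insert_iff, Set.mem_singleton_iff, not_or] at hv1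
  obtain ⟨j, -, e | e⟩ := h.six ha ha1 haz hv hv1.1 hv1.2
  · exact ⟨T.p ^ j, Subgroup.mem_inf.2 ⟨pow_mem h.p_norm j,
      Subgroup.mem_centralizer_singleton_iff.2 (h.comm_px.pow_left j).eq⟩, e.symm⟩
  · obtain ⟨f, hf, hfa⟩ := h.exists_flip_R ha ha1 haz
    refine ⟨T.p ^ j * f, Subgroup.mem_inf.2 ⟨mul_mem (pow_mem h.p_norm j) (h.R_le_M hf),
      Subgroup.mem_centralizer_singleton_iff.2
        ((h.comm_px.pow_left j).mul_left (mem_Rx.1 hf).2).eq⟩, ?_⟩
    have hz : Commute (T.p ^ j) T.z := (show Commute T.p T.z from T.p_comm).pow_left j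
    calc T.p ^ j * f * a * (T.p ^ j * f)⁻¹ = T.p ^ j * (f * a * f⁻¹) * (T.p ^ j)⁻¹ := by group
      _ = T.p ^ j * T.z * a * (T.p ^ j)⁻¹ := by rw [hfa]; group
      _ = v := by rw [e, hz.eq]; group

theorem card_cent_ax {a : G} (ha : a ∈ V ⊓ Subgroup.centralizer ({x} : Set G)) (ha1 : a ≠ 1)
    (haz : a ≠ T.z) :
    Nat.card ↥(Subgroup.centralizer ({x} : Set G) ⊓ Subgroup.centralizer ({a} : Set G)) = 80 := by
  have hc := ncard_orbit_mul_card
    (Subgroup.normalizer (V : Set G) ⊓ Subgroup.centralizer ({x} : Set G)) a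
  rw [h.orbit_six ha ha1 haz, h.ncard_six, h.card_cent_M, h.card_A, inf_assoc,
    inf_eq_right.2 (inf_le_right.trans
      (h.cent_t a (h.mem_A.1 ha).1 ha1 (h.not_z ha ha1 haz)))] at hc
  omega

theorem card_CR16 {a : G} (ha : a ∈ V ⊓ Subgroup.centralizer ({x} : Set G)) (ha1 : a ≠ 1)
    (haz : a ≠ T.z) : Nat.card ↥(Rx T x ⊓ Subgroup.centralizer ({a} : Set G)) = 16 := by
  have := h.card_CR ha ha1 haz
  rw [h.card_R] at this
  omega

/-- The centralizer of `x` and `a` is `C_R(a) × ⟨x⟩`. -/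
theorem cent_ax_eq {a : G} (ha : a ∈ V ⊓ Subgroup.centralizer ({x} : Set G)) (ha1 : a ≠ 1)
    (haz : a ≠ T.z) {b : G} (hb : Commute b x) (hba : Commute b a) :
    ∃ r ∈ Rx T x, Commute r a ∧ ∃ i : ℤ, b = r * x ^ i := by
  set Q := Rx T x ⊓ Subgroup.centralizer ({a} : Set G) with hQ
  set D := Subgroup.centralizer ({x} : Set G) ⊓ Subgroup.centralizer ({a} : Set G) with hD
  have hQD : Q ≤ D := fun r hr => by
    obtain ⟨hr, hra⟩ := Subgroup.mem_inf.1 hr
    exact Subgroup.mem_inf.2 ⟨Subgroup.mem_centralizer_singleton_iff.2 (mem_Rx.1 hr).2.eq, hra⟩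
  have hxD : x ∈ D := Subgroup.mem_inf.2 ⟨Subgroup.mem_centralizer_singleton_iff.2 rfl,
    Subgroup.mem_centralizer_singleton_iff.2 (h.mem_A.1 ha).2.eq.symm⟩
  let f : Q × Subgroup.zpowers x → D := fun r =>
    ⟨r.1 * r.2, mul_mem (hQD r.1.2) (Subgroup.zpowers_le.2 hxD r.2.2)⟩
  have hinj : Function.Injective f := by
    rintro ⟨r, s⟩ ⟨r', s'⟩ e
    have e' : (r : G) * s = r' * s' := congrArg Subtype.val e
    have e2 : (r' : G)⁻¹ * r = s' * (s : G)⁻¹ := by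
      rw [inv_mul_eq_iff_eq_mul, ← mul_assoc, ← e', mul_inv_cancel_right]
    have hd1 : ((r' : G)⁻¹ * r) ^ 16 = 1 := by
      have := pow_card_eq_one' (x := r'⁻¹ * r)
      rw [h.card_CR16 ha ha1 haz] at this
      exact congrArg Subtype.val this
    have hd2 : ((r' : G)⁻¹ * r) ^ 5 = 1 := by
      rw [e2]
      have := pow_card_eq_one' (x := s' * s⁻¹)
      rw [Nat.card_zpowers, h.h5] at this
      exact congrArg Subtype.val this
    have h1 : (r' : G)⁻¹ * r = 1 := by simpa using pow_gcd_eq_one.2 ⟨hd1, hd2⟩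
    have er : r' = r := Subtype.ext (inv_mul_eq_one.1 h1)
    subst er
    exact Prod.ext rfl (Subtype.ext (mul_left_cancel e'))
  have hbij := (Nat.bijective_iff_injective_and_card f).2 ⟨hinj, by
    rw [Nat.card_prod, h.card_CR16 ha ha1 haz, Nat.card_zpowers, h.h5, h.card_cent_ax ha ha1 haz]⟩
  obtain ⟨⟨⟨r, hr⟩, ⟨s, hs⟩⟩, e⟩ := hbij.2 ⟨b, Subgroup.mem_inf.2
    ⟨Subgroup.mem_centralizer_singleton_iff.2 hb.eq,
      Subgroup.mem_centralizer_singleton_iff.2 hba.eq⟩⟩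
  obtain ⟨i, rfl⟩ := hs
  obtain ⟨hr1, hr2⟩ := Subgroup.mem_inf.1 hr
  exact ⟨r, hr1, Subgroup.mem_centralizer_singleton_iff.1 hr2, i,
    (congrArg Subtype.val e).symm⟩

theorem cent_ax_le_H {a : G} (ha : a ∈ V ⊓ Subgroup.centralizer ({x} : Set G)) (ha1 : a ≠ 1)
    (haz : a ≠ T.z) {b : G} (hb : Commute b x) (hba : Commute b a) : b ∈ T.H := by
  obtain ⟨r, hr, -, i, rfl⟩ := h.cent_ax_eq ha ha1 haz hb hba
  exact mul_mem (T.E_le_H (mem_Rx.1 hr).1) (zpow_mem (T.C_le_H h.hx) i)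

theorem invol_mem_R {a : G} (ha : a ∈ V ⊓ Subgroup.centralizer ({x} : Set G)) (ha1 : a ≠ 1)
    (haz : a ≠ T.z) {b : G} (hb : Commute b x) (hba : Commute b a) (hb2 : b * b = 1) :
    b ∈ Rx T x := by
  obtain ⟨r, hr, -, i, rfl⟩ := h.cent_ax_eq ha ha1 haz hb hba
  have hrx : Commute r (x ^ i) := (mem_Rx.1 hr).2.zpow_right i
  have hr4 : r ^ 4 = 1 := by
    rw [show (4 : ℕ) = 2 * 2 from rfl, pow_mul, pow_two r]
    rcases T.sub.sq_eq (mem_Rx.1 hr).1 with e | e <;> rw [e]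
    · exact one_pow 2
    · rw [pow_two, T.z_mul_z]
  have h4 : (x ^ i) ^ 4 = 1 := by
    have h' : (r * x ^ i) ^ 4 = 1 := by
      rw [show (4 : ℕ) = 2 * 2 from rfl, pow_mul, pow_two (r * x ^ i), hb2, one_pow]
    rwa [hrx.mul_pow, hr4, one_mul] at h'
  have h5 : (x ^ i) ^ 5 = 1 := by
    rw [← zpow_natCast, ← zpow_mul, mul_comm, zpow_mul, zpow_natCast, h.x_pow_five, one_zpow]
  have h1 : x ^ i = 1 := by simpa using pow_gcd_eq_one.2 ⟨h4, h5⟩
  rw [h1, mul_one]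
  exact hr

theorem card_W : Nat.card ↥(T.H ⊓ Subgroup.centralizer ({x} : Set G)) = 960 := by
  have e : Nat.card ↥(T.E ⊓ Subgroup.centralizer ({x} : Set G)) = 32 := h.card_R
  rw [card_cent_five h.hx h.h5, e]

end FiveLocalData

end CfsgLib.JFourSeven
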