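import Cfsg.Agent.JFourSeven.FiveFusion

/-!
# The three lines of the fixed subgroup

With `A' = τ A τ⁻¹` the second image of `A`, every involution of `R` is `z`, a conjugate of `a`, or
one of six involutions `p ^ j * (a * a') * p ^ (-j)` and their products with `z`, all conjugate to `z`.
-/

set_option autoImplicit false
set_option linter.style.haveILetI false
set_option linter.unusedSectionVars false

namespace CfsgLib.JFourSeven

open Cfsg CfsgLib.JFourType CfsgLib.JFourType.Shape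

variable {G : Type*} [Group G] [Finite G]

/-- Elements `a ∈ A`, `τ` moving `A`, and `a'` the partner of `a` in the image of `A`. -/
structure FiveFrame (T : Shape G) (V K : Subgroup G) (x a τ a' : G) : Prop where
  local_data : FiveLocalData T V K x
  ha : a ∈ V ⊓ Subgroup.centralizer ({x} : Set G)
  ha1 : a ≠ 1
  haz : a ≠ T.z
  hτ : τ ∈ T.H
  hτx : Commute τ x
  hτA : τ * a * τ⁻¹ ∉ V ⊓ Subgroup.centralizer ({x} : Set G)
  ha' : τ⁻¹ * a' * τ ∈ V ⊓ Subgroup.centralizer ({x} : Set G)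
  ha'1 : a' ≠ 1
  ha'z : a' ≠ T.z
  haa' : Commute a a'

namespace FiveFrame

variable {T : Shape G} {V K : Subgroup G} {x a τ a' : G} (F : FiveFrame T V K x a τ a')
include F

theorem τ_W : τ ∈ T.H ⊓ Subgroup.centralizer ({x} : Set G) :=
  Subgroup.mem_inf.2 ⟨F.hτ, Subgroup.mem_centralizer_singleton_iff.2 F.hτx.eq⟩

theorem τ_not_M : τ ∉ Subgroup.normalizer (V : Set G) := fun hm =>
  F.hτA (F.local_data.WM_conj_mem hm F.hτx F.ha)

theorem τz : τ⁻¹ * T.z * τ = T.z := by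
  rw [mul_assoc, ← (T.mem_H.1 F.hτ), inv_mul_cancel_left]

theorem conj_τ_R {v : G} (hv : τ⁻¹ * v * τ ∈ V ⊓ Subgroup.centralizer ({x} : Set G)) :
    v ∈ Rx T x := by
  have := F.local_data.conj_R_mem F.hτ F.hτx (F.local_data.A_le_R hv)
  simpa [mul_assoc] using this

/-- `A` and its image meet in `⟨z⟩`. -/
theorem inter {v : G} (hv : v ∈ V ⊓ Subgroup.centralizer ({x} : Set G))
    (hv' : τ⁻¹ * v * τ ∈ V ⊓ Subgroup.centralizer ({x} : Set G)) : v = 1 ∨ v = T.z := by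
  by_contra hne
  push Not at hne
  obtain ⟨hne1, hnez⟩ := hne
  set u := τ⁻¹ * v * τ with hu
  have hu1 : u ≠ 1 := fun e => hne1 (by rw [show v = τ * u * τ⁻¹ by rw [hu]; group, e]; group)
  have huz : u ≠ T.z := fun e => hnez (by
    rw [show v = τ * u * τ⁻¹ by rw [hu]; group, e]
    exact mul_inv_eq_iff_eq_mul.2 (T.mem_H.1 F.hτ))
  have hmem : v ∈ {w : G | ∃ n ∈ Subgroup.normalizer (V : Set G) ⊓
      Subgroup.centralizer ({x} : Set G), n * u * n⁻¹ = w} := by
    rw [F.local_data.orbit_six hv' hu1 huz]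
    exact ⟨hv, by rintro (e | e); exacts [hne1 e, hnez (Set.mem_singleton_iff.1 e)]⟩
  obtain ⟨n, hn, hnu⟩ := hmem
  obtain ⟨hnV, hnx⟩ := Subgroup.mem_inf.1 hn
  have hc : τ⁻¹ * n ∈ Subgroup.normalizer (V : Set G) := by
    refine F.local_data.cent_t u (F.local_data.mem_A.1 hv').1 hu1
      (F.local_data.not_z hv' hu1 huz) (Subgroup.mem_centralizer_singleton_iff.2 ?_)
    rw [← mul_inv_eq_iff_eq_mul, show τ⁻¹ * n * u * (τ⁻¹ * n)⁻¹ = τ⁻¹ * (n * u * n⁻¹) * τ by group,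
      hnu]
  refine F.τ_not_M ?_
  have := mul_mem hnV (inv_mem hc)
  simpa using this

/-- The orbit of `a` under `H ⊓ C(x)`. -/
theorem orbit_W {w : G} (hw : w ∈ T.H) (hwx : Commute w x) :
    w * a * w⁻¹ ∈ V ⊓ Subgroup.centralizer ({x} : Set G) ∨
      τ⁻¹ * (w * a * w⁻¹) * τ ∈ V ⊓ Subgroup.centralizer ({x} : Set G) := by
  set W := T.H ⊓ Subgroup.centralizer ({x} : Set G) with hW
  set M := (Subgroup.normalizer (V : Set G) ⊓ Subgroup.centralizer ({x} : Set G)).subgroupOf W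
  let w' : W := ⟨w, Subgroup.mem_inf.2 ⟨hw, Subgroup.mem_centralizer_singleton_iff.2 hwx.eq⟩⟩
  let τ' : W := ⟨τ, F.τ_W⟩
  by_cases hwM : w ∈ Subgroup.normalizer (V : Set G)
  · exact .inl (F.local_data.WM_conj_mem hwM hwx F.ha)
  · right
    have hmem : τ'⁻¹ * w' ∈ M := (Subgroup.mul_mem_iff_of_index_two F.local_data.index_WM).2
      (iff_of_false (fun hm => F.τ_not_M (Subgroup.mem_inf.1 (Subgroup.mem_subgroupOf.1
        (inv_mem_iff.1 hm))).1) (fun hm => hwM (Subgroup.mem_inf.1 (Subgroup.mem_subgroupOf.1 hm)).1))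
    obtain ⟨hV', hx'⟩ := Subgroup.mem_inf.1 (Subgroup.mem_subgroupOf.1 hmem)
    rw [show τ⁻¹ * (w * a * w⁻¹) * τ = (τ⁻¹ * w) * a * (τ⁻¹ * w)⁻¹ by group]
    exact F.local_data.WM_conj_mem hV' (Subgroup.mem_centralizer_singleton_iff.1 hx') F.ha

/-- `p` keeps the image of `A`. -/
theorem p_image {v : G} (hv : τ⁻¹ * v * τ ∈ V ⊓ Subgroup.centralizer ({x} : Set G)) (j : ℕ) :
    τ⁻¹ * (T.p ^ j * v * (T.p ^ j)⁻¹) * τ ∈ V ⊓ Subgroup.centralizer ({x} : Set G) := by
  set W := T.H ⊓ Subgroup.centralizer ({x} : Set G) with hW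
  set M := (Subgroup.normalizer (V : Set G) ⊓ Subgroup.centralizer ({x} : Set G)).subgroupOf W
  haveI : M.Normal := Subgroup.normal_of_index_eq_two F.local_data.index_WM
  have hpx := F.local_data.comm_px.pow_left j
  let q : W := ⟨T.p ^ j, Subgroup.mem_inf.2
    ⟨T.p_pow_mem j, Subgroup.mem_centralizer_singleton_iff.2 hpx.eq⟩⟩
  let τ' : W := ⟨τ, F.τ_W⟩
  have hq : q ∈ M := Subgroup.mem_subgroupOf.2 (Subgroup.mem_inf.2
    ⟨pow_mem F.local_data.p_norm j, Subgroup.mem_centralizer_singleton_iff.2 hpx.eq⟩)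
  obtain ⟨hV', hx'⟩ := Subgroup.mem_inf.1 (Subgroup.mem_subgroupOf.1
    (Subgroup.Normal.conj_mem (H := M) inferInstance q hq τ'⁻¹))
  have e : τ⁻¹ * (T.p ^ j * v * (T.p ^ j)⁻¹) * τ =
      (τ⁻¹ * T.p ^ j * τ⁻¹⁻¹) * (τ⁻¹ * v * τ) * (τ⁻¹ * T.p ^ j * τ⁻¹⁻¹)⁻¹ := by group
  rw [e]
  exact F.local_data.WM_conj_mem hV' (Subgroup.mem_centralizer_singleton_iff.1 hx') hv

theorem a_R : a ∈ Rx T x := F.local_data.A_le_R F.ha

theorem a'_R : a' ∈ Rx T x := F.conj_τ_R F.ha'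

theorem aj_R (j : ℕ) : T.p ^ j * a * (T.p ^ j)⁻¹ ∈ Rx T x :=
  F.local_data.A_le_R (F.local_data.p_conj_mem F.ha j)

/-- Decomposition of `R`. -/
theorem decomp {r : G} (hr : r ∈ Rx T x) :
    ∃ v, τ⁻¹ * v * τ ∈ V ⊓ Subgroup.centralizer ({x} : Set G) ∧
      (r = v ∨ ∃ j < 3, r = T.p ^ j * a * (T.p ^ j)⁻¹ * v) := by
  set A := V ⊓ Subgroup.centralizer ({x} : Set G) with hA
  let f : Option (Fin 3) → G := fun o =>
    match o with
    | none => 1
    | some j => T.p ^ (j : ℕ) * a * (T.p ^ (j : ℕ))⁻¹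
  have hfA : ∀ o, f o ∈ A := fun o => by
    cases o with
    | none => exact one_mem _
    | some j => exact F.local_data.p_conj_mem F.ha _
  have hsep : ∀ o o', f o = f o' ∨ f o = T.z * f o' → o = o' := by
    have hne : ∀ j : Fin 3, f (some j) ≠ 1 ∧ f (some j) ≠ T.z := fun j =>
      ⟨fun e => F.ha1 (conj_eq_one_iff.1 e), fun e => F.haz (by
        have e1 := mul_inv_eq_iff_eq_mul.1 e
        rw [← ((show Commute T.p T.z from T.p_comm).pow_left (j : ℕ)).eq] at e1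
        exact mul_left_cancel e1)⟩
    intro o o' e
    rcases o with _ | i <;> rcases o' with _ | j
    · rfl
    · exfalso
      rcases e with e | e
      · exact (hne j).1 e.symm
      · exact (hne j).2 ((eq_inv_of_mul_eq_one_right e.symm).trans T.z_inv)
    · exfalso
      rcases e with e | e
      · exact (hne i).1 e
      · exact (hne i).2 (e.trans (mul_one _))
    · congr 1
      by_contra hij
      have hd : ¬ 3 ∣ (3 - (j : ℕ) + (i : ℕ)) := by
        have : (i : ℕ) ≠ (j : ℕ) := fun e => hij (Fin.ext e)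
        omega
      have hp3 : T.p ^ (3 - (j : ℕ)) = (T.p ^ (j : ℕ))⁻¹ := eq_inv_of_mul_eq_one_left (by
        rw [← pow_add, Nat.sub_add_cancel (by omega), T.p_pow_three])
      have hz : Commute (T.p ^ (j : ℕ))⁻¹ T.z :=
        ((show Commute T.p T.z from T.p_comm).pow_left (j : ℕ)).inv_left
      have e3 : T.p ^ (3 - (j : ℕ) + (i : ℕ)) * a * (T.p ^ (3 - (j : ℕ) + (i : ℕ)))⁻¹ =
          (T.p ^ (j : ℕ))⁻¹ * f (some i) * T.p ^ (j : ℕ) := by
        rw [pow_add, hp3]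
        show _ = _ * (T.p ^ (i : ℕ) * a * (T.p ^ (i : ℕ))⁻¹) * _
        group
      rcases e with e | e
      · refine (F.local_data.flip_ne F.ha F.ha1 F.haz hd).1 ?_
        rw [e3, e]
        show _ * (T.p ^ (j : ℕ) * a * (T.p ^ (j : ℕ))⁻¹) * _ = a
        group
      · refine (F.local_data.flip_ne F.ha F.ha1 F.haz hd).2 ?_
        rw [e3, e, ← mul_assoc (T.p ^ (j : ℕ))⁻¹, hz.eq]
        show T.z * _ * (T.p ^ (j : ℕ) * a * (T.p ^ (j : ℕ))⁻¹) * _ = T.z * a
        group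
  have hτA : ∀ u : A, τ⁻¹ * (τ * u.1 * τ⁻¹) * τ ∈ A := fun u => by
    rw [show τ⁻¹ * (τ * u.1 * τ⁻¹) * τ = u.1 by group]; exact u.2
  let ψ : Option (Fin 3) × A → Rx T x := fun q => ⟨f q.1 * (τ * q.2.1 * τ⁻¹),
    mul_mem (F.local_data.A_le_R (hfA q.1)) (F.conj_τ_R (hτA q.2))⟩
  have hinj : Function.Injective ψ := by
    rintro ⟨o, u⟩ ⟨o', u'⟩ e
    have e' : f o * (τ * u.1 * τ⁻¹) = f o' * (τ * u'.1 * τ⁻¹) := congrArg Subtype.val e
    have e2 : (f o')⁻¹ * f o = τ * (u'.1 * u.1⁻¹) * τ⁻¹ := by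
      rw [inv_mul_eq_iff_eq_mul,
        show τ * (u'.1 * u.1⁻¹) * τ⁻¹ = τ * u'.1 * τ⁻¹ * (τ * u.1 * τ⁻¹)⁻¹ by group, ← mul_assoc,
        ← e', mul_inv_cancel_right]
    have ho : o = o' := by
      have h2 : τ⁻¹ * ((f o')⁻¹ * f o) * τ ∈ A := by
        rw [e2, show τ⁻¹ * (τ * (u'.1 * u.1⁻¹) * τ⁻¹) * τ = u'.1 * u.1⁻¹ by group]
        exact mul_mem u'.2 (inv_mem u.2)
      rcases F.inter (mul_mem (inv_mem (hfA o')) (hfA o)) h2 with e | e
      · exact hsep o o' (.inl (inv_mul_eq_one.1 e).symm)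
      · refine hsep o o' (.inr ?_)
        rw [inv_mul_eq_iff_eq_mul] at e
        rw [e]
        exact (F.local_data.comm_V (F.local_data.mem_A.1 (hfA o')).1
          (F.local_data.mem_A.1 F.local_data.z_mem_A).1).eq
    subst ho
    exact Prod.ext rfl (Subtype.ext (mul_left_cancel (mul_right_cancel (mul_left_cancel e'))))
  have hbij := (Nat.bijective_iff_injective_and_card ψ).2 ⟨hinj, by
    rw [Nat.card_prod, hA, F.local_data.card_A, F.local_data.card_R, Nat.card_eq_fintype_card,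
      Fintype.card_option, Fintype.card_fin]⟩
  obtain ⟨⟨o, u⟩, e⟩ := hbij.2 ⟨r, hr⟩
  have e' : f o * (τ * u.1 * τ⁻¹) = r := congrArg Subtype.val e
  refine ⟨τ * u.1 * τ⁻¹, hτA u, ?_⟩
  cases o with
  | none => exact .inl (by rw [← e']; exact one_mul _)
  | some j => exact .inr ⟨j, j.2, e'.symm⟩

/-- `a'` is the only partner of `a` in the image of `A`. -/
theorem partner {v : G} (hv : τ⁻¹ * v * τ ∈ V ⊓ Subgroup.centralizer ({x} : Set G))
    (hva : Commute a v) : v = 1 ∨ v = T.z ∨ v = a' ∨ v = T.z * a' := by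
  set A := V ⊓ Subgroup.centralizer ({x} : Set G) with hA
  let Q : Subgroup G := A.map (MulAut.conj τ).toMonoidHom ⊓ Subgroup.centralizer ({a} : Set G)
  have hmemQ : ∀ {u : G}, τ⁻¹ * u * τ ∈ A → Commute a u → u ∈ Q := fun {u} hu hc =>
    Subgroup.mem_inf.2 ⟨⟨_, hu, by simp [mul_assoc]⟩,
      Subgroup.mem_centralizer_singleton_iff.2 hc.eq.symm⟩
  have hQ8 : Nat.card (A.map (MulAut.conj τ).toMonoidHom) = 8 := by
    rw [Subgroup.card_map_of_injective (f := (MulAut.conj τ).toMonoidHom) (MulAut.conj τ).injective,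
      hA, F.local_data.card_A]
  obtain ⟨k, -, hk⟩ := (Nat.dvd_prime_pow Nat.prime_two).1 (show Nat.card Q ∣ 2 ^ 3 by
    rw [show (2 : ℕ) ^ 3 = 8 from rfl, ← hQ8]; exact Subgroup.card_dvd_of_le inf_le_left)
  by_contra hne
  push Not at hne
  obtain ⟨hv1, hvz, hva', hvza'⟩ := hne
  have hzA : τ⁻¹ * T.z * τ ∈ A := by rw [F.τz]; exact F.local_data.z_mem_A
  have haz' : Commute a T.z := F.local_data.comm_V (F.local_data.mem_A.1 F.ha).1
    (F.local_data.mem_A.1 F.local_data.z_mem_A).1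
  have hza'A : τ⁻¹ * (T.z * a') * τ ∈ A := by
    rw [show τ⁻¹ * (T.z * a') * τ = (τ⁻¹ * T.z * τ) * (τ⁻¹ * a' * τ) by group]
    exact mul_mem hzA F.ha'
  have h5 : 5 ≤ Nat.card Q := by
    have hsub : ({1, T.z, a', T.z * a', v} : Set G) ⊆ (Q : Set G) := by
      rintro u (rfl | rfl | rfl | rfl | rfl)
      exacts [one_mem _, hmemQ hzA haz', hmemQ F.ha' F.haa', hmemQ hza'A (haz'.mul_right F.haa'),
        hmemQ hv hva]
    have hc : ({1, T.z, a', T.z * a', v} : Set G).ncard = 5 := by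
      have n1 : T.z * a' ≠ 1 := fun e =>
        F.ha'z ((eq_inv_of_mul_eq_one_right e).trans T.z_inv)
      have n2 : T.z * a' ≠ T.z := fun e => F.ha'1 (mul_eq_left.1 e)
      have n3 : T.z * a' ≠ a' := fun e => T.sub.ne_one (mul_eq_right.1 e)
      rw [Set.ncard_insert_of_notMem
          (by simp [Ne.symm T.sub.ne_one, Ne.symm F.ha'1, Ne.symm n1, Ne.symm hv1]),
        Set.ncard_insert_of_notMem (by simp [Ne.symm F.ha'z, Ne.symm n2, Ne.symm hvz]),
        Set.ncard_insert_of_notMem (by simp [Ne.symm n3, Ne.symm hva']),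
        Set.ncard_pair (Ne.symm hvza')]
    rw [← hc]
    calc ({1, T.z, a', T.z * a', v} : Set G).ncard ≤ (Q : Set G).ncard :=
          Set.ncard_le_ncard hsub (Set.toFinite _)
      _ = Nat.card Q := (Nat.card_coe_set_eq _).symm
  have hall : ∀ u : G, τ⁻¹ * u * τ ∈ A → Commute a u := by
    have hQeq : Q = A.map (MulAut.conj τ).toMonoidHom :=
      Subgroup.eq_of_le_of_card_ge inf_le_left (by
        rw [hQ8, hk]
        rw [hk] at h5
        have : 3 ≤ k := by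
          by_contra hlt
          interval_cases k <;> norm_num at h5
        calc (8 : ℕ) = 2 ^ 3 := rfl
          _ ≤ 2 ^ k := Nat.pow_le_pow_right (by norm_num) this)
    intro u hu
    have : u ∈ Q := by rw [hQeq]; exact ⟨_, hu, by simp [mul_assoc]⟩
    exact (Subgroup.mem_centralizer_singleton_iff.1 (Subgroup.mem_inf.1 this).2).symm
  obtain ⟨e, he, hea⟩ := F.local_data.exists_flip_R F.ha F.ha1 F.haz
  obtain ⟨u, hu, h⟩ := F.decomp he
  have hcom : Commute e a := by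
    rcases h with rfl | ⟨j, -, rfl⟩
    · exact (hall _ hu).symm
    · exact (F.local_data.comm_V (F.local_data.mem_A.1 (F.local_data.p_conj_mem F.ha j)).1
        (F.local_data.mem_A.1 F.ha).1).mul_left (hall _ hu).symm
  rw [hcom.eq, mul_inv_cancel_right] at hea
  exact T.sub.ne_one (right_eq_mul.1 hea)

theorem ca : Commute a (a * a') := (Commute.refl a).mul_right F.haa'

theorem c_R : a * a' ∈ Rx T x := mul_mem F.a_R F.a'_R

theorem cc : a * a' * (a * a') = 1 := by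
  rw [show a * a' * (a * a') = a * (a' * a) * a' by group, ← F.haa'.eq,
    show a * (a * a') * a' = a * a * (a' * a') by group,
    F.local_data.sq_one (F.local_data.mem_A.1 F.ha).1, one_mul]
  have := F.local_data.sq_one (F.local_data.mem_A.1 F.ha').1
  rw [show τ⁻¹ * a' * τ * (τ⁻¹ * a' * τ) = τ⁻¹ * (a' * a') * τ by group] at this
  calc a' * a' = τ * (τ⁻¹ * (a' * a') * τ) * τ⁻¹ := by group
    _ = 1 := by rw [this]; group

/-- The involutions of `R`. -/
theorem classify {r : G} (hr : r ∈ Rx T x) (hr2 : r * r = 1) :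
    r = 1 ∨ r = T.z ∨ (∃ w ∈ T.H, Commute w x ∧ w * a * w⁻¹ = r) ∨
      ∃ j < 3, r = T.p ^ j * (a * a') * (T.p ^ j)⁻¹ ∨
        r = T.z * (T.p ^ j * (a * a') * (T.p ^ j)⁻¹) := by
  set A := V ⊓ Subgroup.centralizer ({x} : Set G) with hA
  have horbA : ∀ u ∈ A, u ≠ 1 → u ≠ T.z → ∃ w ∈ T.H, Commute w x ∧ w * a * w⁻¹ = u := by
    intro u hu hu1 huz
    have hm : u ∈ {w : G | ∃ n ∈ Subgroup.normalizer (V : Set G) ⊓
        Subgroup.centralizer ({x} : Set G), n * a * n⁻¹ = w} := by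
      rw [F.local_data.orbit_six F.ha F.ha1 F.haz]
      exact ⟨hu, by rintro (e | e); exacts [hu1 e, huz (Set.mem_singleton_iff.1 e)]⟩
    obtain ⟨n, hn, e⟩ := hm
    obtain ⟨hnV, hnx⟩ := Subgroup.mem_inf.1 hn
    rw [Subgroup.mem_centralizer_singleton_iff] at hnx
    exact ⟨n, F.local_data.WM_le_H hnV hnx, hnx, e⟩
  obtain ⟨v, hv, rfl | ⟨j, hj, rfl⟩⟩ := F.decomp hr
  · by_cases hv1 : r = 1
    · exact .inl hv1
    by_cases hvz : r = T.z
    · exact .inr (.inl hvz)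
    obtain ⟨w, hw, hwx, e⟩ := horbA (τ⁻¹ * r * τ) hv
      (fun e => hv1 (by rw [show r = τ * (τ⁻¹ * r * τ) * τ⁻¹ by group, e]; group))
      (fun e => hvz (by
        rw [show r = τ * (τ⁻¹ * r * τ) * τ⁻¹ by group, e]
        exact mul_inv_eq_iff_eq_mul.2 (T.mem_H.1 F.hτ)))
    refine .inr (.inr (.inl ⟨τ * w, mul_mem F.hτ hw, F.hτx.mul_left hwx, ?_⟩))
    rw [show τ * w * a * (τ * w)⁻¹ = τ * (w * a * w⁻¹) * τ⁻¹ by group, e]
    group
  · set q := T.p ^ j with hq
    set aj := q * a * q⁻¹ with haj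
    have hajA : aj ∈ A := F.local_data.p_conj_mem F.ha j
    have haj1 : aj ≠ 1 := fun e => F.ha1 (conj_eq_one_iff.1 e)
    have hqz : Commute q T.z := (show Commute T.p T.z from T.p_comm).pow_left j
    have hajz : aj ≠ T.z := fun e => F.haz (by
      have e1 := mul_inv_eq_iff_eq_mul.1 e
      rw [← hqz.eq] at e1
      exact mul_left_cancel e1)
    by_cases hv1 : v = 1
    · subst hv1
      rw [mul_one]
      exact .inr (.inr (.inl (horbA _ hajA haj1 hajz)))
    by_cases hvz : v = T.z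
    · subst hvz
      refine .inr (.inr (.inl (horbA _ (mul_mem hajA F.local_data.z_mem_A) ?_ ?_)))
      · exact fun e => hajz ((eq_inv_of_mul_eq_one_left e).trans T.z_inv)
      · exact fun e => haj1 (mul_eq_right.1 e)
    have haa : aj⁻¹ = aj := inv_eq_of_mul_eq_one_right
      (F.local_data.sq_one (F.local_data.mem_A.1 hajA).1)
    have hvv : v⁻¹ = v := inv_eq_of_mul_eq_one_right (by
      have := F.local_data.sq_one (F.local_data.mem_A.1 hv).1
      rw [show τ⁻¹ * v * τ * (τ⁻¹ * v * τ) = τ⁻¹ * (v * v) * τ by group] at this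
      calc v * v = τ * (τ⁻¹ * (v * v) * τ) * τ⁻¹ := by group
        _ = 1 := by rw [this]; group)
    have hcomm : Commute aj v := by
      show aj * v = v * aj
      calc aj * v = (aj * v)⁻¹ := (inv_eq_of_mul_eq_one_right hr2).symm
        _ = v * aj := by rw [mul_inv_rev, haa, hvv]
    have hp3 : (T.p ^ j)⁻¹ = T.p ^ (3 - j) := (eq_inv_of_mul_eq_one_left (by
      rw [← pow_add, Nat.sub_add_cancel (le_of_lt hj), T.p_pow_three])).symm
    set v0 := q⁻¹ * v * q with hv0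
    have hv0A : τ⁻¹ * v0 * τ ∈ A := by
      have := F.p_image hv (3 - j)
      rwa [← hp3, inv_inv, ← hq] at this
    have hv0a : Commute a v0 := by
      have := (commute_conj_iff (n := q⁻¹)).2 hcomm
      rwa [haj, show q⁻¹ * (q * a * q⁻¹) * q⁻¹⁻¹ = a by group, inv_inv] at this
    rcases F.partner hv0A hv0a with e | e | e | e
    · exact absurd (show v = 1 by rw [show v = q * v0 * q⁻¹ by rw [hv0]; group, e]; group) hv1
    · refine absurd (show v = T.z by
        rw [show v = q * v0 * q⁻¹ by rw [hv0]; group, e, hqz.eq]; group) hvz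
    · refine .inr (.inr (.inr ⟨j, hj, .inl ?_⟩))
      rw [show v = q * v0 * q⁻¹ by rw [hv0]; group, e, haj, ← hq]
      group
    · refine .inr (.inr (.inr ⟨j, hj, .inr ?_⟩))
      have haz' : Commute a T.z := F.local_data.comm_V (F.local_data.mem_A.1 F.ha).1
        (F.local_data.mem_A.1 F.local_data.z_mem_A).1
      rw [show v = q * v0 * q⁻¹ by rw [hv0]; group, e, haj, ← hq]
      calc q * a * q⁻¹ * (q * (T.z * a') * q⁻¹) = q * (a * T.z) * a' * q⁻¹ := by group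
        _ = q * T.z * (a * a') * q⁻¹ := by rw [haz'.eq]; group
        _ = T.z * (q * (a * a') * q⁻¹) := by rw [hqz.eq]; group

theorem orbit_not_c {w : G} (hw : w ∈ T.H) (hwx : Commute w x) : w * a * w⁻¹ ≠ a * a' := by
  intro e
  rcases F.orbit_W hw hwx with hA | hA <;> rw [e] at hA
  · have h1 : a' ∈ V ⊓ Subgroup.centralizer ({x} : Set G) := by
      have := mul_mem (inv_mem F.ha) hA
      rwa [inv_mul_cancel_left] at this
    rcases F.inter h1 F.ha' with e | e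
    exacts [F.ha'1 e, F.ha'z e]
  · have h1 : τ⁻¹ * a * τ ∈ V ⊓ Subgroup.centralizer ({x} : Set G) := by
      have := mul_mem hA (inv_mem F.ha')
      rwa [show τ⁻¹ * (a * a') * τ * (τ⁻¹ * a' * τ)⁻¹ = τ⁻¹ * a * τ by group] at this
    rcases F.inter F.ha h1 with e | e
    exacts [F.ha1 e, F.haz e]

/-- The product `a * a'` is a conjugate of `z`. -/
theorem c_isConj : IsConj T.z (a * a') := by
  by_contra hc
  have hcx : Commute (a * a') x := (mem_Rx.1 F.c_R).2
  have hc1 : a * a' ≠ 1 := fun e => by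
    rcases F.inter F.ha (by
      rw [show a = a'⁻¹ from eq_inv_of_mul_eq_one_left e,
        show τ⁻¹ * a'⁻¹ * τ = (τ⁻¹ * a' * τ)⁻¹ by group]
      exact inv_mem F.ha') with e | e
    exacts [F.ha1 e, F.haz e]
  obtain ⟨n, hn, hne⟩ := F.local_data.t_conj F.ha F.ha1 F.haz hcx F.cc hc1 hc
  have h80 : Nat.card ↥(T.H ⊓ Subgroup.centralizer ({x} : Set G) ⊓
      Subgroup.centralizer ({a * a'} : Set G)) ≤ 80 := by
    refine le_trans (Subgroup.card_le_of_le (inf_le_inf_right _ inf_le_right)) (le_of_eq ?_)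
    rw [← hne, card_cent_conj hn, F.local_data.card_cent_ax F.ha F.ha1 F.haz]
  set U := {v : G | ∃ w ∈ T.H ⊓ Subgroup.centralizer ({x} : Set G), w * (a * a') * w⁻¹ = v} with hU
  have hcount := ncard_orbit_mul_card (T.H ⊓ Subgroup.centralizer ({x} : Set G)) (a * a')
  rw [F.local_data.card_W, ← hU] at hcount
  have hsub : U ⊆ Set.range (fun q : Fin 3 × Bool =>
      if q.2 then T.z * (T.p ^ (q.1 : ℕ) * (a * a') * (T.p ^ (q.1 : ℕ))⁻¹)
      else T.p ^ (q.1 : ℕ) * (a * a') * (T.p ^ (q.1 : ℕ))⁻¹) := by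
    rintro v ⟨w, hw, rfl⟩
    obtain ⟨hwH, hwx⟩ := Subgroup.mem_inf.1 hw
    rw [Subgroup.mem_centralizer_singleton_iff] at hwx
    have hR := F.local_data.conj_R_mem hwH hwx F.c_R
    have h2 : w * (a * a') * w⁻¹ * (w * (a * a') * w⁻¹) = 1 := by
      rw [show w * (a * a') * w⁻¹ * (w * (a * a') * w⁻¹) = w * (a * a' * (a * a')) * w⁻¹ by group,
        F.cc]
      group
    rcases F.classify hR h2 with e | e | ⟨w', hw', hwx', e⟩ | ⟨j, hj, e | e⟩
    · exact absurd (conj_eq_one_iff.1 e) hc1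
    · exfalso
      exact hc (isConj_iff.2 ⟨w⁻¹, by rw [← e]; group⟩)
    · exfalso
      refine F.orbit_not_c (mul_mem (inv_mem hwH) hw')
        ((show Commute w x from hwx).inv_left.mul_left hwx') ?_
      rw [show w⁻¹ * w' * a * (w⁻¹ * w')⁻¹ = w⁻¹ * (w' * a * w'⁻¹) * w by group, e]
      group
    · exact ⟨(⟨j, hj⟩, false), by simp [e]⟩
    · exact ⟨(⟨j, hj⟩, true), by simp [e]⟩
  have h6 : U.ncard ≤ 6 := by
    refine le_trans (Set.ncard_le_ncard hsub (Set.toFinite _)) ?_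
    rw [← Nat.card_coe_set_eq]
    refine le_trans (Finite.card_range_le _) ?_
    rw [Nat.card_eq_fintype_card]
    rfl
  have := Nat.mul_le_mul h6 h80
  omega

end FiveFrame

theorem FiveLocalData.exists_frame {T : Shape G} {V K : Subgroup G} {x : G}
    (h : FiveLocalData T V K x) : ∃ a τ a', FiveFrame T V K x a τ a' := by
  obtain ⟨a, ha, ha1, haz⟩ := h.exists_a
  set A := V ⊓ Subgroup.centralizer ({x} : Set G) with hA
  obtain ⟨τ, hτ, hτA⟩ : ∃ τ ∈ T.H ⊓ Subgroup.centralizer ({x} : Set G), τ * a * τ⁻¹ ∉ A := by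
    by_contra hcon
    push Not at hcon
    have hcount := ncard_orbit_mul_card (T.H ⊓ Subgroup.centralizer ({x} : Set G)) a
    rw [h.card_W, h.card_W_cent ha ha1 haz] at hcount
    have hle : {v : G | ∃ w ∈ T.H ⊓ Subgroup.centralizer ({x} : Set G), w * a * w⁻¹ = v}.ncard
        ≤ 8 := by
      rw [← h.card_A, ← SetLike.coe_sort_coe, Nat.card_coe_set_eq]
      refine Set.ncard_le_ncard ?_ (Set.toFinite _)
      rintro v ⟨w, hw, rfl⟩
      exact hcon w hw
    omega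
  obtain ⟨hτH, hτx⟩ := Subgroup.mem_inf.1 hτ
  rw [Subgroup.mem_centralizer_singleton_iff] at hτx
  have hconjR : ∀ u ∈ A, τ * u * τ⁻¹ ∈ Rx T x := fun u hu =>
    h.conj_R_mem hτH hτx (h.A_le_R hu)
  obtain ⟨u, hu, hu1, huz, hcomm⟩ : ∃ u ∈ A, u ≠ 1 ∧ u ≠ T.z ∧ Commute a (τ * u * τ⁻¹) := by
    set b := T.p ^ 1 * a * (T.p ^ 1)⁻¹ with hb
    have hbA : b ∈ A := h.p_conj_mem ha 1
    have hne := h.flip_ne ha ha1 haz (d := 1) (by norm_num)
    have haR := h.A_le_R ha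
    have hb1 : b ≠ 1 := fun e => ha1 (conj_eq_one_iff.1 e)
    have hbz : b ≠ T.z := fun e => haz (by
      have e1 := mul_inv_eq_iff_eq_mul.1 e
      rw [← ((show Commute T.p T.z from T.p_comm).pow_left 1).eq] at e1
      exact mul_left_cancel e1)
    rcases h.R_move (hconjR a ha) haR with e | e
    · exact ⟨a, ha, ha1, haz, mul_inv_eq_iff_eq_mul.1 e⟩
    rcases h.R_move (hconjR b hbA) haR with e' | e'
    · exact ⟨b, hbA, hb1, hbz, mul_inv_eq_iff_eq_mul.1 e'⟩
    have haa : a⁻¹ = a := inv_eq_of_mul_eq_one_right (h.sq_one (h.mem_A.1 ha).1)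
    refine ⟨a * b, mul_mem ha hbA, fun e1 => hne.1 ((eq_inv_of_mul_eq_one_right e1).trans haa),
      fun e1 => hne.2 ?_, ?_⟩
    · show b = T.z * a
      rw [← e1, (h.comm_V (h.mem_A.1 ha).1 (h.mem_A.1 hbA).1).eq, mul_assoc,
        h.sq_one (h.mem_A.1 ha).1, mul_one]
    · refine mul_inv_eq_iff_eq_mul.1 ?_
      have hrz : Commute (τ * a * τ⁻¹) T.z := T.sub.z_comm (mem_Rx.1 (hconjR a ha)).1
      calc a * (τ * (a * b) * τ⁻¹) * a⁻¹
          = (a * (τ * a * τ⁻¹) * a⁻¹) * (a * (τ * b * τ⁻¹) * a⁻¹) := by group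
        _ = T.z * (τ * a * τ⁻¹) * (T.z * (τ * b * τ⁻¹)) := by rw [e, e']
        _ = T.z * ((τ * a * τ⁻¹) * T.z) * (τ * b * τ⁻¹) := by group
        _ = τ * (a * b) * τ⁻¹ := by
          rw [hrz.eq, ← mul_assoc T.z, T.z_mul_z, one_mul]; group
  refine ⟨a, τ, τ * u * τ⁻¹, h, ha, ha1, haz, hτH, hτx, hτA, ?_, ?_, ?_, hcomm⟩
  · rw [show τ⁻¹ * (τ * u * τ⁻¹) * τ = u by group]; exact hu
  · exact fun e => hu1 (conj_eq_one_iff.1 e)
  · intro e
    refine huz ?_
    have e1 := mul_inv_eq_iff_eq_mul.1 e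
    rw [← T.mem_H.1 hτH] at e1
    exact mul_left_cancel e1

end CfsgLib.JFourSeven
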