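import Cfsg.Agent.JFourSeven.FiveFixed

/-!
# Fusion of involutions in the centralizer of an element of order five

Every conjugate of `z` in the centralizer of `x`, and every other involution there, is carried from
`z`, respectively from an element `a` of `A`, by the normalizer of `⟨x⟩`.
-/

set_option autoImplicit false
set_option linter.style.haveILetI false
set_option linter.unusedSectionVars false

namespace CfsgLib.JFourSeven

open Cfsg CfsgLib.JFourType CfsgLib.JFourType.Shape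

variable {G : Type*} [Group G] [Finite G]

/-- An element normalising `⟨x⟩` carries its centralizer to itself. -/
theorem norm_commute_iff {x n w : G}
    (hn : n ∈ Subgroup.normalizer ((Subgroup.zpowers x : Subgroup G) : Set G)) :
    Commute (n * w * n⁻¹) x ↔ Commute w x := by
  constructor
  · intro hc
    obtain ⟨j, hj⟩ := (Subgroup.mem_normalizer_iff.1 hn x).1 (Subgroup.mem_zpowers x)
    have h2 : Commute (n * w * n⁻¹) (n * x * n⁻¹) := hj ▸ hc.zpow_right j
    show w * x = x * w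
    have e := h2.eq
    rw [show n * w * n⁻¹ * (n * x * n⁻¹) = n * (w * x) * n⁻¹ by group,
      show n * x * n⁻¹ * (n * w * n⁻¹) = n * (x * w) * n⁻¹ by group] at e
    exact mul_left_cancel (mul_right_cancel e)
  · intro hc
    obtain ⟨j, hj⟩ := (Subgroup.mem_normalizer_iff''.1 hn x).1 (Subgroup.mem_zpowers x)
    have h2 : Commute w (n⁻¹ * x * n) := hj ▸ hc.zpow_right j
    show n * w * n⁻¹ * x = x * (n * w * n⁻¹)
    calc n * w * n⁻¹ * x = n * (w * (n⁻¹ * x * n)) * n⁻¹ := by group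
      _ = n * (n⁻¹ * x * n * w) * n⁻¹ := by rw [h2.eq]
      _ = x * (n * w * n⁻¹) := by group

theorem commute_conj_iff {n u w : G} : Commute (n * u * n⁻¹) (n * w * n⁻¹) ↔ Commute u w := by
  show n * u * n⁻¹ * (n * w * n⁻¹) = n * w * n⁻¹ * (n * u * n⁻¹) ↔ u * w = w * u
  rw [show n * u * n⁻¹ * (n * w * n⁻¹) = n * (u * w) * n⁻¹ by group,
    show n * w * n⁻¹ * (n * u * n⁻¹) = n * (w * u) * n⁻¹ by group, mul_left_inj, mul_right_inj]

/-- Centralizers inside `C(x)` of elements fused by the normalizer have equal order. -/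
theorem card_cent_conj {x n a : G}
    (hn : n ∈ Subgroup.normalizer ((Subgroup.zpowers x : Subgroup G) : Set G)) :
    Nat.card ↥(Subgroup.centralizer ({x} : Set G) ⊓ Subgroup.centralizer ({n * a * n⁻¹} : Set G)) =
      Nat.card ↥(Subgroup.centralizer ({x} : Set G) ⊓ Subgroup.centralizer ({a} : Set G)) := by
  refine (Nat.card_congr ((MulAut.conj n).toEquiv.subtypeEquiv fun w => ?_)).symm
  simp only [Subgroup.mem_inf, Subgroup.mem_centralizer_singleton_iff]
  show w * x = x * w ∧ w * a = a * w ↔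
    n * w * n⁻¹ * x = x * (n * w * n⁻¹) ∧ n * w * n⁻¹ * (n * a * n⁻¹) = n * a * n⁻¹ * (n * w * n⁻¹)
  exact and_congr (norm_commute_iff hn).symm commute_conj_iff.symm

theorem pow_p_move {T : Shape G} {e : G} (he : e ∈ T.E) {d : ℕ} (hd : ¬ 3 ∣ d)
    (h : T.p ^ d * e * (T.p ^ d)⁻¹ = e ∨ T.p ^ d * e * (T.p ^ d)⁻¹ = T.z * e) :
    e = 1 ∨ e = T.z := by
  have hv : T.cj (T.p ^ d) (T.pr e) = T.pr e := by
    rw [T.cj_pr (T.p_pow_mem d) he, pr_eq_iff (T.conj_mem (T.p_pow_mem d) he) he]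
    exact h
  refine (pr_eq_zero he).1 (eq_zero_of_cj_p ?_)
  have e1 : T.p = (T.p ^ d) ^ d := by
    rw [← pow_mul, T.p_pow_mod, show d * d % 3 = 1 by
      rcases (show d % 3 = 1 ∨ d % 3 = 2 by omega) with e | e <;> simp [Nat.mul_mod, e], pow_one]
  rw [e1, T.cj_pow (T.p_pow_mem d)]
  exact Function.iterate_fixed hv d

namespace FiveLocalData

variable {T : Shape G} {V K : Subgroup G} {x : G} (h : FiveLocalData T V K x)
include h

theorem x_mem_H : x ∈ T.H := T.C_le_H h.hx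

/-- Conjugates of `z` in `C(x)`. -/
theorem z_conj {v : G} (hv : Commute v x) (hc : IsConj T.z v) :
    ∃ n ∈ Subgroup.normalizer ((Subgroup.zpowers x : Subgroup G) : Set G),
      n * T.z * n⁻¹ = v := by
  haveI : Fact (Nat.Prime 5) := ⟨by norm_num⟩
  obtain ⟨g, rfl⟩ := isConj_iff.1 hc
  have hH : ¬ 5 ^ 2 ∣ Nat.card T.H := by rw [card_H]; norm_num
  obtain ⟨c, hc', hcx⟩ := exists_conj_mem_zpowers (q := 5) hH (x := x) (y := g⁻¹ * x * g) h.x_mem_H
    (T.mem_H.2 (by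
      calc g⁻¹ * x * g * T.z = g⁻¹ * (x * (g * T.z * g⁻¹)) * g := by group
        _ = g⁻¹ * (g * T.z * g⁻¹ * x) * g := by rw [hv.eq]
        _ = T.z * (g⁻¹ * x * g) := by group))
    h.h5 (by
      rw [show g⁻¹ * x * g = MulAut.conj g⁻¹ x by simp, MulEquiv.orderOf_eq]
      exact h.h5)
  refine ⟨g * c⁻¹, inv_mem_iff.1 (mem_normalizer_zpowers ?_), ?_⟩
  · rw [show (g * c⁻¹)⁻¹ * x * (g * c⁻¹)⁻¹⁻¹ = c * (g⁻¹ * x * g) * c⁻¹ by group]
    exact hcx
  · have hcz : c⁻¹ * T.z = T.z * c⁻¹ := T.mem_H.1 (inv_mem hc')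
    rw [show g * c⁻¹ * T.z * (g * c⁻¹)⁻¹ = g * (c⁻¹ * T.z * c) * g⁻¹ by group, hcz]
    group

/-- Involutions of `C(x)` not conjugate to `z`. -/
theorem t_conj {a : G} (ha : a ∈ V ⊓ Subgroup.centralizer ({x} : Set G)) (ha1 : a ≠ 1)
    (haz : a ≠ T.z) {v : G} (hv : Commute v x) (hv2 : v * v = 1) (hv1 : v ≠ 1)
    (hc : ¬ IsConj T.z v) :
    ∃ n ∈ Subgroup.normalizer ((Subgroup.zpowers x : Subgroup G) : Set G), n * a * n⁻¹ = v := by
  haveI : Fact (Nat.Prime 5) := ⟨by norm_num⟩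
  haveI : Fact (Nat.Prime 2) := ⟨Nat.prime_two⟩
  obtain ⟨haV, hax⟩ := h.mem_A.1 ha
  have hnz := h.not_z ha ha1 haz
  obtain ⟨g, rfl⟩ := isConj_iff.1 (h.two a v
    (orderOf_eq_prime ((pow_two a).trans (h.sq_one haV)) ha1)
    (orderOf_eq_prime ((pow_two v).trans hv2) hv1) hnz hc)
  obtain ⟨c, hc', hcx⟩ := exists_conj_mem_zpowers (q := 5)
    (h.not_sq_dvd (h.cent_t a haV ha1 hnz)) (x := x) (y := g⁻¹ * x * g)
    (Subgroup.mem_centralizer_singleton_iff.2 hax.eq.symm)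
    (Subgroup.mem_centralizer_singleton_iff.2 (by
      calc g⁻¹ * x * g * a = g⁻¹ * (x * (g * a * g⁻¹)) * g := by group
        _ = g⁻¹ * (g * a * g⁻¹ * x) * g := by rw [hv.eq]
        _ = a * (g⁻¹ * x * g) := by group))
    h.h5 (by
      rw [show g⁻¹ * x * g = MulAut.conj g⁻¹ x by simp, MulEquiv.orderOf_eq]
      exact h.h5)
  refine ⟨g * c⁻¹, inv_mem_iff.1 (mem_normalizer_zpowers ?_), ?_⟩
  · rw [show (g * c⁻¹)⁻¹ * x * (g * c⁻¹)⁻¹⁻¹ = c * (g⁻¹ * x * g) * c⁻¹ by group]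
    exact hcx
  · have hca : c⁻¹ * a = a * c⁻¹ := Subgroup.mem_centralizer_singleton_iff.1 (inv_mem hc')
    rw [show g * c⁻¹ * a * (g * c⁻¹)⁻¹ = g * (c⁻¹ * a * c) * g⁻¹ by group, hca]
    group

theorem card_W_cent {a : G} (ha : a ∈ V ⊓ Subgroup.centralizer ({x} : Set G)) (ha1 : a ≠ 1)
    (haz : a ≠ T.z) :
    Nat.card ↥(T.H ⊓ Subgroup.centralizer ({x} : Set G) ⊓
      Subgroup.centralizer ({a} : Set G)) = 80 := by
  have hle : Subgroup.centralizer ({x} : Set G) ⊓ Subgroup.centralizer ({a} : Set G) ≤ T.H :=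
    fun b hb => by
      obtain ⟨hbx, hba⟩ := Subgroup.mem_inf.1 hb
      exact h.cent_ax_le_H ha ha1 haz (Subgroup.mem_centralizer_singleton_iff.1 hbx)
        (Subgroup.mem_centralizer_singleton_iff.1 hba)
  rw [inf_assoc, inf_eq_right.2 hle]
  exact h.card_cent_ax ha ha1 haz

/-- `N(V) ⊓ C(x)` has index two in `H ⊓ C(x)`. -/
theorem index_WM : ((Subgroup.normalizer (V : Set G) ⊓ Subgroup.centralizer ({x} : Set G)).subgroupOf
    (T.H ⊓ Subgroup.centralizer ({x} : Set G))).index = 2 := by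
  set W := T.H ⊓ Subgroup.centralizer ({x} : Set G)
  have hle : Subgroup.normalizer (V : Set G) ⊓ Subgroup.centralizer ({x} : Set G) ≤ W :=
    fun n hn => by
      obtain ⟨h1, h2⟩ := Subgroup.mem_inf.1 hn
      exact Subgroup.mem_inf.2 ⟨h.WM_le_H h1 (Subgroup.mem_centralizer_singleton_iff.1 h2), h2⟩
  have := ((Subgroup.normalizer (V : Set G) ⊓
    Subgroup.centralizer ({x} : Set G)).subgroupOf W).card_mul_index
  rw [Nat.card_congr (Subgroup.subgroupOfEquivOfLe hle).toEquiv, h.card_cent_M, h.card_A,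
    h.card_W] at this
  omega

end FiveLocalData

end CfsgLib.JFourSeven
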