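import Cfsg.Agent.JFourSeven.HSide

/-!
# The centralizer of an element of order five in the centralizer of the involution

For `x` of order five in `C`: the order of its centralizer in terms of the fixed subgroup
`R = E ⊓ C(x)`, the centre of `R`, and the behaviour of two-elements outside `R` on `⟨p⟩`.
-/

set_option autoImplicit false
set_option linter.style.haveILetI false
set_option linter.unusedSectionVars false

namespace CfsgLib.JFourSeven

open Cfsg CfsgLib.JFourType CfsgLib.JFourType.Shape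

variable {G : Type*} [Group G] [Finite G] {S : Shape G}

theorem card_cent_five {x : G} (hx : x ∈ S.C) (h5 : orderOf x = 5) :
    Nat.card ↥(S.H ⊓ Subgroup.centralizer ({x} : Set G)) =
      30 * Nat.card ↥(S.E ⊓ Subgroup.centralizer ({x} : Set G)) := by
  haveI : Fact (Nat.Prime 5) := ⟨by norm_num⟩
  rw [card_cent hx (q := 5) (by decide) (h5 ▸ pow_orderOf_eq_one x),
    (aut_five (orderOf_piv hx (by decide) h5)).1]
  ring

/-- An element of square in `E` acting trivially on `M22` lies in `E`. -/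
theorem mem_E_of_piv {g : G} (hg : g ∈ S.H) (h1 : S.piv g = 1) (h2 : g * g ∈ S.E) : g ∈ S.E := by
  obtain ⟨e, he, k, rfl⟩ := (piv_eq_one hg).1 h1
  have h3 : S.p ^ (2 * k) ∈ S.E := by
    have e1 : S.p ^ (2 * k) = (S.p ^ k * e * (S.p ^ k)⁻¹)⁻¹ * e⁻¹ * (e * S.p ^ k * (e * S.p ^ k)) := by
      rw [two_mul, pow_add]; group
    rw [e1]
    exact mul_mem (mul_mem (inv_mem (S.conj_mem (S.p_pow_mem k) he)) (inv_mem he)) h2
  have hd := orderOf_dvd_of_pow_eq_one (S.p_pow_mem_E h3)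
  rw [S.p3] at hd
  have hk : S.p ^ k = 1 := by
    obtain ⟨j, rfl⟩ := (show (3 : ℕ) ∣ k by omega)
    rw [pow_mul, S.p_pow_three, one_pow]
  rwa [hk, mul_one]

theorem cube_E_p {e : G} (he : e ∈ S.E) : ¬ ∃ k : ℕ, ¬ 3 ∣ k ∧ (e * S.p ^ k) * (e * S.p ^ k) = 1 := by
  rintro ⟨k, hk, hsq⟩
  have hmem : e * S.p ^ k ∈ S.E := mem_E_of_piv (mul_mem (S.E_le_H he) (S.p_pow_mem k))
    ((piv_eq_one (mul_mem (S.E_le_H he) (S.p_pow_mem k))).2 ⟨e, he, k, rfl⟩)
    (hsq ▸ one_mem _)
  have hp : S.p ^ k ∈ S.E := by simpa using mul_mem (inv_mem he) hmem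
  have hd := orderOf_dvd_of_pow_eq_one (S.p_pow_mem_E hp)
  rw [S.p3] at hd
  exact hk hd

/-- Decomposition of an element of `H`: it centralises or inverts `p` modulo `E`. -/
theorem p_action {g : G} (hg : g ∈ S.H) :
    ∃ e ∈ S.E, ∃ n ∈ S.H, g = e * n ∧
      ((n * S.p * n⁻¹ = S.p ∧ g * S.p * g⁻¹ * S.p⁻¹ ∈ S.E) ∨
        (n * S.p * n⁻¹ = S.p⁻¹ ∧ g * S.p * g⁻¹ * S.p ∈ S.E)) := by
  obtain ⟨e, he, n, hn, rfl, hnp⟩ := decompose hg
  refine ⟨e, he, n, hn, rfl, ?_⟩
  rcases hnp with h | h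
  · have h' : n * S.p * n⁻¹ = S.p :=
      mul_inv_eq_iff_eq_mul.2 (show Commute n S.p from h).eq
    refine .inl ⟨h', ?_⟩
    rw [show e * n * S.p * (e * n)⁻¹ * S.p⁻¹ = e * ((n * S.p * n⁻¹) * e⁻¹ * S.p⁻¹) by group, h']
    exact mul_mem he (S.conj_mem S.p_mem_H (inv_mem he))
  · refine .inr ⟨h, ?_⟩
    rw [show e * n * S.p * (e * n)⁻¹ * S.p = e * ((n * S.p * n⁻¹) * e⁻¹ * S.p) by group, h]
    exact mul_mem he (S.conj_mem' S.p_mem_H (inv_mem he))

/-- A centraliser in `M22` of an element of order five has no involution. -/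
theorem inner_invol_trivial {x n : G} (hx : x ∈ S.C) (h5 : orderOf x = 5) (hn : n ∈ S.C)
    (hnx : Commute (S.piv n) (S.piv x)) (hn2 : S.piv n * S.piv n = 1) : S.piv n = 1 := by
  haveI : Fact (Nat.Prime 5) := ⟨by norm_num⟩
  obtain ⟨m, hm⟩ : ∃ m : M22g, MulAut.conj m = S.piv n := inner_of_C hn
  obtain ⟨a, ha⟩ : ∃ a : M22g, MulAut.conj a = S.piv x := inner_of_C hx
  have ha5 : orderOf a = 5 := by
    rw [← orderOf_injective _ conj_injective a]
    exact (congrArg orderOf ha).trans (orderOf_piv hx (by decide) h5)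
  have hma : m * a = a * m := conj_injective (by rw [map_mul, map_mul, hm, ha, hnx.eq])
  have hC := (exists_torus (.inl ha5)).1
  rw [ha5] at hC
  have hm5 : m ^ 5 = 1 := by
    have := pow_card_eq_one' (x := (⟨m, Subgroup.mem_centralizer_singleton_iff.2 hma⟩ :
      Subgroup.centralizer ({a} : Set M22g)))
    rw [hC] at this
    exact congrArg Subtype.val this
  have hm2 : m ^ 2 = 1 := conj_injective (by rw [map_pow, hm, map_one, pow_two, hn2])
  have hm1 : m = 1 := by simpa using pow_gcd_eq_one.2 ⟨hm5, hm2⟩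
  rw [← hm, hm1, map_one]

/-- A two-element centralising `x` and centralising `p` modulo `E` lies in `E`. -/
theorem mem_E_of_cent_p {x g : G} (hx : x ∈ S.C) (h5 : orderOf x = 5) (hg : g ∈ S.H)
    (hgx : Commute g x) (h2 : g * g ∈ S.E) (hp : g * S.p * g⁻¹ * S.p⁻¹ ∈ S.E) : g ∈ S.E := by
  refine mem_E_of_piv hg ?_ h2
  obtain ⟨e, he, n, hn, hgn, h⟩ := p_action hg
  rcases h with ⟨h, -⟩ | ⟨-, h⟩
  · have hpiv : S.piv g = S.piv n := by rw [hgn, piv_mul (S.E_le_H he) hn, piv_E he, one_mul]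
    rw [hpiv]
    refine inner_invol_trivial hx h5
      (S.mem_C.2 ⟨S.mem_H.1 hn, mul_inv_eq_iff_eq_mul.1 h⟩) ?_ ?_
    · show S.piv n * S.piv x = S.piv x * S.piv n
      rw [← hpiv, ← piv_mul hg (S.C_le_H hx), ← piv_mul (S.C_le_H hx) hg, hgx.eq]
    · rw [← hpiv, ← piv_mul hg hg, piv_E h2]
  · exfalso
    have hmem : S.p ^ 2 ∈ S.E := by
      rw [show S.p ^ 2 = (g * S.p * g⁻¹ * S.p⁻¹)⁻¹ * (g * S.p * g⁻¹ * S.p) by rw [pow_two]; group]
      exact mul_mem (inv_mem hp) h
    have hd := orderOf_dvd_of_pow_eq_one (S.p_pow_mem_E hmem)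
    rw [S.p3] at hd
    omega

/-- A two-element centralising `x` outside `E` inverts `p` modulo `E`. -/
theorem inverts_p_of_not_mem {x g : G} (hx : x ∈ S.C) (h5 : orderOf x = 5) (hg : g ∈ S.H)
    (hgx : Commute g x) (h2 : g * g ∈ S.E) (hgE : g ∉ S.E) : g * S.p * g⁻¹ * S.p ∈ S.E := by
  obtain ⟨e, he, n, hn, hgn, h⟩ := p_action hg
  rcases h with ⟨-, h⟩ | ⟨-, h⟩
  · exact absurd (mem_E_of_cent_p hx h5 hg hgx h2 h) hgE
  · exact h

/-- Two such elements outside `E` have a product in `E⟨p⟩`. -/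
theorem piv_mul_of_not_mem {x g k : G} (hx : x ∈ S.C) (h5 : orderOf x = 5) (hg : g ∈ S.H)
    (hgx : Commute g x) (hg2 : g * g ∈ S.E) (hgE : g ∉ S.E) (hk : k ∈ S.H) (hkx : Commute k x)
    (hk2 : k * k ∈ S.E) (hkE : k ∉ S.E) : S.piv (g * k) = 1 := by
  haveI : Fact (Nat.Prime 5) := ⟨by norm_num⟩
  have ho := orderOf_piv hx (by decide : Nat.Coprime 5 6) h5
  set A := Subgroup.centralizer ({S.piv x} : Set (MulAut M22g)) with hA
  have hmemA : ∀ {w : G}, w ∈ S.H → Commute w x → S.piv w ∈ A := fun {w} hw hwx => by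
    rw [hA, Subgroup.mem_centralizer_singleton_iff, ← piv_mul hw (S.C_le_H hx),
      ← piv_mul (S.C_le_H hx) hw, hwx.eq]
  have hsq : ∀ {w : G}, w ∈ S.H → w * w ∈ S.E → S.piv w * S.piv w = 1 := fun {w} hw h2 => by
    rw [← piv_mul hw hw, piv_E h2]
  let g' : A := ⟨S.piv g, hmemA hg hgx⟩
  let k' : A := ⟨S.piv k, hmemA hk hkx⟩
  let X : Subgroup A := (Subgroup.zpowers (S.piv x)).subgroupOf A
  have hXA : Subgroup.zpowers (S.piv x) ≤ A :=
    Subgroup.zpowers_le.2 (Subgroup.mem_centralizer_singleton_iff.2 rfl)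
  have hX5 : Nat.card X = 5 := by
    rw [Nat.card_congr (Subgroup.subgroupOfEquivOfLe hXA).toEquiv, Nat.card_zpowers, ho]
  have hXi : X.index = 2 := by
    have := X.card_mul_index
    rw [hX5, (aut_five ho).1] at this
    omega
  have hXpow : ∀ w ∈ X, w ^ 5 = 1 := fun w hw => by
    have := pow_card_eq_one' (x := (⟨w, hw⟩ : X))
    rw [hX5] at this
    exact congrArg Subtype.val this
  have hcomm : ∀ w ∈ X, ∀ b : A, Commute b w := fun w hw b => by
    obtain ⟨j, hj⟩ := Subgroup.mem_subgroupOf.1 hw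
    refine Subtype.ext ?_
    show (b : MulAut M22g) * w = w * b
    rw [← hj]
    exact ((show Commute (b : MulAut M22g) (S.piv x) from
      Subgroup.mem_centralizer_singleton_iff.1 b.2).zpow_right j).eq
  have hnot : ∀ {w : G} (hw : w ∈ S.H) (hwx : Commute w x), w * w ∈ S.E → w ∉ S.E →
      (⟨S.piv w, hmemA hw hwx⟩ : A) ∉ X := fun {w} hw hwx h2 hwE hX => by
    have h5' := congrArg Subtype.val (hXpow _ hX)
    simp only [SubgroupClass.coe_pow, OneMemClass.coe_one] at h5'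
    have h1 : S.piv w = 1 := by
      simpa using pow_gcd_eq_one.2 ⟨h5', (pow_two _).trans (hsq hw h2)⟩
    exact hwE (mem_E_of_piv hw h1 h2)
  have hprod : g' * k' ∈ X := (Subgroup.mul_mem_iff_of_index_two hXi).2
    (iff_of_false (hnot hg hgx hg2 hgE) (hnot hk hkx hk2 hkE))
  have hgg : g' * g' = 1 := Subtype.ext (hsq hg hg2)
  have hkk : k' * k' = 1 := Subtype.ext (hsq hk hk2)
  have h2 : (g' * k') ^ 2 = 1 := by
    have e1 : g' * (g' * k') = (g' * k') * g' := (hcomm _ hprod g').eq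
    rw [← mul_assoc, hgg, one_mul] at e1
    -- `k' = g' k' g'`
    calc (g' * k') ^ 2 = g' * k' * g' * k' := by rw [pow_two]; group
      _ = k' * k' := by rw [← e1]
      _ = 1 := hkk
  have h1 : g' * k' = 1 := by simpa using pow_gcd_eq_one.2 ⟨hXpow _ hprod, h2⟩
  rw [piv_mul hg hk]
  exact congrArg Subtype.val h1

/-- The only involution of `C` commuting with an element of order five. -/
theorem eq_z_of_commute_five {x g : G} (hx : x ∈ S.C) (h5 : orderOf x = 5) (hg : g ∈ S.C)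
    (hgx : Commute g x) (hg2 : g * g = 1) (hg1 : g ≠ 1) : g = S.z := by
  have hgE : g ∈ S.E := mem_E_of_cent_p hx h5 (S.C_le_H hg) hgx (hg2 ▸ one_mem _) (by
    rw [(S.mem_C.1 hg).2, mul_inv_cancel_right, mul_inv_cancel]; exact one_mem _)
  exact (S.fixp g hgE (S.mem_C.1 hg).2.symm).resolve_left hg1

/-- The centre of the fixed subgroup. -/
theorem cent_R_center {x r : G} (hx : x ∈ S.H) {n : ℕ} (hn : Odd n) (hxn : x ^ n = 1) (hr : r ∈ S.E)
    (hrx : Commute r x) (hc : ∀ s ∈ S.E, Commute s x → Commute r s) : r = 1 ∨ r = S.z := by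
  refine (pr_eq_zero hr).1 (S.space.nd _ fun w => ?_)
  set u := S.cj x with hu
  have hfix : u (S.pr r) = S.pr r := by
    rw [hu, S.cj_pr hx hr, ← hrx.eq, mul_inv_cancel_right]
  have hper : ∀ v, u^[n] v = v := fun v => by rw [hu, ← S.cj_pow hx n v, hxn, S.cj_one]
  have hBit : ∀ j, S.space.B (S.pr r) (u^[j] w) = S.space.B (S.pr r) w := fun j => by
    induction j with
    | zero => rfl
    | succ j ih =>
      rw [Function.iterate_succ_apply']
      conv_lhs => rw [← hfix]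
      rw [(isIso_cj hx).B, ih]
  set w' := ∑ j ∈ Finset.range n, u^[j] w with hw'
  have hw'fix : u w' = w' := by
    rw [hw', map_sum, ← sub_eq_zero, ← Finset.sum_sub_distrib]
    simp only [← Function.iterate_succ_apply']
    rw [Finset.sum_range_sub (fun j => u^[j] w), hper]
    simp
  have hB : S.space.B (S.pr r) w' = S.space.B (S.pr r) w := by
    rw [hw', map_sum, Finset.sum_congr rfl (fun j _ => hBit j), Finset.sum_const, Finset.card_range]
    obtain ⟨k, rfl⟩ := hn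
    rw [nsmul_eq_mul, Nat.cast_add, Nat.cast_mul]
    generalize S.space.B (S.pr r) w = b
    rw [show ((2 : ℕ) : ZMod 2) = 0 from rfl]
    simp
  rw [← hB]
  obtain ⟨e, he, hew⟩ := pr_surj w'
  rw [← hew, space_B_eq_zero hr he]
  refine (hc e he ?_).eq
  rw [← hew, hu, S.cj_pr hx he] at hw'fix
  rcases (pr_eq_iff (S.conj_mem hx he) he).1 hw'fix with h | h
  · exact (mul_inv_eq_iff_eq_mul.1 h).symm
  · exfalso
    have hzx : Commute S.z x := (show Commute x S.z from S.mem_H.1 hx).symm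
    have hj : ∀ j : ℕ, x ^ j * e * (x ^ j)⁻¹ = S.z ^ j * e := fun j => by
      induction j with
      | zero => simp
      | succ j ih =>
        calc x ^ (j + 1) * e * (x ^ (j + 1))⁻¹ = x * (x ^ j * e * (x ^ j)⁻¹) * x⁻¹ := by
              rw [pow_succ']; group
          _ = S.z ^ j * (x * e * x⁻¹) := by
              rw [ih, ← mul_assoc x, ← (hzx.pow_left j).eq]; group
          _ = S.z ^ (j + 1) * e := by rw [h, pow_succ, mul_assoc]
    have := hj n
    rw [hxn, one_mul, inv_one, mul_one] at this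
    have hzn : S.z ^ n = 1 := by simpa using right_eq_mul.1 this
    obtain ⟨k, rfl⟩ := hn
    rw [pow_succ, pow_mul, pow_two, S.z_mul_z, one_pow, one_mul] at hzn
    exact S.sub.ne_one hzn

end CfsgLib.JFourSeven
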