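import Cfsg.Agent.JFourSeven.FiveFrame

/-!
# Conjugates of `z` in the fixed subgroup

Together with the identity they form an elementary abelian group of order eight.
-/

set_option autoImplicit false
set_option linter.style.haveILetI false
set_option linter.unusedSectionVars false

namespace CfsgLib.JFourSeven

open Cfsg CfsgLib.JFourType CfsgLib.JFourType.Shape

variable {G : Type*} [Group G] [Finite G]

theorem eq_one_of_ne_zero : ∀ b : ZMod 2, b ≠ 0 → b = 1 := by decide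

namespace FiveFrame

variable {T : Shape G} {V K : Subgroup G} {x a τ a' : G} (F : FiveFrame T V K x a τ a')
include F

theorem pz (j : ℕ) : Commute (T.p ^ j) T.z := (show Commute T.p T.z from T.p_comm).pow_left j

theorem z_R {r : G} (hr : r ∈ Rx T x) : Commute r T.z := T.sub.z_comm (mem_Rx.1 hr).1

theorem not_comm {d : ℕ} (hd : ¬ 3 ∣ d) : ¬ Commute a (T.p ^ d * a' * (T.p ^ d)⁻¹) := fun hc => by
  have hE := (mem_Rx.1 F.a'_R).1
  rcases F.partner (F.p_image F.ha' d) hc with e | e | e | e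
  · exact F.ha'1 (conj_eq_one_iff.1 e)
  · refine F.ha'z ?_
    have e1 := mul_inv_eq_iff_eq_mul.1 e
    rw [← (F.pz d).eq] at e1
    exact mul_left_cancel e1
  · rcases pow_p_move hE hd (.inl e) with e' | e'
    exacts [F.ha'1 e', F.ha'z e']
  · rcases pow_p_move hE hd (.inr e) with e' | e'
    exacts [F.ha'1 e', F.ha'z e']

theorem not_comm' {d : ℕ} (hd : ¬ 3 ∣ d) : ¬ Commute (T.p ^ d * a * (T.p ^ d)⁻¹) a' := fun hc => by
  refine F.not_comm (d := 2 * d) (by omega) ?_
  have h3 : T.p ^ (2 * d + d) = 1 := by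
    rw [show 2 * d + d = 3 * d by ring, pow_mul, T.p_pow_three, one_pow]
  have := (commute_conj_iff (n := T.p ^ (2 * d))).2 hc
  rwa [show T.p ^ (2 * d) * (T.p ^ d * a * (T.p ^ d)⁻¹) * (T.p ^ (2 * d))⁻¹ =
    T.p ^ (2 * d + d) * a * (T.p ^ (2 * d + d))⁻¹ by rw [pow_add]; group,
    h3, one_mul, inv_one, mul_one] at this

/-- `a * a'` does not commute with `p * a * p⁻¹`. -/
theorem c_not_comm : ¬ Commute (T.p ^ 1 * a * (T.p ^ 1)⁻¹) (a * a') := fun hc => by
  refine F.not_comm' (d := 1) (by norm_num) ?_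
  have hab := F.local_data.comm_V (F.local_data.mem_A.1 (F.local_data.p_conj_mem F.ha 1)).1
    (F.local_data.mem_A.1 F.ha).1
  have := hab.inv_right.mul_right hc
  rwa [inv_mul_cancel_left] at this

theorem c_ne : a * a' ≠ 1 ∧ a * a' ≠ T.z := by
  have key : a' ∈ V ⊓ Subgroup.centralizer ({x} : Set G) → False := fun hm => by
    rcases F.inter hm F.ha' with e | e
    exacts [F.ha'1 e, F.ha'z e]
  refine ⟨fun e => key ?_, fun e => key ?_⟩
  · rw [eq_inv_of_mul_eq_one_right e]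
    exact inv_mem F.ha
  · rw [show a' = a⁻¹ * T.z by rw [← e]; group]
    exact mul_mem (inv_mem F.ha) F.local_data.z_mem_A

theorem six_comm (d : ℕ) : Commute (a * a') (T.p ^ d * (a * a') * (T.p ^ d)⁻¹) := by
  by_cases hd : 3 ∣ d
  · obtain ⟨k, rfl⟩ := hd
    rw [pow_mul, T.p_pow_three, one_pow]
    simp
  set b := T.p ^ d * a * (T.p ^ d)⁻¹ with hb
  set b' := T.p ^ d * a' * (T.p ^ d)⁻¹ with hb'
  have haE := (mem_Rx.1 F.a_R).1
  have ha'E := (mem_Rx.1 F.a'_R).1
  have hbE : b ∈ T.E := T.conj_mem (T.p_pow_mem d) haE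
  have hb'E : b' ∈ T.E := T.conj_mem (T.p_pow_mem d) ha'E
  rw [show T.p ^ d * (a * a') * (T.p ^ d)⁻¹ = b * b' by rw [hb, hb']; group]
  refine (space_B_eq_zero (mul_mem haE ha'E) (mul_mem hbE hb'E)).1 ?_
  have h1 : T.space.B (T.pr a) (T.pr b) = 0 := (space_B_eq_zero haE hbE).2
    (F.local_data.comm_V (F.local_data.mem_A.1 F.ha).1
      (F.local_data.mem_A.1 (F.local_data.p_conj_mem F.ha d)).1).eq
  have h2 : T.space.B (T.pr a') (T.pr b') = 0 := (space_B_eq_zero ha'E hb'E).2 (by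
    have hc := F.local_data.comm_V (F.local_data.mem_A.1 F.ha').1
      (F.local_data.mem_A.1 (F.p_image F.ha' d)).1
    have := (commute_conj_iff (n := τ)).2 hc
    rwa [show τ * (τ⁻¹ * a' * τ) * τ⁻¹ = a' by group,
      show τ * (τ⁻¹ * b' * τ) * τ⁻¹ = b' by group] at this)
  have h3 : T.space.B (T.pr a) (T.pr b') = 1 :=
    eq_one_of_ne_zero _ fun e => F.not_comm hd ((space_B_eq_zero haE hb'E).1 e)
  have h4 : T.space.B (T.pr a') (T.pr b) = 1 :=
    eq_one_of_ne_zero _ fun e => F.not_comm' hd ((space_B_eq_zero ha'E hbE).1 e).symm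
  rw [pr_mul haE ha'E, pr_mul hbE hb'E, map_add, map_add, LinearMap.add_apply, LinearMap.add_apply, h1, h2, h3,
    h4]
  decide

theorem flip_c : ∃ e ∈ Rx T x, e * (a * a') * e⁻¹ = T.z * (a * a') := by
  by_contra hcon
  push Not at hcon
  rcases cent_R_center F.local_data.x_mem_H (n := 5) (by decide) F.local_data.x_pow_five
    (mem_Rx.1 F.c_R).1 (mem_Rx.1 F.c_R).2 (fun s hs hsx => by
      rcases F.local_data.R_move F.c_R (mem_Rx.2 ⟨hs, hsx⟩) with e | e
      · exact (mul_inv_eq_iff_eq_mul.1 e).symm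
      · exact absurd e (hcon s (mem_Rx.2 ⟨hs, hsx⟩))) with e | e
  exacts [F.c_ne.1 e, F.c_ne.2 e]

theorem cj_isConj (j : ℕ) : IsConj T.z (T.p ^ j * (a * a') * (T.p ^ j)⁻¹) ∧
    IsConj T.z (T.z * (T.p ^ j * (a * a') * (T.p ^ j)⁻¹)) := by
  refine ⟨F.c_isConj.trans (isConj_iff.2 ⟨_, rfl⟩), ?_⟩
  obtain ⟨e, -, he⟩ := F.flip_c
  refine (F.c_isConj.trans (isConj_iff.2 ⟨e, he⟩)).trans (isConj_iff.2 ⟨T.p ^ j, ?_⟩)
  rw [← mul_assoc, (F.pz j).eq]
  group

theorem not_z_a : ¬ IsConj T.z a := F.local_data.not_z F.ha F.ha1 F.haz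

/-- The conjugates of `z` in `R`. -/
theorem zR {r : G} (hr : r ∈ Rx T x) (hc : IsConj T.z r) :
    r = T.z ∨ ∃ j < 3, r = T.p ^ j * (a * a') * (T.p ^ j)⁻¹ ∨
      r = T.z * (T.p ^ j * (a * a') * (T.p ^ j)⁻¹) := by
  have h2 : r * r = 1 := by
    obtain ⟨g, rfl⟩ := isConj_iff.1 hc
    rw [show g * T.z * g⁻¹ * (g * T.z * g⁻¹) = g * (T.z * T.z) * g⁻¹ by group, T.z_mul_z]
    group
  rcases F.classify hr h2 with e | e | ⟨w, -, -, e⟩ | h
  · subst e
    exact absurd (isConj_one_left.1 hc) T.sub.ne_one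
  · exact .inl e
  · exact absurd (hc.trans (isConj_iff.2 ⟨w, e⟩).symm) F.not_z_a
  · exact .inr h

theorem c_comm_cj (i j : ℕ) : Commute (T.p ^ i * (a * a') * (T.p ^ i)⁻¹)
    (T.p ^ j * (a * a') * (T.p ^ j)⁻¹) := by
  have := (commute_conj_iff (n := T.p ^ i)).2 (F.six_comm (2 * i + j))
  rwa [show T.p ^ i * (T.p ^ (2 * i + j) * (a * a') * (T.p ^ (2 * i + j))⁻¹) * (T.p ^ i)⁻¹ =
    T.p ^ (i + (2 * i + j)) * (a * a') * (T.p ^ (i + (2 * i + j)))⁻¹ by rw [pow_add]; group,
    show T.p ^ (i + (2 * i + j)) = T.p ^ j by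
      rw [show i + (2 * i + j) = 3 * i + j by ring, pow_add, pow_mul, T.p_pow_three, one_pow,
        one_mul]] at this

theorem zR_comm {r s : G} (hr : r ∈ Rx T x) (hrc : IsConj T.z r) (hs : s ∈ Rx T x)
    (hsc : IsConj T.z s) : Commute r s := by
  have hzc : ∀ i, Commute T.z (T.p ^ i * (a * a') * (T.p ^ i)⁻¹) := fun i =>
    (F.z_R (F.local_data.conj_R_mem (T.p_pow_mem i) (F.local_data.comm_px.pow_left i) F.c_R)).symm
  rcases F.zR hr hrc with rfl | ⟨i, -, rfl | rfl⟩ <;>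
    rcases F.zR hs hsc with rfl | ⟨j, -, rfl | rfl⟩
  · exact Commute.refl _
  · exact hzc j
  · exact (Commute.refl _).mul_right (hzc j)
  · exact (hzc i).symm
  · exact F.c_comm_cj i j
  · exact (hzc i).symm.mul_right (F.c_comm_cj i j)
  · exact (Commute.refl _).mul_left (hzc i).symm
  · exact (hzc j).mul_left (F.c_comm_cj i j)
  · exact ((Commute.refl _).mul_right (hzc j)).mul_left
      ((hzc i).symm.mul_right (F.c_comm_cj i j))

/-- An element of `R` not conjugate to `z` times a commuting conjugate of `z`. -/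
theorem t_mul_z {u v : G} (hu : u ∈ Rx T x) (hu2 : u * u = 1) (hu1 : u ≠ 1)
    (hut : ¬ IsConj T.z u) (hv : v ∈ Rx T x) (hvz : IsConj T.z v) (hc : Commute u v) :
    ¬ IsConj T.z (u * v) := by
  obtain ⟨w, hw, hwx, rfl⟩ : ∃ w ∈ T.H, Commute w x ∧ w * a * w⁻¹ = u := by
    rcases F.classify hu hu2 with e | e | h | ⟨j, -, e | e⟩
    · exact absurd e hu1
    · exact absurd (e ▸ IsConj.refl T.z) hut
    · exact h
    · exact absurd (e ▸ (F.cj_isConj j).1) hut
    · exact absurd (e ▸ (F.cj_isConj j).2) hut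
  intro hprod
  set v0 := w⁻¹ * v * w with hv0
  have hv0R : v0 ∈ Rx T x := by
    simpa using F.local_data.conj_R_mem (inv_mem hw) hwx.inv_left hv
  have hv0z : IsConj T.z v0 := hvz.trans (isConj_iff.2 ⟨w⁻¹, by rw [hv0]; group⟩)
  have hc0 : Commute a v0 := by
    have := (commute_conj_iff (n := w⁻¹)).2 hc
    rwa [show w⁻¹ * (w * a * w⁻¹) * w⁻¹⁻¹ = a by group, inv_inv] at this
  have hp0 : IsConj T.z (a * v0) :=
    hprod.trans (isConj_iff.2 ⟨w⁻¹, by rw [hv0]; group⟩)
  have hza : Commute a T.z := F.z_R F.a_R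
  have hA' : ¬ IsConj T.z a' ∧ ¬ IsConj T.z (T.z * a') := by
    constructor <;> intro hcc
    · refine F.local_data.not_z F.ha' (fun e => F.ha'1 (by
        rw [show a' = τ * (τ⁻¹ * a' * τ) * τ⁻¹ by group, e]; group)) (fun e => F.ha'z (by
        rw [show a' = τ * (τ⁻¹ * a' * τ) * τ⁻¹ by group, e]
        exact mul_inv_eq_iff_eq_mul.2 (T.mem_H.1 F.hτ))) ?_
      exact hcc.trans (isConj_iff.2 ⟨τ⁻¹, by group⟩)
    · have hm : τ⁻¹ * (T.z * a') * τ ∈ V ⊓ Subgroup.centralizer ({x} : Set G) := by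
        rw [show τ⁻¹ * (T.z * a') * τ = (τ⁻¹ * T.z * τ) * (τ⁻¹ * a' * τ) by group, F.τz]
        exact mul_mem F.local_data.z_mem_A F.ha'
      refine F.local_data.not_z hm (fun e => F.ha'z ?_) (fun e => F.ha'1 ?_) ?_
      · have : T.z * a' = 1 := by
          rw [show T.z * a' = τ * (τ⁻¹ * (T.z * a') * τ) * τ⁻¹ by group, e]; group
        exact (eq_inv_of_mul_eq_one_right this).trans T.z_inv
      · have : T.z * a' = T.z := by
          rw [show T.z * a' = τ * (τ⁻¹ * (T.z * a') * τ) * τ⁻¹ by group, e]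
          exact mul_inv_eq_iff_eq_mul.2 (T.mem_H.1 F.hτ)
        exact mul_eq_left.1 this
      · exact hcc.trans (isConj_iff.2 ⟨τ⁻¹, by group⟩)
  have haa : a * a = 1 := F.local_data.sq_one (F.local_data.mem_A.1 F.ha).1
  rcases F.zR hv0R hv0z with e | ⟨j, hj, e⟩
  · rw [e] at hp0
    exact F.local_data.not_z (mul_mem F.ha F.local_data.z_mem_A)
      (fun e => F.haz ((eq_inv_of_mul_eq_one_left e).trans T.z_inv))
      (fun e => F.ha1 (mul_eq_right.1 e)) hp0
  have hj0 : j = 0 := by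
    by_contra hj0
    refine F.not_comm (d := j) (by omega) ?_
    have hca : Commute a (T.p ^ j * a * (T.p ^ j)⁻¹) := F.local_data.comm_V
      (F.local_data.mem_A.1 F.ha).1 (F.local_data.mem_A.1 (F.local_data.p_conj_mem F.ha j)).1
    have hcj : Commute a (T.p ^ j * (a * a') * (T.p ^ j)⁻¹) := by
      rcases e with e | e
      · rwa [e] at hc0
      · rw [e] at hc0
        have := hza.inv_right.mul_right hc0
        rwa [inv_mul_cancel_left] at this
    have := hca.inv_right.mul_right hcj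
    rwa [show (T.p ^ j * a * (T.p ^ j)⁻¹)⁻¹ * (T.p ^ j * (a * a') * (T.p ^ j)⁻¹) =
      T.p ^ j * a' * (T.p ^ j)⁻¹ by group] at this
  subst hj0
  rcases e with e | e <;> rw [e] at hp0
  · rw [show a * (T.p ^ 0 * (a * a') * (T.p ^ 0)⁻¹) = (a * a) * a' by group, haa, one_mul] at hp0
    exact hA'.1 hp0
  · rw [show a * (T.z * (T.p ^ 0 * (a * a') * (T.p ^ 0)⁻¹)) = (a * T.z) * (a * a') by group,
      hza.eq, show T.z * a * (a * a') = T.z * ((a * a) * a') by group, haa, one_mul] at hp0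
    exact hA'.2 hp0

/-- The elementary abelian group of conjugates of `z`. -/
theorem exists_B : ∃ B : Subgroup G, (∀ v, v ∈ B ↔ v ∈ Rx T x ∧ (v = 1 ∨ IsConj T.z v)) ∧
    Nat.card B = 8 ∧ (∀ v ∈ B, v * v = 1) ∧ ∀ v ∈ B, ∀ w ∈ B, Commute v w := by
  have hsq : ∀ {v : G}, IsConj T.z v → v * v = 1 := fun {v} hv => by
    obtain ⟨g, rfl⟩ := isConj_iff.1 hv
    rw [show g * T.z * g⁻¹ * (g * T.z * g⁻¹) = g * (T.z * T.z) * g⁻¹ by group, T.z_mul_z]
    group
  let B : Subgroup G :=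
    { carrier := {v | v ∈ Rx T x ∧ (v = 1 ∨ IsConj T.z v)}
      one_mem' := ⟨one_mem _, .inl rfl⟩
      mul_mem' := fun {v w} hv hw => by
        refine ⟨mul_mem hv.1 hw.1, ?_⟩
        rcases hv.2 with e | hvz
        · simpa [e] using hw.2
        rcases hw.2 with e | hwz
        · exact .inr (by simpa [e] using hvz)
        by_contra hne
        push Not at hne
        have hcvw : Commute v w := F.zR_comm hv.1 hvz hw.1 hwz
        have huu : v * w * (v * w) = 1 := by
          rw [← pow_two, hcvw.mul_pow, pow_two, pow_two, hsq hvz, hsq hwz, one_mul]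
        refine F.t_mul_z (mul_mem hv.1 hw.1) huu hne.1 hne.2 hw.1 hwz
          (hcvw.mul_left (Commute.refl w)) ?_
        rwa [mul_assoc, hsq hwz, mul_one]
      inv_mem' := fun {v} hv => by
        rcases hv.2 with e | hvz
        · subst e; simpa using hv
        · rw [inv_eq_of_mul_eq_one_right (hsq hvz)]; exact hv }
  have hBsq : ∀ v ∈ B, v * v = 1 := fun v hv => by
    rcases hv.2 with e | e
    · rw [e, one_mul]
    · exact hsq e
  have hBc : ∀ v ∈ B, ∀ w ∈ B, Commute v w := fun v hv w hw => by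
    rcases hv.2 with e | e
    · rw [e]; exact Commute.one_left _
    rcases hw.2 with e' | e'
    · rw [e']; exact Commute.one_right _
    exact F.zR_comm hv.1 e hw.1 e'
  refine ⟨B, fun v => Iff.rfl, ?_, hBsq, hBc⟩
  haveI : Fact (Nat.Prime 2) := ⟨Nat.prime_two⟩
  have h2 : IsPGroup 2 B := fun v => ⟨1, Subtype.ext (by
    rw [pow_one, SubgroupClass.coe_pow, pow_two, hBsq v v.2, OneMemClass.coe_one])⟩
  obtain ⟨k, hk⟩ := h2.exists_card_eq
  let f : Option (Option (Fin 3 × Bool)) → G := fun o =>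
    match o with
    | none => 1
    | some none => T.z
    | some (some (j, false)) => T.p ^ (j : ℕ) * (a * a') * (T.p ^ (j : ℕ))⁻¹
    | some (some (j, true)) => T.z * (T.p ^ (j : ℕ) * (a * a') * (T.p ^ (j : ℕ))⁻¹)
  have hle : Nat.card B ≤ 8 := by
    have hsub : (B : Set G) ⊆ Set.range f := by
      rintro v ⟨hvR, e | e⟩
      · exact ⟨none, e.symm⟩
      · rcases F.zR hvR e with e' | ⟨j, hj, e' | e'⟩
        · exact ⟨some none, e'.symm⟩
        · exact ⟨some (some (⟨j, hj⟩, false)), e'.symm⟩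
        · exact ⟨some (some (⟨j, hj⟩, true)), e'.symm⟩
    calc Nat.card B = (B : Set G).ncard := Nat.card_coe_set_eq _
      _ ≤ (Set.range f).ncard := Set.ncard_le_ncard hsub (Set.toFinite _)
      _ ≤ 8 := by
        rw [← Nat.card_coe_set_eq]
        refine le_trans (Finite.card_range_le _) ?_
        rw [Nat.card_eq_fintype_card]
        rfl
  have h5 : 5 ≤ Nat.card B := by
    set d := T.p ^ 1 * (a * a') * (T.p ^ 1)⁻¹ with hd
    have hcR : a * a' ∈ B := ⟨F.c_R, .inr F.c_isConj⟩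
    have hzB : T.z ∈ B := ⟨F.local_data.xz_R, .inr (IsConj.refl _)⟩
    have hdB : d ∈ B := ⟨F.local_data.conj_R_mem (T.p_pow_mem 1)
      (F.local_data.comm_px.pow_left 1) F.c_R, .inr (F.cj_isConj 1).1⟩
    have hsub : ({1, T.z, a * a', T.z * (a * a'), d} : Set G) ⊆ (B : Set G) := by
      rintro v (rfl | rfl | rfl | rfl | rfl)
      exacts [one_mem _, hzB, hcR, mul_mem hzB hcR, hdB]
    have hE := (mem_Rx.1 F.c_R).1
    have d1 : d ≠ 1 := fun e => F.c_ne.1 (conj_eq_one_iff.1 e)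
    have dz : d ≠ T.z := fun e => F.c_ne.2 (by
      have e1 := mul_inv_eq_iff_eq_mul.1 e
      rw [← (F.pz 1).eq] at e1
      exact mul_left_cancel e1)
    have dc : d ≠ a * a' := fun e => by
      rcases pow_p_move hE (d := 1) (by norm_num) (.inl e) with e' | e'
      exacts [F.c_ne.1 e', F.c_ne.2 e']
    have dzc : d ≠ T.z * (a * a') := fun e => by
      rcases pow_p_move hE (d := 1) (by norm_num) (.inr e) with e' | e'
      exacts [F.c_ne.1 e', F.c_ne.2 e']
    have n1 : T.z * (a * a') ≠ 1 := fun e =>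
      F.c_ne.2 ((eq_inv_of_mul_eq_one_right e).trans T.z_inv)
    have n2 : T.z * (a * a') ≠ T.z := fun e => F.c_ne.1 (mul_eq_left.1 e)
    have n3 : T.z * (a * a') ≠ a * a' := fun e => T.sub.ne_one (mul_eq_right.1 e)
    have hc5 : ({1, T.z, a * a', T.z * (a * a'), d} : Set G).ncard = 5 := by
      rw [Set.ncard_insert_of_notMem
          (by simp [Ne.symm T.sub.ne_one, Ne.symm F.c_ne.1, Ne.symm n1, Ne.symm d1]),
        Set.ncard_insert_of_notMem (by simp [Ne.symm F.c_ne.2, Ne.symm n2, Ne.symm dz]),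
        Set.ncard_insert_of_notMem (by simp [Ne.symm n3, Ne.symm dc]),
        Set.ncard_pair (Ne.symm dzc)]
    rw [← hc5]
    exact le_of_le_of_eq (Set.ncard_le_ncard hsub (Set.toFinite _)) (Nat.card_coe_set_eq _).symm
  rw [hk] at hle h5 ⊢
  have hk3 : k ≤ 3 := by
    by_contra hlt
    have := Nat.pow_le_pow_right (show 0 < 2 by norm_num) (show 4 ≤ k by omega)
    omega
  interval_cases k <;> omega

end FiveFrame

end CfsgLib.JFourSeven
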