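import Cfsg.Agent.TwoBlockMathieu.M24Block
import Cfsg.Agent.Small.Counting
import Cfsg.Prelude.Def_Spor_Mathieu

/-!
# Centralisers of elements of order five and seven in `M24`
-/

set_option autoImplicit false
set_option maxRecDepth 10000

namespace CfsgLib.JFourSeven

open Cfsg CfsgLib.Mathieu CfsgLib.TwoBlockMathieu
open TwoBlockMathieu.M24Data (cert)

theorem m24_torus_lengths : ∀ i : Fin 12,
    (cert.cls[M24Data.ix i].r = 5 → cert.cls[M24Data.ix i].L.length = 60) ∧
      (cert.cls[M24Data.ix i].r = 7 → cert.cls[M24Data.ix i].L.length = 42) := by decide +kernel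

theorem card_cent_M24 {x : M24} (h : orderOf x = 5 ∨ orderOf x = 7) :
    Nat.card (Subgroup.centralizer ({x} : Set M24)) = if orderOf x = 5 then 60 else 42 := by
  obtain ⟨i, hi⟩ := exists_isConj_elt M24Data.valid (g := x)
    (by rcases h with h | h <;> rw [h] <;> decide)
    (fun e => by rw [e, orderOf_one] at h; omega)
  obtain ⟨c, hc⟩ := isConj_iff.1 hi
  have ho : orderOf x = cert.cls[i].r := by
    rw [← orderOf_elt M24Data.valid i, ← hc]
    exact ((MulAut.conj c).orderOf_eq x).symm
  have h1 := CfsgLib.Small.card_conjugates_mul_card_centralizer (G := M24) x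
  have h2 := CfsgLib.Small.card_conjugates_mul_card_centralizer (G := M24) (elt M24Data.valid i)
  have e : Nat.card {y : M24 // IsConj x y} = Nat.card {y : M24 // IsConj (elt M24Data.valid i) y} :=
    Nat.card_congr (Equiv.subtypeEquivRight fun y => ⟨hi.symm.trans, hi.trans⟩)
  rw [e, ← h2, TwoBlockMathieu.card_centralizer M24Data.valid i] at h1
  have h3 := Nat.eq_of_mul_eq_mul_left (Nat.card_pos_iff.2
    ⟨⟨⟨elt M24Data.valid i, IsConj.refl _⟩⟩, inferInstance⟩) h1
  obtain ⟨j, rfl⟩ : ∃ j : Fin 12, M24Data.ix j = i :=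
    ⟨Fin.cast M24Data.len i, by simp [M24Data.ix, Fin.ext_iff]⟩
  rcases h with h | h
  · rw [h3, (m24_torus_lengths j).1 (ho.symm.trans h), if_pos h]
  · rw [h3, (m24_torus_lengths j).2 (ho.symm.trans h), if_neg (by omega)]

/-- The same in a group isomorphic to `M24`. -/
theorem card_cent_isoM24 {K : Type*} [Group K] (e : Spor.IsoM24 K) {x : K}
    (h : orderOf x = 5 ∨ orderOf x = 7) :
    Nat.card K = 244823040 ∧
      Nat.card (Subgroup.centralizer ({x} : Set K)) = if orderOf x = 5 then 60 else 42 := by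
  obtain ⟨e⟩ := e
  refine ⟨(Nat.card_congr e.toEquiv).trans card_M24, ?_⟩
  have ho : orderOf (e x) = orderOf x := MulEquiv.orderOf_eq e x
  rw [← ho, ← card_cent_M24 (x := e x) (by rwa [ho])]
  exact Nat.card_congr (e.toEquiv.subtypeEquiv fun a => by
    simp only [Subgroup.mem_centralizer_singleton_iff]
    exact ⟨fun hh => by simpa using congrArg e hh,
      fun hh => e.injective (by simpa using hh)⟩)

end CfsgLib.JFourSeven
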