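import Cfsg.Agent.JFourSeven.M22Torus
import Cfsg.Agent.JFourSeven.M24Torus

/-!
# The normalizer of a subgroup of order five in `M24`
-/

set_option autoImplicit false
set_option maxRecDepth 10000

namespace CfsgLib.JFourSeven

open Cfsg CfsgLib.Mathieu CfsgLib.TwoBlockMathieu CfsgLib.JFourType
open TwoBlockMathieu.M24Data (cert)

theorem m24_five_class : ∀ i j : Fin 12,
    cert.cls[M24Data.ix i].r = 5 → cert.cls[M24Data.ix j].r = 5 → i = j := by decide +kernel

/-- There is one class of elements of order five in `M24`. -/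
theorem isConj_five {x y : M24} (hx : orderOf x = 5) (hy : orderOf y = 5) : IsConj x y := by
  have key : ∀ w : M24, orderOf w = 5 → ∃ j : Fin 12,
      IsConj w (elt M24Data.valid (M24Data.ix j)) ∧ cert.cls[M24Data.ix j].r = 5 := fun w hw => by
    obtain ⟨i, hi⟩ := exists_isConj_elt M24Data.valid (g := w) (by rw [hw]; decide)
      (fun e => by rw [e, orderOf_one] at hw; omega)
    obtain ⟨c, hc⟩ := isConj_iff.1 hi
    obtain ⟨j, rfl⟩ : ∃ j : Fin 12, M24Data.ix j = i :=
      ⟨Fin.cast M24Data.len i, by simp [M24Data.ix, Fin.ext_iff]⟩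
    refine ⟨j, hi, ?_⟩
    rw [← orderOf_elt M24Data.valid, ← hc]
    exact ((MulAut.conj c).orderOf_eq w).trans hw
  obtain ⟨i, hi, hi5⟩ := key x hx
  obtain ⟨j, hj, hj5⟩ := key y hy
  rw [m24_five_class i j hi5 hj5] at hi
  exact hi.trans hj.symm

/-- An element of order five of `M24` is squared by an element of order dividing four. -/
theorem exists_sq_M24 {x : M24} (hx : orderOf x = 5) :
    ∃ g : M24, g * x * g⁻¹ = x ^ 2 ∧ g ^ 4 = 1 := by
  haveI : Fact (Nat.Prime 5) := ⟨by norm_num⟩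
  obtain ⟨m, hm⟩ := exists_prime_orderOf_dvd_card' (G := M22g) 5
    (by rw [CfsgLib.Mathieu.card_SporM22]; norm_num)
  obtain ⟨-, -, ⟨g, hg, hg4⟩, -⟩ := exists_torus (.inl hm)
  have h24 : ∀ a : M22g, a.1 ∈ M24 := fun a => (mem_SporM22.1 a.2).1.1
  let ι : M22g →* M24 :=
    { toFun := fun a => ⟨a.1, h24 a⟩
      map_one' := rfl
      map_mul' := fun a b => rfl }
  have hι : Function.Injective ι := fun a b e => Subtype.ext (congrArg (fun q : M24 => q.1) e)
  obtain ⟨c, hc⟩ := isConj_iff.1 (isConj_five ((orderOf_injective ι hι m).trans hm) hx)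
  refine ⟨c * ι g * c⁻¹, ?_, ?_⟩
  · calc c * ι g * c⁻¹ * x * (c * ι g * c⁻¹)⁻¹ = c * (ι g * ι m * (ι g)⁻¹) * c⁻¹ := by
          rw [← hc]; group
      _ = c * ι (g * m * g⁻¹) * c⁻¹ := by rw [map_mul, map_mul, map_inv]
      _ = x ^ 2 := by rw [hg, map_pow, ← hc, conj_pow]
  · rw [conj_pow, ← map_pow, hg4 hm, map_one]
    group

/-- The same in a group isomorphic to `M24`. -/
theorem exists_sq_isoM24 {K : Type*} [Group K] (e : Spor.IsoM24 K) {x : K} (hx : orderOf x = 5) :
    ∃ g : K, g * x * g⁻¹ = x ^ 2 ∧ g ^ 4 = 1 := by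
  obtain ⟨e⟩ := e
  obtain ⟨g, hg, hg4⟩ := exists_sq_M24 (x := e x) ((MulEquiv.orderOf_eq e x).trans hx)
  refine ⟨e.symm g, e.injective ?_, e.injective ?_⟩
  · rw [map_mul, map_mul, map_inv, e.apply_symm_apply, map_pow, hg]
  · rw [map_pow, e.apply_symm_apply, map_one, hg4]

end CfsgLib.JFourSeven
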