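import Cfsg.Agent.JFourSeven.FiveHSide
import Cfsg.Agent.JFourSeven.M24Five
import Cfsg.Agent.JFourSeven.SevenAux
import Cfsg.Prelude.Def_Transfer

/-!
# An element of order five inside a group `2 ^ 11 : M24` of a group of Janko-four type

The fixed points `A` of `x` in `V` have order eight and contain exactly one conjugate of `z`; the
fixed subgroup `R` of `x` in `E` has order `32` and normalises `V`.
-/

set_option autoImplicit false
set_option linter.style.haveILetI false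
set_option linter.unusedSectionVars false

namespace CfsgLib.JFourSeven

open Cfsg CfsgLib.JFourType CfsgLib.JFourType.Shape

variable {G : Type*} [Group G] [Finite G]

/-- An element of order five of `C` lying, together with `p`, in a complement `K` of the elementary
abelian subgroup `V` of order `2 ^ 11`. -/
structure FiveLocalData (T : Shape G) (V K : Subgroup G) (x : G) : Prop where
  cp : Subgroup.centralizer ({T.p} : Set G) ≤ T.H
  elem : IsElementaryAbelian 2 V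
  card_V : Nat.card V = 2 ^ 11
  self : Subgroup.centralizer (V : Set G) ≤ V
  le_norm : K ≤ Subgroup.normalizer (V : Set G)
  disj : K ⊓ V = ⊥
  sup : K ⊔ V = Subgroup.normalizer (V : Set G)
  iso : Spor.IsoM24 K
  orb : ∀ v ∈ V, ∀ v' ∈ V, v ≠ 1 → v' ≠ 1 → (IsConj T.z v ↔ IsConj T.z v') →
    ∃ m ∈ Subgroup.normalizer (V : Set G), m * v * m⁻¹ = v'
  cent_t : ∀ v ∈ V, v ≠ 1 → ¬ IsConj T.z v →
    Subgroup.centralizer ({v} : Set G) ≤ Subgroup.normalizer (V : Set G)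
  two : ∀ v w : G, orderOf v = 2 → orderOf w = 2 → ¬ IsConj T.z v → ¬ IsConj T.z w → IsConj v w
  hxK : x ∈ K
  hpK : T.p ∈ K
  hx : x ∈ T.C
  h5 : orderOf x = 5

theorem five_count : ∀ o : Fin 5, ∀ r : Fin 128, ¬ ((o : ℕ) ≠ 0 ∧ ((o : ℕ) * 7680) % (r : ℕ) = 0 ∧
    ((r : ℕ) = 127 ∨ ((o : ℕ) * 7680) % (127 - (r : ℕ)) = 0)) := by decide +kernel

namespace FiveLocalData

variable {T : Shape G} {V K : Subgroup G} {x : G} (h : FiveLocalData T V K x)
include h

theorem comm_px : Commute T.p x := ((T.mem_C.1 h.hx).2).symm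

theorem x_pow_five : x ^ 5 = 1 := h.h5 ▸ pow_orderOf_eq_one x

theorem card_K : Nat.card K = 244823040 :=
  (card_cent_isoM24 h.iso (x := (⟨x, h.hxK⟩ : K))
    (.inl (by rw [← Subgroup.orderOf_coe]; exact h.h5))).1

theorem card_cent_K : Nat.card ↥(K ⊓ Subgroup.centralizer ({x} : Set G)) = 60 := by
  have ho : orderOf (⟨x, h.hxK⟩ : K) = 5 := by rw [← Subgroup.orderOf_coe]; exact h.h5
  have := (card_cent_isoM24 h.iso (x := (⟨x, h.hxK⟩ : K)) (.inl ho)).2
  rw [if_pos ho] at this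
  rw [← this]
  exact Nat.card_congr
    { toFun := fun k => ⟨⟨k.1, k.2.1⟩, Subgroup.mem_centralizer_singleton_iff.2
        (Subtype.ext (Subgroup.mem_centralizer_singleton_iff.1 k.2.2))⟩
      invFun := fun k => ⟨k.1.1, k.1.2, Subgroup.mem_centralizer_singleton_iff.2
        (congrArg Subtype.val (Subgroup.mem_centralizer_singleton_iff.1 k.2))⟩
      left_inv := fun k => rfl
      right_inv := fun k => rfl }

theorem card_norm : Nat.card (Subgroup.normalizer (V : Set G)) = 2 ^ 11 * 244823040 := by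
  have := card_cent_split h.le_norm h.disj (one_mem K)
  have e : Subgroup.centralizer ({(1 : G)} : Set G) = ⊤ :=
    eq_top_iff.2 fun g _ => Subgroup.mem_centralizer_singleton_iff.2 (by simp)
  rw [e, inf_top_eq, inf_top_eq, inf_top_eq, sup_comm, h.sup, h.card_V, h.card_K] at this
  exact this.symm

theorem card_cent_M :
    Nat.card ↥(Subgroup.normalizer (V : Set G) ⊓ Subgroup.centralizer ({x} : Set G)) =
      Nat.card ↥(V ⊓ Subgroup.centralizer ({x} : Set G)) * 60 := by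
  rw [← h.sup, sup_comm, ← card_cent_split h.le_norm h.disj h.hxK, h.card_cent_K]

theorem not_sq_dvd {W : Subgroup G} (hW : W ≤ Subgroup.normalizer (V : Set G)) :
    ¬ 5 ^ 2 ∣ Nat.card W := fun hd => by
  have := hd.trans (Subgroup.card_dvd_of_le hW)
  rw [h.card_norm] at this
  norm_num at this

theorem x_norm : x ∈ Subgroup.normalizer (V : Set G) := h.le_norm h.hxK

theorem p_norm : T.p ∈ Subgroup.normalizer (V : Set G) := h.le_norm h.hpK

theorem sq_one {a : G} (ha : a ∈ V) : a * a = 1 := by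
  rw [← pow_two]; exact h.elem.2 a ha

theorem comm_V {a b : G} (ha : a ∈ V) (hb : b ∈ V) : Commute a b := by
  haveI := h.elem.1
  exact congrArg Subtype.val (mul_comm' (⟨a, ha⟩ : V) ⟨b, hb⟩)

theorem mem_A {a : G} :
    a ∈ V ⊓ Subgroup.centralizer ({x} : Set G) ↔ a ∈ V ∧ Commute a x := by
  rw [Subgroup.mem_inf, Subgroup.mem_centralizer_singleton_iff]
  rfl

theorem p_conj_mem {a : G} (ha : a ∈ V ⊓ Subgroup.centralizer ({x} : Set G)) (j : ℕ) :
    T.p ^ j * a * (T.p ^ j)⁻¹ ∈ V ⊓ Subgroup.centralizer ({x} : Set G) := by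
  obtain ⟨haV, hax⟩ := h.mem_A.1 ha
  have hc : Commute (T.p ^ j) x := h.comm_px.pow_left j
  exact h.mem_A.2 ⟨(Subgroup.mem_normalizer_iff.1 (pow_mem h.p_norm j) a).1 haV,
    (hc.mul_left hax).mul_left hc.inv_left⟩

theorem p_fix {a : G} (ha : a ∈ V) (hax : Commute a x) (hap : Commute T.p a) :
    a = 1 ∨ a = T.z := by
  by_cases ha1 : a = 1
  · exact .inl ha1
  have haC : a ∈ T.C := Subgroup.mem_inf.2
    ⟨h.cp (Subgroup.mem_centralizer_singleton_iff.2 hap.eq.symm),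
      Subgroup.mem_centralizer_singleton_iff.2 hap.eq.symm⟩
  exact .inr (eq_z_of_commute_five h.hx h.h5 haC hax (h.sq_one ha) ha1)

theorem trans_A {a b : G} (ha : a ∈ V ⊓ Subgroup.centralizer ({x} : Set G)) (ha1 : a ≠ 1)
    (hb : b ∈ V ⊓ Subgroup.centralizer ({x} : Set G)) (hb1 : b ≠ 1)
    (hiff : IsConj T.z a ↔ IsConj T.z b) :
    ∃ n ∈ Subgroup.normalizer (V : Set G) ⊓
      Subgroup.normalizer ((Subgroup.zpowers x : Subgroup G) : Set G), n * a * n⁻¹ = b := by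
  haveI : Fact (Nat.Prime 5) := ⟨by norm_num⟩
  obtain ⟨haV, hax⟩ := h.mem_A.1 ha
  obtain ⟨hbV, hbx⟩ := h.mem_A.1 hb
  obtain ⟨m, hm, hmab⟩ := h.orb a haV b hbV ha1 hb1 hiff
  obtain ⟨c, hc, hcm⟩ := exists_conj_mem_zpowers (q := 5)
    (D := Subgroup.normalizer (V : Set G) ⊓ Subgroup.centralizer ({b} : Set G))
    (h.not_sq_dvd inf_le_left) (x := x) (y := m * x * m⁻¹)
    (Subgroup.mem_inf.2 ⟨h.x_norm, Subgroup.mem_centralizer_singleton_iff.2 hbx.eq.symm⟩)
    (Subgroup.mem_inf.2 ⟨mul_mem (mul_mem hm h.x_norm) (inv_mem hm), by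
      rw [Subgroup.mem_centralizer_singleton_iff, ← hmab]
      calc m * x * m⁻¹ * (m * a * m⁻¹) = m * (x * a) * m⁻¹ := by group
        _ = m * (a * x) * m⁻¹ := by rw [hax.eq]
        _ = m * a * m⁻¹ * (m * x * m⁻¹) := by group⟩)
    h.h5 (((MulAut.conj m).orderOf_eq x).trans h.h5)
  obtain ⟨hcM, hcb⟩ := Subgroup.mem_inf.1 hc
  refine ⟨c * m, Subgroup.mem_inf.2 ⟨mul_mem hcM hm, mem_normalizer_zpowers ?_⟩, ?_⟩
  · rw [show c * m * x * (c * m)⁻¹ = c * (m * x * m⁻¹) * c⁻¹ by group]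
    exact hcm
  · rw [show c * m * a * (c * m)⁻¹ = c * (m * a * m⁻¹) * c⁻¹ by group, hmab,
      Subgroup.mem_centralizer_singleton_iff.1 hcb, mul_inv_cancel_right]

/-- The normalizer of `⟨x⟩` in `N(V)` keeps `A`. -/
theorem L_conj_mem {n a : G} (hn : n ∈ Subgroup.normalizer (V : Set G) ⊓
      Subgroup.normalizer ((Subgroup.zpowers x : Subgroup G) : Set G))
    (ha : a ∈ V ⊓ Subgroup.centralizer ({x} : Set G)) :
    n * a * n⁻¹ ∈ V ⊓ Subgroup.centralizer ({x} : Set G) := by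
  obtain ⟨hnV, hnX⟩ := Subgroup.mem_inf.1 hn
  obtain ⟨haV, hax⟩ := h.mem_A.1 ha
  obtain ⟨j, hj⟩ := (Subgroup.mem_normalizer_iff''.1 hnX x).1 (Subgroup.mem_zpowers x)
  have hc : Commute a (n⁻¹ * x * n) := hj ▸ hax.zpow_right j
  refine h.mem_A.2 ⟨(Subgroup.mem_normalizer_iff.1 hnV a).1 haV, ?_⟩
  show n * a * n⁻¹ * x = x * (n * a * n⁻¹)
  calc n * a * n⁻¹ * x = n * (a * (n⁻¹ * x * n)) * n⁻¹ := by group
    _ = n * (n⁻¹ * x * n * a) * n⁻¹ := by rw [hc.eq]
    _ = x * (n * a * n⁻¹) := by group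

/-- The order of the normalizer of `⟨x⟩` in `N(V)`. -/
theorem exists_card_L : ∃ o < 5, o ≠ 0 ∧
    Nat.card ↥(Subgroup.normalizer (V : Set G) ⊓
      Subgroup.normalizer ((Subgroup.zpowers x : Subgroup G) : Set G)) =
        o * (Nat.card ↥(V ⊓ Subgroup.centralizer ({x} : Set G)) * 60) := by
  set L := Subgroup.normalizer (V : Set G) ⊓
      Subgroup.normalizer ((Subgroup.zpowers x : Subgroup G) : Set G) with hL
  set U := {v : G | ∃ n ∈ L, n * x * n⁻¹ = v} with hU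
  have hsub : U ⊆ ((Subgroup.zpowers x : Subgroup G) : Set G) \ {1} := by
    rintro v ⟨n, hn, rfl⟩
    refine ⟨(Subgroup.mem_normalizer_iff.1 (Subgroup.mem_inf.1 hn).2 x).1
      (Subgroup.mem_zpowers x), ?_⟩
    intro e
    have := h.h5
    rw [conj_eq_one_iff.1 e, orderOf_one] at this
    omega
  refine ⟨U.ncard, ?_, ?_, ?_⟩
  · have := Set.ncard_le_ncard hsub (Set.toFinite _)
    have e5 : ((Subgroup.zpowers x : Subgroup G) : Set G).ncard = 5 :=
      (Nat.card_coe_set_eq _).symm.trans ((Nat.card_zpowers x).trans h.h5)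
    rw [Set.ncard_sdiff_singleton_of_mem (one_mem (Subgroup.zpowers x)), e5] at this
    omega
  · exact Nat.ne_of_gt ((Set.ncard_pos (Set.toFinite U)).2 ⟨x, 1, one_mem L, by simp⟩)
  · have := ncard_orbit_mul_card L x
    rw [← this, ← h.card_cent_M]
    congr 1
    refine congrArg (fun W : Subgroup G => Nat.card W) (le_antisymm ?_ ?_)
    · exact le_inf (inf_le_left.trans inf_le_left) inf_le_right
    · refine le_inf (le_inf inf_le_left fun c hc => mem_normalizer_zpowers ?_) inf_le_right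
      rw [Subgroup.mem_centralizer_singleton_iff.1 (Subgroup.mem_inf.1 hc).2, mul_inv_cancel_right]
      exact Subgroup.mem_zpowers x

/-- `z` lies in `A`, whose order is `2 ^ 3` or `2 ^ 7`. -/
theorem A_first : (Nat.card ↥(V ⊓ Subgroup.centralizer ({x} : Set G)) = 8 ∨
      Nat.card ↥(V ⊓ Subgroup.centralizer ({x} : Set G)) = 128) ∧
    T.z ∈ V ⊓ Subgroup.centralizer ({x} : Set G) := by
  haveI : Fact (Nat.Prime 5) := ⟨by norm_num⟩
  haveI : Fact (Nat.Prime 3) := ⟨Nat.prime_three⟩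
  set A := V ⊓ Subgroup.centralizer ({x} : Set G) with hA
  have hmod := card_modEq_fixed (q := 5) (x := x) (k := 1) (by rw [pow_one, h.x_pow_five])
    (V : Set G) fun v hv => (Subgroup.mem_normalizer_iff.1 h.x_norm v).1 hv
  have e : Nat.card {v : G // v ∈ (V : Set G) ∧ Commute x v} = Nat.card A :=
    Nat.card_congr
      { toFun := fun v => ⟨v.1, Subgroup.mem_inf.2
          ⟨v.2.1, Subgroup.mem_centralizer_singleton_iff.2 v.2.2.eq.symm⟩⟩
        invFun := fun v => ⟨v.1, v.2.1,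
          (Subgroup.mem_centralizer_singleton_iff.1 v.2.2).symm⟩
        left_inv := fun v => rfl
        right_inv := fun v => rfl }
  rw [e, SetLike.coe_sort_coe, h.card_V] at hmod
  obtain ⟨k, hk, hkc⟩ := (Nat.dvd_prime_pow Nat.prime_two).1
    (h.card_V ▸ Subgroup.card_dvd_of_le (inf_le_left : A ≤ V))
  change Nat.card A = 2 ^ k at hkc
  have hk11 : k ≠ 11 := by
    rintro rfl
    have hAV : A = V := Subgroup.eq_of_le_of_card_ge inf_le_left (by rw [h.card_V, hkc])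
    have hxV : x ∈ V := h.self (Subgroup.mem_centralizer_iff.2 fun v hv => by
      rw [SetLike.mem_coe, ← hAV] at hv
      exact (h.mem_A.1 hv).2.eq)
    have hd := orderOf_dvd_of_pow_eq_one ((pow_two x).trans (h.sq_one hxV))
    rw [h.h5] at hd
    norm_num at hd
  rw [hkc] at hmod
  have hk37 : k = 3 ∨ k = 7 := by
    interval_cases k <;> first
      | omega
      | (exfalso; revert hmod; decide)
  refine ⟨by rcases hk37 with rfl | rfl <;> rw [hkc] <;> norm_num, ?_⟩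
  have hmod3 := card_modEq_fixed (q := 3) (x := T.p) (k := 1) (by rw [pow_one, T.p_pow_three])
    (A : Set G) fun v hv => by
      have := h.p_conj_mem hv 1
      rwa [pow_one] at this
  rw [SetLike.coe_sort_coe, hkc] at hmod3
  by_contra hz
  have e1 : Nat.card {v : G // v ∈ (A : Set G) ∧ Commute T.p v} = 1 := by
    refine Nat.card_eq_one_iff_unique.2 ⟨⟨fun v w => ?_⟩, ⟨⟨1, one_mem A, Commute.one_right _⟩⟩⟩
    have key : ∀ u : {v : G // v ∈ (A : Set G) ∧ Commute T.p v}, u.1 = 1 := fun u => by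
      obtain ⟨huV, hux⟩ := h.mem_A.1 u.2.1
      rcases h.p_fix huV hux u.2.2 with e | e
      · exact e
      · exact absurd (e ▸ u.2.1) hz
    exact Subtype.ext ((key v).trans (key w).symm)
  rw [e1] at hmod3
  rcases hk37 with rfl | rfl <;> revert hmod3 <;> decide

theorem z_mem_A : T.z ∈ V ⊓ Subgroup.centralizer ({x} : Set G) := h.A_first.2

theorem mem_E {a : G} (ha : a ∈ V ⊓ Subgroup.centralizer ({x} : Set G)) : a ∈ T.E := by
  obtain ⟨haV, hax⟩ := h.mem_A.1 ha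
  have haH : a ∈ T.H := T.mem_H.2 (h.comm_V haV (h.mem_A.1 h.z_mem_A).1).eq
  by_contra hE
  have hinv := inverts_p_of_not_mem h.hx h.h5 haH hax (h.sq_one haV ▸ one_mem _) hE
  set e := a * T.p * a⁻¹ * T.p with he
  have hq : e * T.p ^ 1 ∈ V := by
    have h1 := (h.mem_A.1 (h.p_conj_mem ha 1)).1
    rw [pow_one] at h1
    have h3 : T.p * T.p = T.p⁻¹ := by rw [T.p_inv, pow_two]
    rw [show e * T.p ^ 1 = a * T.p * a⁻¹ * (T.p * T.p) by rw [he, pow_one]; group, h3,
      show a * T.p * a⁻¹ * T.p⁻¹ = a * (T.p * a * T.p⁻¹)⁻¹ by group]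
    exact mul_mem haV (inv_mem h1)
  exact cube_E_p hinv ⟨1, by norm_num, h.sq_one hq⟩

theorem exists_flip {a : G} (ha : a ∈ V ⊓ Subgroup.centralizer ({x} : Set G)) (ha1 : a ≠ 1)
    (haz : a ≠ T.z) : ∃ e ∈ T.E, Commute e x ∧ e * a * e⁻¹ = T.z * a := by
  by_contra hcon
  push Not at hcon
  rcases cent_R_center (T.C_le_H h.hx) (n := 5) (by decide) h.x_pow_five (h.mem_E ha)
    (h.mem_A.1 ha).2 (fun s hs hsx => by
      rcases T.sub.comm_eq hs (h.mem_E ha) with e | e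
      · exact (mul_inv_eq_iff_eq_mul.1 (mul_inv_eq_one.1 e)).symm
      · exact absurd (mul_inv_eq_iff_eq_mul.1 e) (hcon s hs hsx)) with e | e
  · exact ha1 e
  · exact haz e

theorem conj_za {a : G} (ha : a ∈ V ⊓ Subgroup.centralizer ({x} : Set G)) (ha1 : a ≠ 1)
    (haz : a ≠ T.z) : IsConj a (T.z * a) := by
  obtain ⟨e, -, -, he⟩ := h.exists_flip ha ha1 haz
  exact isConj_iff.2 ⟨e, he⟩

theorem card_A : Nat.card ↥(V ⊓ Subgroup.centralizer ({x} : Set G)) = 8 := by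
  refine h.A_first.1.resolve_right fun hA => ?_
  obtain ⟨o, ho, ho0, hL⟩ := h.exists_card_L
  rw [hA] at hL
  set A := V ⊓ Subgroup.centralizer ({x} : Set G) with hAdef
  set L := Subgroup.normalizer (V : Set G) ⊓
      Subgroup.normalizer ((Subgroup.zpowers x : Subgroup G) : Set G) with hLdef
  have horb : ∀ a ∈ A, a ≠ 1 → {v : G | ∃ n ∈ L, n * a * n⁻¹ = v} =
      {v : G | v ∈ A ∧ v ≠ 1 ∧ (IsConj T.z a ↔ IsConj T.z v)} := by
    intro a ha ha1
    ext v
    constructor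
    · rintro ⟨n, hn, rfl⟩
      exact ⟨h.L_conj_mem hn ha, fun e => ha1 (conj_eq_one_iff.1 e),
        ⟨fun hc => hc.trans (isConj_iff.2 ⟨n, rfl⟩),
          fun hc => hc.trans (isConj_iff.2 ⟨n, rfl⟩).symm⟩⟩
    · rintro ⟨hv, hv1, hiff⟩
      exact h.trans_A ha ha1 hv hv1 hiff
  have hdvd : ∀ a ∈ A, a ≠ 1 →
      {v : G | v ∈ A ∧ v ≠ 1 ∧ (IsConj T.z a ↔ IsConj T.z v)}.ncard ∣ o * 7680 := fun a ha ha1 => by
    rw [← horb a ha ha1, show o * 7680 = o * (128 * 60) from rfl, ← hL]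
    exact Dvd.intro _ (ncard_orbit_mul_card L a)
  set Z := {v : G | v ∈ A ∧ v ≠ 1 ∧ (IsConj T.z T.z ↔ IsConj T.z v)} with hZ
  set U := {v : G | v ∈ A ∧ v ≠ 1 ∧ ¬ IsConj T.z v} with hU
  have hsum : Z.ncard + U.ncard = 127 := by
    have e : Z ∪ U = (A : Set G) \ {1} := by
      ext v
      simp only [hZ, hU, IsConj.refl, true_iff, Set.mem_union, Set.mem_ofPred_eq, Set.mem_sdiff,
        SetLike.mem_coe, Set.mem_singleton_iff]
      tauto
    rw [← Set.ncard_union_eq (Set.disjoint_left.2 fun v hv hv' => hv'.2.2 (hv.2.2.1 (IsConj.refl _)))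
      (Set.toFinite _) (Set.toFinite _), e, Set.ncard_sdiff_singleton_of_mem (one_mem A),
      ← Nat.card_coe_set_eq, SetLike.coe_sort_coe, hA]
  have hZd := hdvd T.z h.z_mem_A T.sub.ne_one
  have hU' : Z.ncard = 127 ∨ (o * 7680) % (127 - Z.ncard) = 0 := by
    by_cases hne : U.Nonempty
    · obtain ⟨a, ha, ha1, hna⟩ := hne
      have := hdvd a ha ha1
      rw [show {v : G | v ∈ A ∧ v ≠ 1 ∧ (IsConj T.z a ↔ IsConj T.z v)} = U by
        ext v; simp only [hU, Set.mem_ofPred_eq]; tauto] at this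
      right
      rw [show 127 - Z.ncard = U.ncard by omega]
      exact Nat.mod_eq_zero_of_dvd this
    · left
      rw [Set.not_nonempty_iff_eq_empty] at hne
      rw [hne, Set.ncard_empty] at hsum
      omega
  exact five_count ⟨o, ho⟩ ⟨Z.ncard, by omega⟩ ⟨ho0, Nat.mod_eq_zero_of_dvd hZd, hU'⟩

theorem flip_ne {a : G} (ha : a ∈ V ⊓ Subgroup.centralizer ({x} : Set G)) (ha1 : a ≠ 1)
    (haz : a ≠ T.z) {d : ℕ} (hd : ¬ 3 ∣ d) :
    T.p ^ d * a * (T.p ^ d)⁻¹ ≠ a ∧ T.p ^ d * a * (T.p ^ d)⁻¹ ≠ T.z * a := by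
  obtain ⟨haV, hax⟩ := h.mem_A.1 ha
  have hfix : ∀ d : ℕ, ¬ 3 ∣ d → T.p ^ d * a * (T.p ^ d)⁻¹ ≠ a := fun d hd e => by
    have hc : Commute (T.p ^ d) a := mul_inv_eq_iff_eq_mul.1 e
    have hc2 : Commute T.p a := by
      rw [p_pow_mod] at hc
      rcases (show d % 3 = 1 ∨ d % 3 = 2 by omega) with e | e <;> rw [e] at hc
      · rwa [pow_one] at hc
      · have := hc.pow_left 2
        rwa [← pow_mul, p_pow_mod, show 2 * 2 % 3 = 1 from rfl, pow_one] at this
    rcases h.p_fix haV hax hc2 with e | e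
    exacts [ha1 e, haz e]
  refine ⟨hfix d hd, fun e => hfix (d + d) (by omega) ?_⟩
  have hpz : Commute (T.p ^ d) T.z := (show Commute T.p T.z from T.p_comm).pow_left d
  calc T.p ^ (d + d) * a * (T.p ^ (d + d))⁻¹
      = T.p ^ d * (T.p ^ d * a * (T.p ^ d)⁻¹) * (T.p ^ d)⁻¹ := by rw [pow_add]; group
    _ = T.p ^ d * T.z * a * (T.p ^ d)⁻¹ := by rw [e]; group
    _ = T.z * (T.p ^ d * a * (T.p ^ d)⁻¹) := by rw [hpz.eq]; group
    _ = a := by rw [e, ← mul_assoc, T.z_mul_z, one_mul]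

/-- The six elements of `A` outside `⟨z⟩`. -/
theorem six {a b : G} (ha : a ∈ V ⊓ Subgroup.centralizer ({x} : Set G)) (ha1 : a ≠ 1)
    (haz : a ≠ T.z) (hb : b ∈ V ⊓ Subgroup.centralizer ({x} : Set G)) (hb1 : b ≠ 1)
    (hbz : b ≠ T.z) :
    ∃ j : ℕ, j < 3 ∧ (b = T.p ^ j * a * (T.p ^ j)⁻¹ ∨ b = T.z * (T.p ^ j * a * (T.p ^ j)⁻¹)) := by
  set A := V ⊓ Subgroup.centralizer ({x} : Set G) with hA
  let f : Option (Option (Fin 3 × Bool)) → A := fun o =>
    match o with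
    | none => 1
    | some none => ⟨T.z, h.z_mem_A⟩
    | some (some (j, false)) => ⟨T.p ^ (j : ℕ) * a * (T.p ^ (j : ℕ))⁻¹, h.p_conj_mem ha _⟩
    | some (some (j, true)) => ⟨T.z * (T.p ^ (j : ℕ) * a * (T.p ^ (j : ℕ))⁻¹),
        mul_mem h.z_mem_A (h.p_conj_mem ha _)⟩
  have hz : ∀ j : ℕ, Commute (T.p ^ j) T.z := fun j =>
    (show Commute T.p T.z from T.p_comm).pow_left j
  have hne : ∀ j : ℕ, T.p ^ j * a * (T.p ^ j)⁻¹ ≠ 1 ∧ T.p ^ j * a * (T.p ^ j)⁻¹ ≠ T.z := fun j =>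
    ⟨fun e => ha1 (conj_eq_one_iff.1 e), fun e => haz (by
      have e1 := mul_inv_eq_iff_eq_mul.1 e
      rw [← (hz j).eq] at e1
      exact mul_left_cancel e1)⟩
  have hpj : ∀ i j : Fin 3, (T.p ^ (i : ℕ) * a * (T.p ^ (i : ℕ))⁻¹ =
      T.p ^ (j : ℕ) * a * (T.p ^ (j : ℕ))⁻¹ → i = j) ∧
      T.p ^ (i : ℕ) * a * (T.p ^ (i : ℕ))⁻¹ ≠
        T.z * (T.p ^ (j : ℕ) * a * (T.p ^ (j : ℕ))⁻¹) := by
    intro i j
    have e3 : T.p ^ ((3 - (j : ℕ)) + (i : ℕ)) * a * (T.p ^ ((3 - (j : ℕ)) + (i : ℕ)))⁻¹ =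
        (T.p ^ (j : ℕ))⁻¹ * (T.p ^ (i : ℕ) * a * (T.p ^ (i : ℕ))⁻¹) * T.p ^ (j : ℕ) := by
      have : T.p ^ (3 - (j : ℕ)) = (T.p ^ (j : ℕ))⁻¹ := eq_inv_of_mul_eq_one_left (by
        rw [← pow_add, Nat.sub_add_cancel (by omega), T.p_pow_three])
      rw [pow_add, this]; group
    refine ⟨fun e => ?_, fun e => ?_⟩
    · by_contra hij
      refine (h.flip_ne ha ha1 haz (d := (3 - (j : ℕ)) + (i : ℕ)) ?_).1 ?_
      · have : (i : ℕ) ≠ (j : ℕ) := fun e => hij (Fin.ext e)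
        omega
      · rw [e3, e]; group
    · by_cases hij : i = j
      · subst hij
        exact T.sub.ne_one (right_eq_mul.1 e)
      refine (h.flip_ne ha ha1 haz (d := (3 - (j : ℕ)) + (i : ℕ)) ?_).2 ?_
      · have : (i : ℕ) ≠ (j : ℕ) := fun e => hij (Fin.ext e)
        omega
      · rw [e3, e, ← mul_assoc (T.p ^ (j : ℕ))⁻¹, (hz (j : ℕ)).inv_left.eq]; group
  have hinj : Function.Injective f := by
    intro u v e
    have e' := congrArg Subtype.val e
    rcases u with _ | _ | ⟨i, _ | _⟩ <;> rcases v with _ | _ | ⟨j, _ | _⟩ <;>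
      simp only [f, OneMemClass.coe_one] at e'
    all_goals try rfl
    · exact absurd e'.symm T.sub.ne_one
    · exact absurd e'.symm (hne j).1
    · exact absurd (eq_inv_of_mul_eq_one_right e'.symm) (by rw [T.z_inv]; exact (hne j).2)
    · exact absurd e' T.sub.ne_one
    · exact absurd e'.symm (hne j).2
    · exact absurd (left_eq_mul.1 e') (hne j).1
    · exact absurd e' (hne i).1
    · exact absurd e' (hne i).2
    · rw [(hpj i j).1 e']
    · exact absurd e' (hpj i j).2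
    · exact absurd (eq_inv_of_mul_eq_one_right e') (by rw [T.z_inv]; exact (hne i).2)
    · exact absurd (mul_eq_left.1 e') (hne i).1
    · exact absurd e'.symm (hpj j i).2
    · rw [(hpj i j).1 (mul_left_cancel e')]
  have hbij := (Nat.bijective_iff_injective_and_card f).2 ⟨hinj, by
    rw [Nat.card_eq_fintype_card, show Nat.card A = 8 from h.card_A]; rfl⟩
  obtain ⟨o, ho⟩ := hbij.2 ⟨b, hb⟩
  have ho' := congrArg Subtype.val ho
  rcases o with _ | _ | ⟨i, _ | _⟩ <;> simp only [f, OneMemClass.coe_one] at ho'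
  · exact absurd ho'.symm hb1
  · exact absurd ho'.symm hbz
  · exact ⟨i, i.2, .inl ho'.symm⟩
  · exact ⟨i, i.2, .inr ho'.symm⟩

theorem not_z {a : G} (ha : a ∈ V ⊓ Subgroup.centralizer ({x} : Set G)) (ha1 : a ≠ 1)
    (haz : a ≠ T.z) : ¬ IsConj T.z a := fun hc => by
  obtain ⟨o, ho, ho0, hL⟩ := h.exists_card_L
  rw [h.card_A] at hL
  set A := V ⊓ Subgroup.centralizer ({x} : Set G) with hA
  have hall : ∀ b ∈ A, b ≠ 1 → IsConj T.z b := by
    intro b hb hb1
    by_cases hbz : b = T.z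
    · exact hbz ▸ IsConj.refl _
    obtain ⟨j, -, e | e⟩ := h.six ha ha1 haz hb hb1 hbz <;> rw [e]
    · exact hc.trans (isConj_iff.2 ⟨_, rfl⟩)
    · refine (hc.trans (h.conj_za ha ha1 haz)).trans (isConj_iff.2 ⟨T.p ^ j, ?_⟩)
      rw [← mul_assoc, ((show Commute T.p T.z from T.p_comm).pow_left j).eq]
      group
  have horb : {v : G | ∃ n ∈ Subgroup.normalizer (V : Set G) ⊓
      Subgroup.normalizer ((Subgroup.zpowers x : Subgroup G) : Set G), n * T.z * n⁻¹ = v} =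
      (A : Set G) \ {1} := by
    ext v
    constructor
    · rintro ⟨n, hn, rfl⟩
      exact ⟨h.L_conj_mem hn h.z_mem_A, fun e => T.sub.ne_one (conj_eq_one_iff.1 e)⟩
    · rintro ⟨hv, hv1⟩
      exact h.trans_A h.z_mem_A T.sub.ne_one hv hv1
        ⟨fun _ => hall v hv hv1, fun _ => IsConj.refl _⟩
  have := ncard_orbit_mul_card (Subgroup.normalizer (V : Set G) ⊓
      Subgroup.normalizer ((Subgroup.zpowers x : Subgroup G) : Set G)) T.z
  rw [horb, hL, Set.ncard_sdiff_singleton_of_mem (one_mem A), ← Nat.card_coe_set_eq,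
    SetLike.coe_sort_coe, hA, h.card_A] at this
  interval_cases o <;> omega

theorem L_le_H {n : G} (hn : n ∈ Subgroup.normalizer (V : Set G) ⊓
      Subgroup.normalizer ((Subgroup.zpowers x : Subgroup G) : Set G)) : n ∈ T.H := by
  rw [T.mem_H, ← mul_inv_eq_iff_eq_mul]
  by_contra hne
  exact h.not_z (h.L_conj_mem hn h.z_mem_A) (fun e => T.sub.ne_one (conj_eq_one_iff.1 e)) hne
    (isConj_iff.2 ⟨n, rfl⟩)

theorem exists_a : ∃ a ∈ V ⊓ Subgroup.centralizer ({x} : Set G), a ≠ 1 ∧ a ≠ T.z := by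
  by_contra hcon
  push Not at hcon
  have hle : V ⊓ Subgroup.centralizer ({x} : Set G) ≤ Subgroup.zpowers T.z := fun a ha => by
    by_cases ha1 : a = 1
    · rw [ha1]; exact one_mem _
    · rw [hcon a ha ha1]; exact Subgroup.mem_zpowers _
  have := Subgroup.card_dvd_of_le hle
  rw [h.card_A, Nat.card_zpowers, T.sub.two] at this
  norm_num at this

end FiveLocalData

end CfsgLib.JFourSeven
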