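import Cfsg.Agent.JFourSeven.SevenCore

/-!
# Local structure at the prime seven of a group of Janko-four type
-/

set_option autoImplicit false
set_option linter.style.haveILetI false
set_option linter.unusedSectionVars false

namespace CfsgLib.JFourSeven

open Cfsg CfsgLib.JFourType CfsgLib.JFourType.Shape

variable {G : Type*} [Group G] [Finite G]

/-- The data of the orbits of the normalizer on the elementary abelian subgroup. -/
theorem orbit_facts {z : G} {V K : Subgroup G} (hVc : Nat.card V = 2 ^ 11)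
    (hK : K ≤ Subgroup.normalizer (V : Set G)) (hKV : K ⊓ V = ⊥)
    (hsup : K ⊔ V = Subgroup.normalizer (V : Set G)) (hKc : Nat.card K = 244823040) {z' t : G}
    (hz' : z' ∈ V) (ht : t ∈ V) (ht1 : t ≠ 1) (hz2 : z ≠ 1) (hzz : IsConj z z')
    (hzt : ¬ IsConj z t)
    (n1 : Set.ncard {v : G | ∃ n ∈ Subgroup.normalizer (V : Set G), n * z' * n⁻¹ = v} = 1771)
    (n2 : Set.ncard {v : G | ∃ n ∈ Subgroup.normalizer (V : Set G), n * t * n⁻¹ = v} = 276)
    (hct : Subgroup.centralizer ({t} : Set G) ≤ Subgroup.normalizer (V : Set G)) :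
    (∀ v ∈ V, IsConj z v →
      ¬ 7 ∣ Nat.card ↥(Subgroup.normalizer (V : Set G) ⊓ Subgroup.centralizer ({v} : Set G))) ∧
    (∀ v ∈ V, ∀ v' ∈ V, v ≠ 1 → v' ≠ 1 → ¬ IsConj z v → ¬ IsConj z v' →
      ∃ m ∈ Subgroup.normalizer (V : Set G), m * v * m⁻¹ = v') ∧
    (∀ v ∈ V, v ≠ 1 → ¬ IsConj z v →
      Subgroup.centralizer ({v} : Set G) ≤ Subgroup.normalizer (V : Set G)) := by
  set M := Subgroup.normalizer (V : Set G) with hM
  set U1 := {v : G | ∃ n ∈ M, n * z' * n⁻¹ = v} with hU1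
  set U2 := {v : G | ∃ n ∈ M, n * t * n⁻¹ = v} with hU2
  have hz'1 : z' ≠ 1 := fun e => hz2 (isConj_one_left.1 (e ▸ hzz))
  have hdisj : Disjoint U1 U2 := Set.disjoint_left.2 fun v ⟨n, _, e⟩ ⟨m, _, e'⟩ =>
    hzt (hzz.trans ((isConj_iff.2 ⟨n, e⟩).trans (isConj_iff.2 ⟨m, e'⟩).symm))
  have hsub : U1 ∪ U2 ⊆ (V : Set G) \ {1} := by
    rintro v (⟨n, hn, rfl⟩ | ⟨n, hn, rfl⟩)
    · exact ⟨(Subgroup.mem_normalizer_iff.1 hn z').1 hz', by simpa using hz'1⟩
    · exact ⟨(Subgroup.mem_normalizer_iff.1 hn t).1 ht, by simpa using ht1⟩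
  have hall : U1 ∪ U2 = (V : Set G) \ {1} := by
    refine Set.eq_of_subset_of_ncard_le hsub ?_ (Set.toFinite _)
    rw [Set.ncard_union_eq hdisj (Set.toFinite _) (Set.toFinite _), n1, n2,
      Set.ncard_sdiff_singleton_of_mem (one_mem V), ← Nat.card_coe_set_eq, SetLike.coe_sort_coe,
      hVc]
    norm_num
  have hU : ∀ v ∈ V, v ≠ 1 → ¬ IsConj z v → v ∈ U2 := fun v hv hv1 hcon => by
    have : v ∈ U1 ∪ U2 := by rw [hall]; exact ⟨hv, hv1⟩
    rcases this with ⟨n, -, e⟩ | h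
    · exact absurd (hzz.trans (isConj_iff.2 ⟨n, e⟩)) hcon
    · exact h
  refine ⟨fun v hv hzv => ?_, fun v hv v' hv' h1 h1' hn hn' => ?_, fun v hv h1 hn => ?_⟩
  · have hmem : v ∈ U1 := by
      have : v ∈ U1 ∪ U2 := by
        rw [hall]; exact ⟨hv, fun e => hz2 (isConj_one_left.1 (e ▸ hzv))⟩
      rcases this with h | ⟨n, -, e⟩
      · exact h
      · exact absurd (hzv.trans (isConj_iff.2 ⟨n, e⟩).symm) hzt
    obtain ⟨n, hn, e⟩ := hmem
    have horb : {w : G | ∃ m ∈ M, m * v * m⁻¹ = w} = U1 := by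
      ext w
      constructor
      · rintro ⟨m, hm, rfl⟩
        exact ⟨m * n, mul_mem hm hn, by rw [← e]; group⟩
      · rintro ⟨m, hm, rfl⟩
        exact ⟨m * n⁻¹, mul_mem hm (inv_mem hn), by rw [← e]; group⟩
    have hcount := ncard_orbit_mul_card M v
    rw [horb, n1] at hcount
    have hcM : Nat.card M = 2 ^ 11 * 244823040 := by
      have := card_cent_split hK hKV (one_mem K)
      have e1 : Subgroup.centralizer ({(1 : G)} : Set G) = ⊤ :=
        eq_top_iff.2 fun g _ => Subgroup.mem_centralizer_singleton_iff.2 (by simp)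
      rw [e1, inf_top_eq, inf_top_eq, inf_top_eq, sup_comm, hsup, hVc, hKc] at this
      exact this.symm
    rintro ⟨k, hk⟩
    rw [hk, hcM] at hcount
    omega
  · obtain ⟨n, hnM, e⟩ := hU v hv h1 hn
    obtain ⟨m, hmM, e'⟩ := hU v' hv' h1' hn'
    exact ⟨m * n⁻¹, mul_mem hmM (inv_mem hnM), by rw [← e', ← e]; group⟩
  · obtain ⟨n, hnM, e⟩ := hU v hv h1 hn
    intro c hc
    have h' : n⁻¹ * c * n ∈ M := hct (by
      rw [Subgroup.mem_centralizer_singleton_iff] at hc ⊢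
      calc n⁻¹ * c * n * t = n⁻¹ * (c * (n * t * n⁻¹)) * n := by group
        _ = n⁻¹ * (n * t * n⁻¹ * c) * n := by rw [e, hc]
        _ = t * (n⁻¹ * c * n) := by group)
    simpa [mul_assoc] using mul_mem (mul_mem hnM h') (inv_mem hnM)

/-- The conjugate of a subgroup of order seven generated by a given element. -/
theorem exists_map_zpowers {z x : G} (hx : x ∈ Subgroup.centralizer ({z} : Set G))
    (h7 : orderOf x = 7) (hz : ¬ 7 ^ 2 ∣ Nat.card (Subgroup.centralizer ({z} : Set G)))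
    {Y : Subgroup G} (hY : Nat.card Y = 7) (hYz : Y ≤ Subgroup.centralizer ({z} : Set G)) :
    ∃ c : G, (Subgroup.zpowers x).map (MulAut.conj c).toMonoidHom = Y := by
  haveI : Fact (Nat.Prime 7) := ⟨by norm_num⟩
  obtain ⟨y, hy, hy1⟩ : ∃ y ∈ Y, y ≠ 1 := by
    by_contra hcon
    push Not at hcon
    rw [(Subgroup.eq_bot_iff_forall _).2 hcon, Subgroup.card_bot] at hY
    omega
  have hy7 : orderOf y = 7 := by
    refine orderOf_eq_prime ?_ hy1
    have := pow_card_eq_one' (x := (⟨y, hy⟩ : Y))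
    rw [hY] at this
    exact congrArg Subtype.val this
  obtain ⟨c, -, hc⟩ := exists_conj_mem_zpowers (q := 7) hz (hYz hy) hx hy7 h7
  have hle : (Subgroup.zpowers x).map (MulAut.conj c).toMonoidHom ≤ Y := by
    rw [MonoidHom.map_zpowers, Subgroup.zpowers_le]
    obtain ⟨j, hj⟩ := hc
    show c * x * c⁻¹ ∈ Y
    rw [← hj]
    exact zpow_mem hy j
  exact ⟨c, Subgroup.eq_of_le_of_card_ge hle (by
    rw [hY, Subgroup.card_map_of_injective (f := (MulAut.conj c).toMonoidHom)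
      (MulAut.conj c).injective, Nat.card_zpowers, h7])⟩

/-- Direct products are preserved by automorphisms. -/
theorem isInternalDirectProduct_map {φ : G ≃* G} {A B C : Subgroup G}
    (h : IsInternalDirectProduct A B C) :
    IsInternalDirectProduct (A.map φ.toMonoidHom) (B.map φ.toMonoidHom)
      (C.map φ.toMonoidHom) := by
  obtain ⟨h1, h2, h3, h4, h5⟩ := h
  refine ⟨Subgroup.map_mono h1, Subgroup.map_mono h2, ?_, ?_, ?_⟩
  · rintro _ ⟨a, ha, rfl⟩ _ ⟨b, hb, rfl⟩
    rw [← map_mul, h3 a ha b hb, map_mul]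
  · rw [← Subgroup.map_inf _ _ _ φ.injective, h4, Subgroup.map_bot]
  · rw [← Subgroup.map_sup, h5]

/-- The local structure at the prime seven, given the three-local and `2 ^ 11`-local data. -/
theorem seven_main {z : G} (hJ : Cfsg.IsOfJankoFourTypeAt z)
    (hN : ∀ P : Subgroup G, Cfsg.IsOfJankoFourTypeWith z P →
      Subgroup.normalizer (P : Set G) ≤ Subgroup.centralizer ({z} : Set G))
    (h3 : ∀ a b : G, orderOf a = 3 → orderOf b = 3 → IsConj a b)
    (hex : ∃ V : Subgroup G, IsElementaryAbelian 2 V ∧ Nat.card V = 2 ^ 11)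
    (h67 : ∀ V : Subgroup G, IsElementaryAbelian 2 V → Nat.card V = 2 ^ 11 →
      Subgroup.centralizer (V : Set G) ≤ V ∧
        ∃ K : Subgroup G, K ≤ Subgroup.normalizer (V : Set G) ∧ K ⊓ V = ⊥ ∧
          K ⊔ V = Subgroup.normalizer (V : Set G) ∧ Spor.IsoM24 ↥K)
    (h68 : ∀ V : Subgroup G, IsElementaryAbelian 2 V → Nat.card V = 2 ^ 11 →
      ∃ z' t : G, z' ∈ V ∧ t ∈ V ∧ t ≠ 1 ∧ IsConj z z' ∧ ¬ IsConj z t ∧
      Set.ncard {v : G | ∃ n ∈ Subgroup.normalizer (V : Set G), n * z' * n⁻¹ = v} = 1771 ∧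
      Set.ncard {v : G | ∃ n ∈ Subgroup.normalizer (V : Set G), n * t * n⁻¹ = v} = 276 ∧
      Subgroup.centralizer ({t} : Set G) ≤ Subgroup.normalizer (V : Set G))
    (Y : Subgroup G) (hY : Nat.card Y = 7) (hYz : Y ≤ Subgroup.centralizer ({z} : Set G)) :
    ¬ (49 ∣ Nat.card G) ∧
    (∃ I : Subgroup G, IsInternalDirectProduct Y I (Subgroup.centralizer (Y : Set G)) ∧
      Nonempty (↥I ≃* Equiv.Perm (Fin 5))) ∧
    Nat.card ↥(Subgroup.normalizer (Y : Set G)) =
      3 * Nat.card ↥(Subgroup.centralizer (Y : Set G)) ∧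
    Nat.card ↥(Subgroup.normalizer (Y : Set G)) = 2 ^ 3 * 3 ^ 2 * 5 * 7 := by
  obtain ⟨P, hP⟩ := hJ
  obtain ⟨S, hSz, hSP⟩ := exists_of_isOfJankoFourTypeWith hP
  have hcp : Subgroup.centralizer ({S.p} : Set G) ≤ S.H := by
    rw [← centralizer_zpowers_eq, hSP, show S.H = Subgroup.centralizer ({z} : Set G) by
      rw [← hSz]; rfl]
    exact le_trans (fun c hc => Subgroup.mem_normalizer_iff.2 fun y => ⟨fun hy => by
      rwa [← (Subgroup.mem_centralizer_iff.1 hc y hy), mul_inv_cancel_right], fun hy => by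
      have h2 := Subgroup.mem_centralizer_iff.1 hc _ hy
      rwa [show y = c⁻¹ * (c * y * c⁻¹ * c) by group, h2, inv_mul_cancel_left]⟩) (hN P hP)
  obtain ⟨V, hV, hVc⟩ := hex
  obtain ⟨hself, K, hK, hKV, hsup, hiso⟩ := h67 V hV hVc
  obtain ⟨z', t, hz', ht, ht1, hzz, hzt, n1, n2, hct⟩ := h68 V hV hVc
  have hKc : Nat.card K = 244823040 := by
    obtain ⟨e⟩ := hiso
    exact (Nat.card_congr e.toEquiv).trans CfsgLib.Mathieu.card_M24
  haveI : Fact (Nat.Prime 7) := ⟨by norm_num⟩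
  obtain ⟨x, hx7⟩ := exists_prime_orderOf_dvd_card' (G := K) 7 (by rw [hKc]; norm_num)
  have hx7' : orderOf (x : G) = 7 := (Subgroup.orderOf_coe x).trans hx7
  haveI : Fact (Nat.Prime 3) := ⟨Nat.prime_three⟩
  obtain ⟨q, hq3⟩ := exists_prime_orderOf_dvd_card' (G := Subgroup.centralizer ({x} : Set K)) 3 (by
    rw [(card_cent_isoM24 hiso (.inr hx7)).2, if_neg (by rw [hx7]; norm_num)]; norm_num)
  have hq3' : orderOf ((q : K) : G) = 3 :=
    (Subgroup.orderOf_coe (q : K)).trans ((Subgroup.orderOf_coe q).trans hq3)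
  have hqx : Commute ((q : K) : G) (x : G) :=
    congrArg Subtype.val (Subgroup.mem_centralizer_singleton_iff.1 q.2)
  obtain ⟨g, hg⟩ := isConj_iff.1 (h3 S.p _ S.p3 hq3')
  have hTcp : Subgroup.centralizer ({(S.conj g).p} : Set G) ≤ (S.conj g).H := by
    intro c hc
    rw [Subgroup.mem_centralizer_singleton_iff, Shape.conj_p] at hc
    have h' : g⁻¹ * c * g ∈ S.H := hcp (Subgroup.mem_centralizer_singleton_iff.2 (by
      calc g⁻¹ * c * g * S.p = g⁻¹ * (c * (g * S.p * g⁻¹)) * g := by group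
        _ = g⁻¹ * (g * S.p * g⁻¹ * c) * g := by rw [hc]
        _ = S.p * (g⁻¹ * c * g) := by group))
    rw [Shape.mem_H, Shape.conj_z]
    calc c * (g * S.z * g⁻¹) = g * (g⁻¹ * c * g * S.z) * g⁻¹ := by group
      _ = g * (S.z * (g⁻¹ * c * g)) * g⁻¹ := by rw [S.mem_H.1 h']
      _ = g * S.z * g⁻¹ * c := by group
  have hxp : (x : G) ∈ Subgroup.centralizer ({(S.conj g).p} : Set G) := by
    rw [Shape.conj_p, hg, Subgroup.mem_centralizer_singleton_iff]
    exact hqx.eq.symm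
  have hTz : IsConj (S.conj g).z z := (isConj_iff.2 ⟨g, (Shape.conj_z S g).symm⟩ :
    IsConj S.z (S.conj g).z).symm.trans (hSz ▸ IsConj.refl _)
  obtain ⟨o1, o2, o3⟩ := orbit_facts (z := (S.conj g).z) hVc hK hKV hsup hKc hz' ht ht1
    (S.conj g).sub.ne_one (hTz.trans hzz) (fun hc => hzt (hTz.symm.trans hc)) n1 n2 hct
  have hD : SevenData (S.conj g) V K x :=
    { cp := hTcp, elem := hV, card_V := hVc, self := hself, le_norm := hK, disj := hKV,
      sup := hsup, iso := hiso, orb_z := o1, orb_t := o2, cent_t := o3, hxK := x.2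
      hpK := by rw [Shape.conj_p, hg]; exact (q : K).2
      hx := Subgroup.mem_inf.2 ⟨hTcp hxp, hxp⟩
      h7 := hx7' }
  obtain ⟨hc840, ⟨I, hI, ⟨eI⟩⟩, hnorm⟩ := hD.local_structure
  -- transport to `Y`
  have hxgz : g⁻¹ * (x : G) * g ∈ Subgroup.centralizer ({z} : Set G) := by
    have h' := (S.conj g).mem_H.1 (hTcp hxp)
    rw [Shape.conj_z] at h'
    rw [← hSz, Subgroup.mem_centralizer_singleton_iff]
    calc g⁻¹ * (x : G) * g * S.z = g⁻¹ * ((x : G) * (g * S.z * g⁻¹)) * g := by group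
      _ = g⁻¹ * (g * S.z * g⁻¹ * (x : G)) * g := by rw [h']
      _ = S.z * (g⁻¹ * (x : G) * g) := by group
  have hH7 : ¬ 7 ^ 2 ∣ Nat.card (Subgroup.centralizer ({z} : Set G)) := by
    rw [← hSz, show Subgroup.centralizer ({S.z} : Set G) = S.H from rfl, card_H]
    norm_num
  obtain ⟨c, hc⟩ := exists_map_zpowers hxgz
    (by rw [← hx7']; exact (congrArg orderOf (show g⁻¹ * (x : G) * g = MulAut.conj g⁻¹ (x : G) by
      simp)).trans ((MulAut.conj g⁻¹).orderOf_eq _)) hH7 hY hYz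
  set φ := MulAut.conj (c * g⁻¹) with hφ
  have hφX : (Subgroup.zpowers (x : G)).map φ.toMonoidHom = Y := by
    rw [← hc, MonoidHom.map_zpowers, MonoidHom.map_zpowers]
    congr 1
    simp only [hφ, MulEquiv.coe_toMonoidHom, MulAut.conj_apply]
    group
  have hcentY : (Subgroup.centralizer ((Subgroup.zpowers (x : G) : Subgroup G) : Set G)).map
      φ.toMonoidHom = Subgroup.centralizer (Y : Set G) := by
    rw [map_centralizer_equiv, ← hφX]
    rfl
  have hnormY : (Subgroup.normalizer ((Subgroup.zpowers (x : G) : Subgroup G) : Set G)).map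
      φ.toMonoidHom = Subgroup.normalizer (Y : Set G) := by
    rw [map_normalizer_equiv', hφX]
  have hinj : Function.Injective φ.toMonoidHom := φ.injective
  have hI' := isInternalDirectProduct_map (φ := φ) hI
  rw [hφX, hcentY] at hI'
  have hn : Nat.card ↥(Subgroup.normalizer (Y : Set G)) =
      3 * Nat.card ↥(Subgroup.centralizer (Y : Set G)) := by
    rw [← hnormY, ← hcentY, Subgroup.card_map_of_injective hinj,
      Subgroup.card_map_of_injective hinj, hnorm]
  refine ⟨hD.not_fortynine, ⟨_, hI',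
    ⟨((Subgroup.equivMapOfInjective I _ hinj).symm).trans eI⟩⟩, hn, ?_⟩
  rw [hn, ← hcentY, Subgroup.card_map_of_injective hinj, hc840]
  norm_num

end CfsgLib.JFourSeven
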