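import Cfsg.Agent.JFourSeven.FiveQuot
import Cfsg.Agent.JFourSeven.SevenMain

/-!
# Local structure at the prime five of a group of Janko-four type
-/

set_option autoImplicit false
set_option linter.style.haveILetI false
set_option linter.unusedSectionVars false

namespace CfsgLib.JFourSeven

open Cfsg CfsgLib.JFourType CfsgLib.JFourType.Shape

variable {G : Type*} [Group G] [Finite G]

/-- The conjugates of `z` in `V` form one orbit. -/
theorem orbit_z_facts {z : G} {V : Subgroup G} (hVc : Nat.card V = 2 ^ 11) {z' t : G}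
    (hz' : z' ∈ V) (ht : t ∈ V) (ht1 : t ≠ 1) (hz2 : z ≠ 1) (hzz : IsConj z z')
    (hzt : ¬ IsConj z t)
    (n1 : Set.ncard {v : G | ∃ n ∈ Subgroup.normalizer (V : Set G), n * z' * n⁻¹ = v} = 1771)
    (n2 : Set.ncard {v : G | ∃ n ∈ Subgroup.normalizer (V : Set G), n * t * n⁻¹ = v} = 276) :
    ∀ v ∈ V, ∀ v' ∈ V, IsConj z v → IsConj z v' →
      ∃ m ∈ Subgroup.normalizer (V : Set G), m * v * m⁻¹ = v' := by
  set M := Subgroup.normalizer (V : Set G) with hM
  set U1 := {v : G | ∃ n ∈ M, n * z' * n⁻¹ = v} with hU1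
  set U2 := {v : G | ∃ n ∈ M, n * t * n⁻¹ = v} with hU2
  have hz'1 : z' ≠ 1 := fun e => hz2 (isConj_one_left.1 (e ▸ hzz))
  have hdisj : Disjoint U1 U2 := Set.disjoint_left.2 fun v ⟨n, _, e⟩ ⟨m, _, e'⟩ =>
    hzt (hzz.trans ((isConj_iff.2 ⟨n, e⟩).trans (isConj_iff.2 ⟨m, e'⟩).symm))
  have hsub : U1 ∪ U2 ⊆ (V : Set G) \ {1} := by
    rintro v (⟨n, hn, rfl⟩ | ⟨n, hn, rfl⟩)
    · exact ⟨(Subgroup.mem_normalizer_iff.1 hn z').1 hz', by simpa using hz'1⟩
    · exact ⟨(Subgroup.mem_normalizer_iff.1 hn t).1 ht, by simpa using ht1⟩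
  have hall : U1 ∪ U2 = (V : Set G) \ {1} := by
    refine Set.eq_of_subset_of_ncard_le hsub ?_ (Set.toFinite _)
    rw [Set.ncard_union_eq hdisj (Set.toFinite _) (Set.toFinite _), n1, n2,
      Set.ncard_sdiff_singleton_of_mem (one_mem V), ← Nat.card_coe_set_eq, SetLike.coe_sort_coe,
      hVc]
    norm_num
  have hmem : ∀ v ∈ V, IsConj z v → v ∈ U1 := fun v hv hzv => by
    have : v ∈ U1 ∪ U2 := by
      rw [hall]; exact ⟨hv, fun e => hz2 (isConj_one_left.1 (e ▸ hzv))⟩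
    rcases this with h | ⟨n, -, e⟩
    · exact h
    · exact absurd (hzv.trans (isConj_iff.2 ⟨n, e⟩).symm) hzt
  intro v hv v' hv' hc hc'
  obtain ⟨n, hnM, e⟩ := hmem v hv hc
  obtain ⟨m, hmM, e'⟩ := hmem v' hv' hc'
  exact ⟨m * n⁻¹, mul_mem hmM (inv_mem hnM), by rw [← e', ← e]; group⟩

/-- All elementary abelian subgroups of order `2 ^ 11` are conjugate. -/
theorem conj_eleven (huniq : ∀ T : Sylow 2 G,
      ∃! V : Subgroup G, V ≤ (T : Subgroup G) ∧ IsElementaryAbelian 2 V ∧ Nat.card ↥V = 2 ^ 11)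
    {V W : Subgroup G} (hV : IsElementaryAbelian 2 V) (hVc : Nat.card V = 2 ^ 11)
    (hW : IsElementaryAbelian 2 W) (hWc : Nat.card W = 2 ^ 11) :
    ∃ g : G, V.map (MulAut.conj g).toMonoidHom = W := by
  haveI : Fact (Nat.Prime 2) := ⟨Nat.prime_two⟩
  obtain ⟨P, hP⟩ := (IsPGroup.of_card hVc).exists_le_sylow
  obtain ⟨Q, hQ⟩ := (IsPGroup.of_card hWc).exists_le_sylow
  obtain ⟨g, hg⟩ := MulAction.exists_smul_eq G P Q
  refine ⟨g, (huniq Q).unique ⟨?_, ⟨?_, ?_⟩, ?_⟩ ⟨hQ, hW, hWc⟩⟩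
  · rintro _ ⟨v, hv, rfl⟩
    rw [← hg, Sylow.coe_subgroup_smul]
    exact Subgroup.smul_mem_pointwise_smul v (MulAut.conj g) _ (hP hv)
  · haveI := hV.1
    exact ⟨⟨by
      rintro ⟨_, u, hu, rfl⟩ ⟨_, w, hw, rfl⟩
      refine Subtype.ext ?_
      show (MulAut.conj g) u * (MulAut.conj g) w = (MulAut.conj g) w * (MulAut.conj g) u
      rw [← map_mul, ← map_mul]
      exact congrArg _ (congrArg Subtype.val (mul_comm' (⟨u, hu⟩ : V) ⟨w, hw⟩))⟩⟩
  · rintro _ ⟨v, hv, rfl⟩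
    rw [← map_pow, hV.2 v hv, map_one]
  · rw [Subgroup.card_map_of_injective (f := (MulAut.conj g).toMonoidHom) (MulAut.conj g).injective,
      hVc]

/-- An automorphism carries the Frobenius group along. -/
theorem frobenius_map {φ : G ≃* G} {X R : Subgroup G} (h1 : X ≤ R)
    (h2 : R ≤ Subgroup.normalizer (X : Set G))
    (h4 : R ⊓ Subgroup.centralizer (X : Set G) = X) :
    X.map φ.toMonoidHom ≤ R.map φ.toMonoidHom ∧
      R.map φ.toMonoidHom ≤ Subgroup.normalizer ((X.map φ.toMonoidHom : Subgroup G) : Set G) ∧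
      R.map φ.toMonoidHom ⊓ Subgroup.centralizer ((X.map φ.toMonoidHom : Subgroup G) : Set G) =
        X.map φ.toMonoidHom := by
  refine ⟨Subgroup.map_mono h1, ?_, ?_⟩
  · rw [← map_normalizer_equiv']
    exact Subgroup.map_mono h2
  · rw [show ((X.map φ.toMonoidHom : Subgroup G) : Set G) = φ '' (X : Set G) from rfl,
      ← map_centralizer_equiv, ← Subgroup.map_inf _ _ _ φ.injective, h4]

/-- The local structure at the prime five, given the three-local and `2 ^ 11`-local data. -/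
theorem five_main {z : G} (hJ : Cfsg.IsOfJankoFourTypeAt z)
    (hN : ∀ P : Subgroup G, Cfsg.IsOfJankoFourTypeWith z P →
      Subgroup.normalizer (P : Set G) ≤ Subgroup.centralizer ({z} : Set G))
    (h3 : ∀ a b : G, orderOf a = 3 → orderOf b = 3 → IsConj a b)
    (huniq : ∀ T : Sylow 2 G,
      ∃! V : Subgroup G, V ≤ (T : Subgroup G) ∧ IsElementaryAbelian 2 V ∧ Nat.card ↥V = 2 ^ 11)
    (h67 : ∀ V : Subgroup G, IsElementaryAbelian 2 V → Nat.card V = 2 ^ 11 →
      Subgroup.centralizer (V : Set G) ≤ V ∧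
        ∃ K : Subgroup G, K ≤ Subgroup.normalizer (V : Set G) ∧ K ⊓ V = ⊥ ∧
          K ⊔ V = Subgroup.normalizer (V : Set G) ∧ Spor.IsoM24 ↥K)
    (h68 : ∀ V : Subgroup G, IsElementaryAbelian 2 V → Nat.card V = 2 ^ 11 →
      ∃ z' t : G, z' ∈ V ∧ t ∈ V ∧ t ≠ 1 ∧ IsConj z z' ∧ ¬ IsConj z t ∧
      Set.ncard {v : G | ∃ n ∈ Subgroup.normalizer (V : Set G), n * z' * n⁻¹ = v} = 1771 ∧
      Set.ncard {v : G | ∃ n ∈ Subgroup.normalizer (V : Set G), n * t * n⁻¹ = v} = 276 ∧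
      Subgroup.centralizer ({t} : Set G) ≤ Subgroup.normalizer (V : Set G))
    (h69 : ∀ t : G, orderOf t = 2 → ¬ IsConj z t → ∃ V : Subgroup G,
      V ≤ Subgroup.centralizer ({t} : Set G) ∧ IsElementaryAbelian 2 V ∧ Nat.card ↥V = 2 ^ 11)
    (Y : Subgroup G) (hY : Nat.card Y = 5) (hYz : Y ≤ Subgroup.centralizer ({z} : Set G)) :
    ¬ (25 ∣ Nat.card G) ∧
    (∃ J : Subgroup G, IsInternalDirectProduct Y J (Subgroup.centralizer (Y : Set G)) ∧
      IsExtEight ↥J) ∧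
    (∃ R : Subgroup G, Y ≤ R ∧ R ≤ Subgroup.normalizer (Y : Set G) ∧ Nat.card ↥R = 20 ∧
      R ⊓ Subgroup.centralizer (Y : Set G) = Y) ∧
    Nat.card ↥(Subgroup.normalizer (Y : Set G)) = 2 ^ 8 * 3 * 5 * 7 := by
  haveI : Fact (Nat.Prime 5) := ⟨by norm_num⟩
  haveI : Fact (Nat.Prime 3) := ⟨Nat.prime_three⟩
  haveI : Fact (Nat.Prime 2) := ⟨Nat.prime_two⟩
  obtain ⟨P, hP⟩ := hJ
  obtain ⟨S, hSz, hSP⟩ := exists_of_isOfJankoFourTypeWith hP
  have hz1 : z ≠ 1 := hSz ▸ S.sub.ne_one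
  have hcp : Subgroup.centralizer ({S.p} : Set G) ≤ S.H := by
    rw [← centralizer_zpowers_eq, hSP, show S.H = Subgroup.centralizer ({z} : Set G) by
      rw [← hSz]; rfl]
    exact le_trans (fun c hc => Subgroup.mem_normalizer_iff.2 fun y => ⟨fun hy => by
      rwa [← (Subgroup.mem_centralizer_iff.1 hc y hy), mul_inv_cancel_right], fun hy => by
      have h2 := Subgroup.mem_centralizer_iff.1 hc _ hy
      rwa [show y = c⁻¹ * (c * y * c⁻¹ * c) by group, h2, inv_mul_cancel_left]⟩) (hN P hP)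
  obtain ⟨V, ⟨-, hV, hVc⟩, -⟩ := huniq (Classical.arbitrary _)
  obtain ⟨hself, K, hK, hKV, hsup, hiso⟩ := h67 V hV hVc
  obtain ⟨z', t, hz', ht, ht1, hzz, hzt, n1, n2, hct⟩ := h68 V hV hVc
  have hKc : Nat.card K = 244823040 := by
    obtain ⟨e⟩ := hiso
    exact (Nat.card_congr e.toEquiv).trans CfsgLib.Mathieu.card_M24
  obtain ⟨-, oT, oC⟩ := orbit_facts (z := z) hVc hK hKV hsup hKc hz' ht ht1 hz1 hzz hzt n1 n2 hct
  have oZ := orbit_z_facts hVc hz' ht ht1 hz1 hzz hzt n1 n2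
  have two : ∀ v w : G, orderOf v = 2 → orderOf w = 2 → ¬ IsConj z v → ¬ IsConj z w →
      IsConj v w := by
    intro v w hv hw hnv hnw
    have inV : ∀ u : G, orderOf u = 2 → ¬ IsConj z u → ∃ g : G, g⁻¹ * u * g ∈ V := fun u hu hnu => by
      obtain ⟨W, hWu, hW, hWc⟩ := h69 u hu hnu
      have huW : u ∈ W := (h67 W hW hWc).1 (Subgroup.mem_centralizer_iff.2 fun y hy =>
        Subgroup.mem_centralizer_singleton_iff.1 (hWu hy))
      obtain ⟨g, hg⟩ := conj_eleven huniq hV hVc hW hWc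
      rw [← hg] at huW
      obtain ⟨y, hy, e⟩ := huW
      refine ⟨g, ?_⟩
      rw [← e]
      simpa [mul_assoc] using hy
    obtain ⟨g, hg⟩ := inV v hv hnv
    obtain ⟨g', hg'⟩ := inV w hw hnw
    have c1 : IsConj v (g⁻¹ * v * g) := isConj_iff.2 ⟨g⁻¹, by group⟩
    have c2 : IsConj w (g'⁻¹ * w * g') := isConj_iff.2 ⟨g'⁻¹, by group⟩
    obtain ⟨m, -, hm⟩ := oT _ hg _ hg'
      (fun e => by
        rw [e] at c1
        rw [isConj_one_left.1 c1, orderOf_one] at hv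
        omega)
      (fun e => by
        rw [e] at c2
        rw [isConj_one_left.1 c2, orderOf_one] at hw
        omega)
      (fun hc => hnv (hc.trans c1.symm)) (fun hc => hnw (hc.trans c2.symm))
    exact (c1.trans (isConj_iff.2 ⟨m, hm⟩)).trans c2.symm
  obtain ⟨x, hx5⟩ := exists_prime_orderOf_dvd_card' (G := K) 5 (by rw [hKc]; norm_num)
  have hx5' : orderOf (x : G) = 5 := (Subgroup.orderOf_coe x).trans hx5
  obtain ⟨q, hq3⟩ := exists_prime_orderOf_dvd_card' (G := Subgroup.centralizer ({x} : Set K)) 3 (by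
    rw [(card_cent_isoM24 hiso (.inl hx5)).2, if_pos hx5]; norm_num)
  have hq3' : orderOf ((q : K) : G) = 3 :=
    (Subgroup.orderOf_coe (q : K)).trans ((Subgroup.orderOf_coe q).trans hq3)
  have hqx : Commute ((q : K) : G) (x : G) :=
    congrArg Subtype.val (Subgroup.mem_centralizer_singleton_iff.1 q.2)
  obtain ⟨g, hg⟩ := isConj_iff.1 (h3 S.p _ S.p3 hq3')
  have hTcp : Subgroup.centralizer ({(S.conj g).p} : Set G) ≤ (S.conj g).H := by
    intro c hc
    rw [Subgroup.mem_centralizer_singleton_iff, Shape.conj_p] at hc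
    have h' : g⁻¹ * c * g ∈ S.H := hcp (Subgroup.mem_centralizer_singleton_iff.2 (by
      calc g⁻¹ * c * g * S.p = g⁻¹ * (c * (g * S.p * g⁻¹)) * g := by group
        _ = g⁻¹ * (g * S.p * g⁻¹ * c) * g := by rw [hc]
        _ = S.p * (g⁻¹ * c * g) := by group))
    rw [Shape.mem_H, Shape.conj_z]
    calc c * (g * S.z * g⁻¹) = g * (g⁻¹ * c * g * S.z) * g⁻¹ := by group
      _ = g * (S.z * (g⁻¹ * c * g)) * g⁻¹ := by rw [S.mem_H.1 h']
      _ = g * S.z * g⁻¹ * c := by group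
  have hxp : (x : G) ∈ Subgroup.centralizer ({(S.conj g).p} : Set G) := by
    rw [Shape.conj_p, hg, Subgroup.mem_centralizer_singleton_iff]
    exact hqx.eq.symm
  have hTz : IsConj (S.conj g).z z := (isConj_iff.2 ⟨g, (Shape.conj_z S g).symm⟩ :
    IsConj S.z (S.conj g).z).symm.trans (hSz ▸ IsConj.refl _)
  have htype : ∀ v, IsConj (S.conj g).z v ↔ IsConj z v := fun v =>
    ⟨fun h => hTz.symm.trans h, fun h => hTz.trans h⟩
  have hD : FiveLocalData (S.conj g) V K x :=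
    { cp := hTcp, elem := hV, card_V := hVc, self := hself, le_norm := hK, disj := hKV,
      sup := hsup, iso := hiso
      orb := fun v hv v' hv' h1 h1' hiff => by
        rw [htype, htype] at hiff
        by_cases hc : IsConj z v
        · exact oZ v hv v' hv' hc (hiff.1 hc)
        · exact oT v hv v' hv' h1 h1' hc fun hc' => hc (hiff.2 hc')
      cent_t := fun v hv h1 hn => oC v hv h1 fun hc => hn ((htype v).2 hc)
      two := fun v w hv hw hnv hnw => two v w hv hw (fun hc => hnv ((htype v).2 hc))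
        fun hc => hnw ((htype w).2 hc)
      hxK := x.2
      hpK := by rw [Shape.conj_p, hg]; exact (q : K).2
      hx := Subgroup.mem_inf.2 ⟨hTcp hxp, hxp⟩
      h5 := hx5' }
  obtain ⟨a, τ, a', F⟩ := hD.exists_frame
  obtain ⟨B, hB, hB8, -, -⟩ := F.exists_B
  obtain ⟨J, hJd, hJe⟩ := F.exists_J
  obtain ⟨g₀, -, hg₀, hg₀4⟩ := hD.exists_g
  obtain ⟨R, hR1, hR2, hR20, hRc⟩ := exists_frobenius hx5' hg₀ hg₀4
  have hN5 := F.card_N hB hB8
  have h25 := not_twentyfive hx5' (by rw [F.card_D hB hB8]; norm_num)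
  -- transport to `Y`
  have hxgz : g⁻¹ * (x : G) * g ∈ Subgroup.centralizer ({z} : Set G) := by
    have h' := (S.conj g).mem_H.1 (hTcp hxp)
    rw [Shape.conj_z] at h'
    rw [← hSz, Subgroup.mem_centralizer_singleton_iff]
    calc g⁻¹ * (x : G) * g * S.z = g⁻¹ * ((x : G) * (g * S.z * g⁻¹)) * g := by group
      _ = g⁻¹ * (g * S.z * g⁻¹ * (x : G)) * g := by rw [h']
      _ = S.z * (g⁻¹ * (x : G) * g) := by group
  have hH5 : ¬ 5 ^ 2 ∣ Nat.card (Subgroup.centralizer ({z} : Set G)) := by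
    rw [← hSz, show Subgroup.centralizer ({S.z} : Set G) = S.H from rfl, card_H]
    norm_num
  have hxg5 : orderOf (g⁻¹ * (x : G) * g) = 5 := by
    rw [← hx5']
    exact (congrArg orderOf (show g⁻¹ * (x : G) * g = MulAut.conj g⁻¹ (x : G) by simp)).trans
      ((MulAut.conj g⁻¹).orderOf_eq _)
  obtain ⟨y, hy5⟩ := exists_prime_orderOf_dvd_card' (G := Y) 5 (by rw [hY])
  have hy5' : orderOf (y : G) = 5 := (Subgroup.orderOf_coe y).trans hy5
  obtain ⟨c, -, hc⟩ := exists_conj_mem_zpowers (q := 5) hH5 (hYz y.2) hxgz hy5' hxg5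
  set φ := MulAut.conj (c * g⁻¹) with hφ
  have hinj : Function.Injective φ.toMonoidHom := φ.injective
  have hφX : (Subgroup.zpowers (x : G)).map φ.toMonoidHom = Y := by
    refine Subgroup.eq_of_le_of_card_ge ?_ (by
      rw [hY, Subgroup.card_map_of_injective hinj, Nat.card_zpowers, hx5'])
    rw [MonoidHom.map_zpowers, Subgroup.zpowers_le]
    show c * g⁻¹ * (x : G) * (c * g⁻¹)⁻¹ ∈ Y
    rw [show c * g⁻¹ * (x : G) * (c * g⁻¹)⁻¹ = c * (g⁻¹ * (x : G) * g) * c⁻¹ by group]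
    exact (Subgroup.zpowers_le.2 y.2) hc
  have hcentY : (Subgroup.centralizer ((Subgroup.zpowers (x : G) : Subgroup G) : Set G)).map
      φ.toMonoidHom = Subgroup.centralizer (Y : Set G) := by
    rw [map_centralizer_equiv, ← hφX]
    rfl
  have hnormY : (Subgroup.normalizer ((Subgroup.zpowers (x : G) : Subgroup G) : Set G)).map
      φ.toMonoidHom = Subgroup.normalizer (Y : Set G) := by
    rw [map_normalizer_equiv', hφX]
  have hI' := isInternalDirectProduct_map (φ := φ) hJd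
  rw [hφX, hcentY] at hI'
  obtain ⟨hR1', hR2', hRc'⟩ := frobenius_map (φ := φ) hR1 hR2 hRc
  rw [hφX] at hR1' hR2' hRc'
  refine ⟨h25, ⟨_, hI', hJe.congr (Subgroup.equivMapOfInjective J _ hinj)⟩,
    ⟨_, hR1', hR2', by rw [Subgroup.card_map_of_injective hinj, hR20], hRc'⟩, ?_⟩
  rw [← hnormY, Subgroup.card_map_of_injective hinj, hN5]
  norm_num

end CfsgLib.JFourSeven
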