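import Cfsg.Agent.JFourSeven.FiveLines

/-!
# Conjugates of `z` in the centralizer of an element of order five

All of them lie in `R`: an involution of `H ⊓ C(x)` outside `R` is conjugate to one fixed image of
`a`. Consequently there are exactly seven of them.
-/

set_option autoImplicit false
set_option linter.style.haveILetI false
set_option linter.unusedSectionVars false

namespace CfsgLib.JFourSeven

open Cfsg CfsgLib.JFourType CfsgLib.JFourType.Shape

variable {G : Type*} [Group G] [Finite G]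

/-- Two involutions that are not conjugate commute with a common involution. -/
theorem exists_common_invol {u v x : G} (hu : u * u = 1) (hv : v * v = 1)
    (hux : Commute u x) (hvx : Commute v x) (hne : ¬ IsConj u v) :
    ∃ i : G, i * i = 1 ∧ i ≠ 1 ∧ Commute i u ∧ Commute i v ∧ Commute i x := by
  have hinv : ∀ k : ℕ, u * (u * v) ^ k * u⁻¹ = ((u * v) ^ k)⁻¹ := fun k => by
    rw [← conj_pow, ← inv_pow]
    congr 1
    rw [mul_inv_rev, inv_eq_of_mul_eq_one_right hu, inv_eq_of_mul_eq_one_right hv]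
    rw [← mul_assoc, hu, one_mul]
  have hfin : 0 < orderOf (u * v) := (isOfFinOrder_of_finite _).orderOf_pos
  rcases Nat.even_or_odd' (orderOf (u * v)) with ⟨k, hk | hk⟩
  · refine ⟨(u * v) ^ k, ?_, ?_, ?_, ?_, (hux.mul_left hvx).pow_left k⟩
    · rw [← pow_add, ← two_mul, ← hk, pow_orderOf_eq_one]
    · exact pow_ne_one_of_lt_orderOf (by omega) (by omega)
    · have h := hinv k
      have hi : ((u * v) ^ k)⁻¹ = (u * v) ^ k := inv_eq_of_mul_eq_one_right (by
        rw [← pow_add, ← two_mul, ← hk, pow_orderOf_eq_one])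
      rw [hi] at h
      exact (mul_inv_eq_iff_eq_mul.1 h).symm
    · have h := hinv k
      have hi : ((u * v) ^ k)⁻¹ = (u * v) ^ k := inv_eq_of_mul_eq_one_right (by
        rw [← pow_add, ← two_mul, ← hk, pow_orderOf_eq_one])
      rw [hi] at h
      have h1 : Commute ((u * v) ^ k) u := (mul_inv_eq_iff_eq_mul.1 h).symm
      have h2 : Commute ((u * v) ^ k) (u * v) := (Commute.refl (u * v)).pow_left k
      have h3 := h1.inv_right.mul_right h2
      rwa [inv_mul_cancel_left] at h3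
  · refine absurd (isConj_iff.2 ⟨(u * v) ^ k, ?_⟩) hne
    have e1 : u * ((u * v) ^ k)⁻¹ = (u * v) ^ k * u := by
      rw [← hinv k, ← mul_assoc, ← mul_assoc, hu, one_mul, inv_eq_of_mul_eq_one_right hu]
    have e2 : (u * v) ^ k * (u * v) ^ k = v * u := by
      have : (u * v) ^ (2 * k + 1) = 1 := hk ▸ pow_orderOf_eq_one _
      rw [pow_succ, two_mul, pow_add] at this
      rw [eq_inv_of_mul_eq_one_left this, mul_inv_rev, inv_eq_of_mul_eq_one_right hu,
        inv_eq_of_mul_eq_one_right hv]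
    rw [mul_assoc, e1, ← mul_assoc, e2, mul_assoc, hu, mul_one]

namespace FiveFrame

variable {T : Shape G} {V K : Subgroup G} {x a τ a' : G} (F : FiveFrame T V K x a τ a')
include F

theorem z_sq {v : G} (hc : IsConj T.z v) : v * v = 1 := by
  obtain ⟨g, rfl⟩ := isConj_iff.1 hc
  rw [show g * T.z * g⁻¹ * (g * T.z * g⁻¹) = g * (T.z * T.z) * g⁻¹ by group, T.z_mul_z]
  group

/-- An image of `a` outside `R` with small centralizer in `R`. -/
theorem exists_outer : ∃ u : G, u ∈ T.H ∧ Commute u x ∧ u * u = 1 ∧ u ∉ T.E ∧ ¬ IsConj T.z u ∧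
    Nat.card ↥(Rx T x ⊓ Subgroup.centralizer ({u} : Set G)) ≤ 4 := by
  haveI : Fact (Nat.Prime 2) := ⟨Nat.prime_two⟩
  obtain ⟨m, hm, hmc⟩ := F.local_data.z_conj (mem_Rx.1 F.c_R).2 F.c_isConj
  set n := m⁻¹ with hn
  have hnN : n ∈ Subgroup.normalizer ((Subgroup.zpowers x : Subgroup G) : Set G) := inv_mem hm
  have hnc : n * (a * a') * n⁻¹ = T.z := by rw [← hmc, hn]; group
  set u := n * a * n⁻¹ with hu
  obtain ⟨haV, hax⟩ := F.local_data.mem_A.1 F.ha
  have hux : Commute u x := (norm_commute_iff hnN).2 hax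
  have huH : u ∈ T.H := T.mem_H.2 (by rw [hu, ← hnc]; exact (commute_conj_iff.2 F.ca).eq)
  have hu2 : u * u = 1 := by
    rw [hu, show n * a * n⁻¹ * (n * a * n⁻¹) = n * (a * a) * n⁻¹ by group,
      F.local_data.sq_one haV]
    group
  have hu1 : u ≠ 1 := fun e => F.ha1 (conj_eq_one_iff.1 e)
  have hut : ¬ IsConj T.z u := fun hc =>
    F.not_z_a (hc.trans (isConj_iff.2 ⟨n, rfl⟩).symm)
  set b := T.p ^ 1 * a * (T.p ^ 1)⁻¹ with hb
  obtain ⟨hbV, hbx⟩ := F.local_data.mem_A.1 (F.local_data.p_conj_mem F.ha 1)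
  have huE : u ∉ T.E := fun hE => by
    rcases F.classify (mem_Rx.2 ⟨hE, hux⟩) hu2 with e | e | ⟨w, hw, hwx, e⟩ | ⟨j, -, e | e⟩
    · exact hu1 e
    · exact hut (e ▸ IsConj.refl T.z)
    · set y := n * b * n⁻¹ with hy
      have hyx : Commute y x := (norm_commute_iff hnN).2 hbx
      have hyu : Commute y u := commute_conj_iff.2 (F.local_data.comm_V hbV haV)
      have hy0x : Commute (w⁻¹ * y * w) x := (hwx.inv_left.mul_left hyx).mul_left hwx
      have hy0a : Commute (w⁻¹ * y * w) a := by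
        have := (commute_conj_iff (n := w⁻¹)).2 hyu
        rwa [← e, show w⁻¹ * (w * a * w⁻¹) * w⁻¹⁻¹ = a by group, inv_inv] at this
      have hyH : y ∈ T.H := by
        have := mul_mem (mul_mem hw (F.local_data.cent_ax_le_H F.ha F.ha1 F.haz hy0x hy0a))
          (inv_mem hw)
        simpa [mul_assoc] using this
      have hyz : Commute y T.z := T.mem_H.1 hyH
      rw [hy, ← hnc] at hyz
      exact F.c_not_comm (commute_conj_iff.1 hyz)
    · exact hut (e ▸ (F.cj_isConj j).1)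
    · exact hut (e ▸ (F.cj_isConj j).2)
  refine ⟨u, huH, hux, hu2, huE, hut, ?_⟩
  set Q := Rx T x ⊓ Subgroup.centralizer ({u} : Set G) with hQ
  set Z := Subgroup.zpowers u with hZ
  have hZn : Z ≤ Subgroup.normalizer (Q : Set G) := by
    rw [hZ, Subgroup.zpowers_le]
    refine Subgroup.mem_normalizer_iff.2 fun r => ?_
    have key : ∀ s ∈ Q, u * s * u⁻¹ ∈ Q := fun s hs => by
      obtain ⟨hsR, hsu⟩ := Subgroup.mem_inf.1 hs
      rw [Subgroup.mem_centralizer_singleton_iff] at hsu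
      rw [← hsu, mul_inv_cancel_right]
      exact hs
    refine ⟨key r, fun h' => ?_⟩
    have := key _ h'
    rwa [inv_eq_of_mul_eq_one_right hu2, show u * (u * r * u) * u = (u * u) * r * (u * u) by group,
      hu2, one_mul, mul_one] at this
  have hdisj : Z ⊓ Q = ⊥ := by
    refine (Subgroup.eq_bot_iff_forall _).2 fun s hs => ?_
    obtain ⟨hsZ, hsQ⟩ := Subgroup.mem_inf.1 hs
    obtain ⟨j, rfl⟩ := hsZ
    rcases Int.even_or_odd' j with ⟨k, rfl | rfl⟩
    · show u ^ (2 * k) = 1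
      rw [zpow_mul, zpow_ofNat, pow_two, hu2, one_zpow]
    · exfalso
      apply huE
      have h' : u ^ (2 * k + 1) ∈ Q := hsQ
      rw [zpow_add, zpow_mul, zpow_ofNat, pow_two, hu2, one_zpow, zpow_one, one_mul] at h'
      exact (mem_Rx.1 (Subgroup.mem_inf.1 h').1).1
  have hcard := card_cent_split hZn hdisj (one_mem Z)
  have e1 : Subgroup.centralizer ({(1 : G)} : Set G) = ⊤ :=
    eq_top_iff.2 fun g _ => Subgroup.mem_centralizer_singleton_iff.2 (by simp)
  rw [e1, inf_top_eq, inf_top_eq, inf_top_eq, hZ, Nat.card_zpowers,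
    orderOf_eq_prime ((pow_two u).trans hu2) hu1] at hcard
  set S3 := Subgroup.centralizer ({x} : Set G) ⊓ Subgroup.centralizer ({a} : Set G) ⊓
    Subgroup.centralizer ({a * a'} : Set G) with hS3
  have hle : (Q ⊔ Z).map (MulAut.conj n⁻¹).toMonoidHom ≤ S3 := by
    rintro _ ⟨s, hs, rfl⟩
    have hmem : s ∈ Subgroup.centralizer ({x} : Set G) ⊓ Subgroup.centralizer ({u} : Set G) ⊓
        Subgroup.centralizer ({T.z} : Set G) := by
      refine (show Q ⊔ Z ≤ _ from sup_le (fun r hr => ?_) ?_) hs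
      · obtain ⟨hrR, hru⟩ := Subgroup.mem_inf.1 hr
        exact Subgroup.mem_inf.2 ⟨Subgroup.mem_inf.2
          ⟨Subgroup.mem_centralizer_singleton_iff.2 (mem_Rx.1 hrR).2.eq, hru⟩,
          Subgroup.mem_centralizer_singleton_iff.2 (F.z_R hrR).eq⟩
      · rw [hZ, Subgroup.zpowers_le]
        exact Subgroup.mem_inf.2 ⟨Subgroup.mem_inf.2
          ⟨Subgroup.mem_centralizer_singleton_iff.2 hux.eq,
            Subgroup.mem_centralizer_singleton_iff.2 rfl⟩, huH⟩
    obtain ⟨h12, hz'⟩ := Subgroup.mem_inf.1 hmem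
    obtain ⟨h1, h2⟩ := Subgroup.mem_inf.1 h12
    rw [Subgroup.mem_centralizer_singleton_iff] at h1 h2 hz'
    show n⁻¹ * s * n⁻¹⁻¹ ∈ S3
    refine Subgroup.mem_inf.2 ⟨Subgroup.mem_inf.2
      ⟨Subgroup.mem_centralizer_singleton_iff.2 ((norm_commute_iff (inv_mem hnN)).2 h1).eq,
        Subgroup.mem_centralizer_singleton_iff.2 ?_⟩,
      Subgroup.mem_centralizer_singleton_iff.2 ?_⟩
    · have := (commute_conj_iff (n := n⁻¹)).2 h2
      rw [hu, show n⁻¹ * (n * a * n⁻¹) * n⁻¹⁻¹ = a by group] at this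
      exact this.eq
    · have := (commute_conj_iff (n := n⁻¹)).2 hz'
      rw [← hnc, show n⁻¹ * (n * (a * a') * n⁻¹) * n⁻¹⁻¹ = a * a' by group] at this
      exact this.eq
  have hd := Subgroup.card_dvd_of_le hle
  rw [Subgroup.card_map_of_injective (f := (MulAut.conj n⁻¹).toMonoidHom)
    (MulAut.conj n⁻¹).injective, ← hcard] at hd
  have h80 := F.local_data.card_cent_ax F.ha F.ha1 F.haz
  have hS3d : Nat.card ↥S3 ∣ 80 := h80 ▸ Subgroup.card_dvd_of_le inf_le_left
  have hS5 : 5 ∣ Nat.card ↥S3 := by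
    rw [← F.local_data.h5]
    refine Subgroup.orderOf_dvd_natCard _ (Subgroup.mem_inf.2 ⟨Subgroup.mem_inf.2
      ⟨Subgroup.mem_centralizer_singleton_iff.2 rfl,
        Subgroup.mem_centralizer_singleton_iff.2 hax.eq.symm⟩,
      Subgroup.mem_centralizer_singleton_iff.2 (mem_Rx.1 F.c_R).2.eq.symm⟩)
  have hne : Nat.card ↥S3 ≠ 80 := fun e => by
    have heq : S3 = Subgroup.centralizer ({x} : Set G) ⊓ Subgroup.centralizer ({a} : Set G) :=
      Subgroup.eq_of_le_of_card_ge inf_le_left (by rw [h80, e])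
    have hbS : b ∈ S3 := by
      rw [heq]
      exact Subgroup.mem_inf.2 ⟨Subgroup.mem_centralizer_singleton_iff.2 hbx.eq,
        Subgroup.mem_centralizer_singleton_iff.2 (F.local_data.comm_V hbV haV).eq⟩
    exact F.c_not_comm (Subgroup.mem_centralizer_singleton_iff.1 (Subgroup.mem_inf.1 hbS).2)
  obtain ⟨i, -, hi⟩ := (Nat.dvd_prime_pow Nat.prime_two).1
    (T.card_E ▸ Subgroup.card_dvd_of_le (inf_le_left.trans inf_le_left : Q ≤ T.E))
  obtain ⟨k, hk⟩ := hS5
  rw [hk] at hS3d hne hd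
  have hk16 : k ∣ 16 := (Nat.mul_dvd_mul_iff_left (by norm_num : 0 < 5)).1 hS3d
  have hk8 : k ∣ 8 := by
    have hkle : k ≤ 16 := Nat.le_of_dvd (by norm_num) hk16
    interval_cases k <;> first | omega | norm_num at hk16 ⊢
  rw [hi, ← pow_succ] at hd
  have hd8 : 2 ^ (i + 1) ∣ 8 := by
    refine (Nat.Coprime.dvd_mul_left ?_).1 (hd.trans (mul_dvd_mul_left 5 hk8))
    exact Nat.Coprime.pow_left _ (by norm_num)
  rw [hi]
  have := Nat.le_of_dvd (by norm_num) hd8
  rw [pow_succ] at this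
  omega

theorem conj_u_p {u : G} (huH : u ∈ T.H) (hux : Commute u x) (hu2 : u * u = 1) (huE : u ∉ T.E)
    {v : G} (hvH : v ∈ T.H) (hvx : Commute v x) (hv2 : v * v = 1) (hvE : v ∉ T.E) :
    ∃ i : ℕ, T.p ^ i * v * (T.p ^ i)⁻¹ * u ∈ T.E := by
  have h1 := piv_mul_of_not_mem F.local_data.hx F.local_data.h5 hvH hvx (hv2 ▸ one_mem _) hvE
    huH hux (hu2 ▸ one_mem _) huE
  obtain ⟨e0, he0, k, hk⟩ := (piv_eq_one (mul_mem hvH huH)).1 h1
  have huinv := inverts_p_of_not_mem F.local_data.hx F.local_data.h5 huH hux (hu2 ▸ one_mem _) huE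
  set e1 := u * T.p * u⁻¹ * T.p with he1
  have key : ∀ i : ℕ, ∃ e ∈ T.E, T.p ^ i * v * (T.p ^ i)⁻¹ * u = e * T.p ^ (k + 2 * i) := by
    intro i
    induction i with
    | zero => exact ⟨e0, he0, by rw [pow_zero, one_mul, inv_one, mul_one, mul_zero, add_zero, hk]⟩
    | succ i ih =>
      obtain ⟨e, he, heq⟩ := ih
      refine ⟨T.p * e * T.p⁻¹ * (T.p ^ (k + 2 * (i + 1)) * e1⁻¹ * (T.p ^ (k + 2 * (i + 1)))⁻¹),
        mul_mem (T.conj_mem T.p_mem_H he) (T.conj_mem (T.p_pow_mem _) (inv_mem huinv)), ?_⟩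
      have e2 : u⁻¹ * T.p⁻¹ * u = T.p * e1⁻¹ := by
        rw [he1, inv_eq_of_mul_eq_one_right hu2]
        calc u * T.p⁻¹ * u = u⁻¹ * T.p⁻¹ * u⁻¹ := by rw [inv_eq_of_mul_eq_one_right hu2]
          _ = T.p * (u * T.p * u * T.p)⁻¹ := by group
      calc T.p ^ (i + 1) * v * (T.p ^ (i + 1))⁻¹ * u
          = T.p * (T.p ^ i * v * (T.p ^ i)⁻¹ * u) * (u⁻¹ * T.p⁻¹ * u) := by rw [pow_succ']; group
        _ = T.p * (e * T.p ^ (k + 2 * i)) * (T.p * e1⁻¹) := by rw [heq, e2]
        _ = _ := by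
          rw [show k + 2 * (i + 1) = 1 + (k + 2 * i) + 1 by ring, pow_add, pow_add, pow_one]
          group
  obtain ⟨e, he, heq⟩ := key k
  refine ⟨k, ?_⟩
  rw [heq, show k + 2 * k = 3 * k by ring, pow_mul, T.p_pow_three, one_pow, mul_one]
  exact he

/-- Every conjugate of `z` commuting with `z` and `x` lies in `R`. -/
theorem z_in_R {v : G} (hvH : v ∈ T.H) (hvx : Commute v x) (hvz : IsConj T.z v) :
    v ∈ Rx T x := by
  by_contra hvR
  have hvE : v ∉ T.E := fun hE => hvR (mem_Rx.2 ⟨hE, hvx⟩)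
  obtain ⟨u, huH, hux, hu2, huE, hut, hQ⟩ := F.exists_outer
  obtain ⟨i, hi⟩ := F.conj_u_p huH hux hu2 huE hvH hvx (F.z_sq hvz) hvE
  set w := T.p ^ i * v * (T.p ^ i)⁻¹ with hw
  have hwz : IsConj T.z w := hvz.trans (isConj_iff.2 ⟨_, rfl⟩)
  have hpix := F.local_data.comm_px.pow_left i
  have hwx : Commute w x := (hpix.mul_left hvx).mul_left hpix.inv_left
  have huinv : u⁻¹ = u := inv_eq_of_mul_eq_one_right hu2
  set S := {r : G | r ∈ Rx T x ∧ r * u * (r * u) = 1} with hS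
  set Q := Rx T x ⊓ Subgroup.centralizer ({u} : Set G) with hQdef
  have hflip : ∀ r ∈ S, u * r * u⁻¹ = r ∨ u * r * u⁻¹ = T.z * r := fun r hr => by
    have e : u * r * u⁻¹ = r⁻¹ := by
      rw [huinv]
      exact eq_inv_of_mul_eq_one_right (by rw [← hr.2]; group)
    rcases T.sub.sq_eq (mem_Rx.1 hr.1).1 with h | h
    · exact .inl (e.trans (inv_eq_of_mul_eq_one_right h))
    · refine .inr (e.trans (inv_eq_of_mul_eq_one_right ?_))
      rw [← mul_assoc, (F.z_R hr.1).eq, mul_assoc, h, T.z_mul_z]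
  have hQset : ((Q : Subgroup G) : Set G).ncard = Nat.card Q := (Nat.card_coe_set_eq _).symm
  have hS8 : S.ncard ≤ 8 := by
    by_cases hex : ∃ r0 ∈ S, u * r0 * u⁻¹ = T.z * r0
    · obtain ⟨r0, hr0, e0⟩ := hex
      have hsub : S ⊆ (Q : Set G) ∪ (fun q => r0 * q) '' (Q : Set G) := fun r hr => by
        rcases hflip r hr with e | e
        · exact .inl (Subgroup.mem_inf.2 ⟨hr.1,
            Subgroup.mem_centralizer_singleton_iff.2 (mul_inv_eq_iff_eq_mul.1 e).symm⟩)
        · refine .inr ⟨r0⁻¹ * r, Subgroup.mem_inf.2 ⟨mul_mem (inv_mem hr0.1) hr.1,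
            Subgroup.mem_centralizer_singleton_iff.2 ?_⟩, by simp⟩
          refine (mul_inv_eq_iff_eq_mul.1 ?_).symm
          calc u * (r0⁻¹ * r) * u⁻¹ = (u * r0 * u⁻¹)⁻¹ * (u * r * u⁻¹) := by group
            _ = r0⁻¹ * r := by rw [e0, e, mul_inv_rev]; group
      refine (Set.ncard_le_ncard hsub (Set.toFinite _)).trans ((Set.ncard_union_le _ _).trans ?_)
      have := Set.ncard_image_le (f := fun q => r0 * q) (Set.toFinite (Q : Set G))
      omega
    · push Not at hex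
      have hsub : S ⊆ (Q : Set G) := fun r hr =>
        Subgroup.mem_inf.2 ⟨hr.1, Subgroup.mem_centralizer_singleton_iff.2
          (mul_inv_eq_iff_eq_mul.1 ((hflip r hr).resolve_right (hex r hr))).symm⟩
      have := Set.ncard_le_ncard hsub (Set.toFinite _)
      omega
  set O := {y : G | ∃ r ∈ Rx T x, r * u * r⁻¹ = y} with hO
  have hOc : O.ncard * Nat.card Q = 32 := by
    rw [hO, hQdef, ncard_orbit_mul_card, F.local_data.card_R]
  have hO8 : 8 ≤ O.ncard := by
    have := Nat.mul_le_mul (le_refl O.ncard) hQ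
    omega
  have himg : (fun y => y * u) '' O ⊆ S := by
    rintro _ ⟨_, ⟨r, hr, rfl⟩, rfl⟩
    refine ⟨?_, ?_⟩
    · show r * u * r⁻¹ * u ∈ Rx T x
      have := mul_mem hr (F.local_data.conj_R_mem huH hux (inv_mem hr))
      rwa [huinv, show r * (u * r⁻¹ * u) = r * u * r⁻¹ * u by group] at this
    · show r * u * r⁻¹ * u * u * (r * u * r⁻¹ * u * u) = 1
      rw [mul_assoc (r * u * r⁻¹), hu2, mul_one,
        show r * u * r⁻¹ * (r * u * r⁻¹) = r * (u * u) * r⁻¹ by group, hu2]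
      group
  have heq : (fun y => y * u) '' O = S := Set.eq_of_subset_of_ncard_le himg (by
    rw [Set.ncard_image_of_injective _ (mul_left_injective u)]
    omega) (Set.toFinite _)
  have hwS : w * u ∈ S := ⟨mem_Rx.2 ⟨hi, hwx.mul_left hux⟩, by
    rw [mul_assoc w u u, hu2, mul_one]
    exact F.z_sq hwz⟩
  rw [← heq] at hwS
  obtain ⟨y, ⟨r, -, rfl⟩, hy⟩ := hwS
  have e : r * u * r⁻¹ = w := mul_right_cancel hy
  exact hut (hwz.trans (isConj_iff.2 ⟨r, e⟩).symm)

/-- Two conjugates of `z` in `C(x)` commuting with a third one commute. -/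
theorem zz_trans {u v y : G} (hux : Commute u x) (huz : IsConj T.z u) (hvx : Commute v x)
    (hvz : IsConj T.z v) (hyx : Commute y x) (hyz : IsConj T.z y) (huy : Commute u y)
    (hvy : Commute v y) : Commute u v := by
  obtain ⟨n, hn, rfl⟩ := F.local_data.z_conj hyx hyz
  have key : ∀ w, Commute w x → IsConj T.z w → Commute w (n * T.z * n⁻¹) →
      n⁻¹ * w * n ∈ Rx T x ∧ IsConj T.z (n⁻¹ * w * n) := fun w hwx hwz hwy => by
    have e : IsConj T.z (n⁻¹ * w * n) := hwz.trans (isConj_iff.2 ⟨n⁻¹, by group⟩)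
    refine ⟨F.z_in_R (T.mem_H.2 ?_) ?_ e, e⟩
    · have := (commute_conj_iff (n := n⁻¹)).2 hwy
      rw [show n⁻¹ * (n * T.z * n⁻¹) * n⁻¹⁻¹ = T.z by group, inv_inv] at this
      exact this.eq
    · have := (norm_commute_iff (w := w) (inv_mem hn)).2 hwx
      rwa [inv_inv] at this
  obtain ⟨hu', hu''⟩ := key u hux huz huy
  obtain ⟨hv', hv''⟩ := key v hvx hvz hvy
  have := (commute_conj_iff (n := n)).2 (F.zR_comm hu' hu'' hv' hv'')
  rwa [show n * (n⁻¹ * u * n) * n⁻¹ = u by group, show n * (n⁻¹ * v * n) * n⁻¹ = v by group] at this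

/-- All conjugates of `z` in `C(x)` lie in `R`. -/
theorem z_all {v : G} (hvx : Commute v x) (hvz : IsConj T.z v) : v ∈ Rx T x := by
  obtain ⟨haV, hax⟩ := F.local_data.mem_A.1 F.ha
  obtain ⟨i, hi2, hi1, hia, hiv, hix⟩ := exists_common_invol
    (F.local_data.sq_one haV) (F.z_sq hvz) hax hvx fun hc => F.not_z_a (hvz.trans hc.symm)
  have hiR : i ∈ Rx T x := F.local_data.invol_mem_R F.ha F.ha1 F.haz hix hia hi2
  refine F.z_in_R (T.mem_H.2 ?_) hvx hvz
  show Commute v T.z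
  by_cases hiz : IsConj T.z i
  · exact F.zz_trans hvx hvz F.local_data.zx (IsConj.refl _) hix hiz hiv.symm (F.z_R hiR).symm
  rcases F.classify hiR hi2 with e | e | ⟨w, hw, hwx, e⟩ | ⟨j, -, e | e⟩
  · exact absurd e hi1
  · exact absurd (e ▸ IsConj.refl T.z) hiz
  · subst e
    have h0a : Commute (w⁻¹ * v * w) a := by
      have := (commute_conj_iff (n := w⁻¹)).2 hiv.symm
      rwa [show w⁻¹ * (w * a * w⁻¹) * w⁻¹⁻¹ = a by group, inv_inv] at this
    have h0x : Commute (w⁻¹ * v * w) x := (hwx.inv_left.mul_left hvx).mul_left hwx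
    have h02 : w⁻¹ * v * w * (w⁻¹ * v * w) = 1 := by
      rw [show w⁻¹ * v * w * (w⁻¹ * v * w) = w⁻¹ * (v * v) * w by group, F.z_sq hvz]; group
    have hv0 := F.local_data.invol_mem_R F.ha F.ha1 F.haz h0x h0a h02
    have hwz : Commute w T.z := T.mem_H.1 hw
    have := (hwz.mul_left (F.z_R hv0)).mul_left hwz.inv_left
    rwa [show w * (w⁻¹ * v * w) * w⁻¹ = v by group] at this
  · exact absurd (e ▸ (F.cj_isConj j).1) hiz
  · exact absurd (e ▸ (F.cj_isConj j).2) hiz

end FiveFrame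

end CfsgLib.JFourSeven
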