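import Cfsg.Agent.JFourSeven.FiveCore
import Cfsg.Agent.LargeFischer.EightAut
import Cfsg.Prelude.Def_TwoFusion

/-!
# The non-split extension in the centralizer, and the Frobenius group of order twenty
-/

set_option autoImplicit false
set_option linter.style.haveILetI false
set_option linter.unusedSectionVars false

namespace CfsgLib.JFourSeven

open Cfsg CfsgLib.JFourType CfsgLib.JFourType.Shape

/-- A non-split extension of an elementary abelian group of order eight by `L₃(2)`. -/
def IsExtEight (J : Type*) [Group J] : Prop :=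
  ∃ (E : Subgroup J) (_ : E.Normal), Cfsg.IsElementaryAbelian 2 E ∧ Nat.card ↥E = 8 ∧
    Nonempty (J ⧸ E ≃* Matrix.SpecialLinearGroup (Fin 3) (ZMod 2)) ∧
    ∀ K : Subgroup J, ¬ E.IsComplement' K

theorem IsExtEight.congr {J J' : Type*} [Group J] [Group J'] (e : J ≃* J') (h : IsExtEight J) :
    IsExtEight J' := by
  obtain ⟨E, hE, ⟨hc, he2⟩, hcard, ⟨q⟩, hK⟩ := h
  have hn : (E.map e.toMonoidHom).Normal := hE.map _ e.surjective
  refine ⟨E.map e.toMonoidHom, hn, ⟨?_, ?_⟩, ?_, ⟨?_⟩, fun K hK' => hK (K.map e.symm.toMonoidHom) ?_⟩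
  · refine ⟨⟨?_⟩⟩
    rintro ⟨_, u, hu, rfl⟩ ⟨_, v, hv, rfl⟩
    refine Subtype.ext ?_
    show e u * e v = e v * e u
    have := congrArg Subtype.val (mul_comm' (⟨u, hu⟩ : E) ⟨v, hv⟩)
    rw [← map_mul, ← map_mul]
    exact congrArg e this
  · rintro _ ⟨u, hu, rfl⟩
    show e u ^ 2 = 1
    rw [← map_pow, he2 u hu, map_one]
  · rw [Subgroup.card_map_of_injective (f := e.toMonoidHom) e.injective, hcard]
  · exact (QuotientGroup.congr E (E.map e.toMonoidHom) e rfl).symm.trans q
  · refine Subgroup.isComplement'_of_disjoint_and_mul_eq_univ (Subgroup.disjoint_def.2 ?_)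
      (Set.eq_univ_of_forall fun g => ?_)
    · intro g hg hg'
      obtain ⟨k, hk, rfl⟩ := hg'
      have h1 : k = 1 :=
        Subgroup.disjoint_def.1 hK'.disjoint ⟨e.symm k, hg, e.apply_symm_apply k⟩ hk
      rw [h1]
      exact map_one _
    · obtain ⟨⟨⟨u, hu⟩, ⟨k, hk⟩⟩, huk⟩ := hK'.2 (e g)
      obtain ⟨u0, hu0, rfl⟩ := hu
      refine ⟨u0, hu0, e.symm k, ⟨k, hk, rfl⟩, ?_⟩
      show u0 * e.symm k = g
      apply e.injective
      rw [map_mul, e.apply_symm_apply]
      exact huk

variable {G : Type*} [Group G] [Finite G]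

theorem centralizer_zpowers_five (x : G) :
    Subgroup.centralizer ((Subgroup.zpowers x : Subgroup G) : Set G) =
      Subgroup.centralizer ({x} : Set G) := by
  rw [Subgroup.zpowers_eq_closure, Subgroup.centralizer_closure]

/-- A group whose order is divisible by five only once beside the given element. -/
theorem not_twentyfive {x : G} (h5 : orderOf x = 5)
    (hC : ¬ 25 ∣ Nat.card (Subgroup.centralizer ({x} : Set G))) : ¬ 25 ∣ Nat.card G := fun hd => by
  haveI : Fact (Nat.Prime 5) := ⟨by norm_num⟩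
  obtain ⟨W, hW, hxW⟩ := Sylow.exists_subgroup_card_pow_succ (G := G) (p := 5) (n := 1)
    (by norm_num; exact hd) (H := Subgroup.zpowers x) (by rw [Nat.card_zpowers, h5, pow_one])
  have hW' : Nat.card W = 5 ^ 2 := hW
  have hle : W ≤ Subgroup.centralizer ({x} : Set G) := fun w hw => by
    rw [Subgroup.mem_centralizer_singleton_iff]
    exact congrArg Subtype.val ((IsPGroup.commGroupOfCardEqPrimeSq (p := 5) hW').mul_comm
      ⟨w, hw⟩ ⟨x, hxW (Subgroup.mem_zpowers x)⟩)
  have := Subgroup.card_dvd_of_le hle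
  rw [hW'] at this
  exact hC this

/-- The Frobenius group of order twenty. -/
theorem exists_frobenius {x g : G} (h5 : orderOf x = 5) (hg : g * x * g⁻¹ = x ^ 2)
    (hg4 : g ^ 4 = 1) :
    ∃ R : Subgroup G, Subgroup.zpowers x ≤ R ∧
      R ≤ Subgroup.normalizer ((Subgroup.zpowers x : Subgroup G) : Set G) ∧ Nat.card ↥R = 20 ∧
      R ⊓ Subgroup.centralizer ((Subgroup.zpowers x : Subgroup G) : Set G) = Subgroup.zpowers x := by
  haveI : Fact (Nat.Prime 2) := ⟨Nat.prime_two⟩
  set X := Subgroup.zpowers x with hX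
  set Z := Subgroup.zpowers g with hZ
  have hxX : x ∈ X := Subgroup.mem_zpowers x
  have hgN : g ∈ Subgroup.normalizer ((X : Subgroup G) : Set G) :=
    mem_normalizer_zpowers (hg ▸ Subgroup.pow_mem _ (Subgroup.mem_zpowers x) 2)
  have hord : orderOf g = 4 := by
    refine orderOf_eq_prime_pow (p := 2) (n := 1) (fun h2 => ?_) hg4
    rw [pow_one] at h2
    have e := conj_pow_two_iter hg 2
    rw [h2, one_mul, inv_one, mul_one] at e
    have e' : x ^ 1 = x ^ 2 ^ 2 := (pow_one x).trans e
    rw [pow_inj_mod, h5] at e'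
    norm_num at e'
  have hcomm : ∀ y ∈ Z, Commute y x → y = 1 := fun y hy hc => by
    obtain ⟨j, rfl⟩ := (isOfFinOrder_of_finite g).mem_powers_iff_mem_zpowers.2 hy
    have hc' : Commute (g ^ j) x := hc
    show g ^ j = 1
    have e := conj_pow_two_iter hg j
    rw [hc'.eq, mul_inv_cancel_right] at e
    have e' : x ^ 1 = x ^ 2 ^ j := (pow_one x).trans e
    rw [pow_inj_mod, h5] at e'
    have h4 : j % 4 = 0 := by
      rw [← Nat.div_add_mod j 4, pow_add, pow_mul, Nat.mul_mod, Nat.pow_mod] at e'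
      norm_num at e'
      have : j % 4 < 4 := Nat.mod_lt _ (by norm_num)
      interval_cases h : j % 4 <;> first | rfl | (exfalso; revert e'; decide)
    rw [← pow_mod_orderOf, hord, h4, pow_zero]
  have hxc : ∀ y ∈ X, Commute y x := fun y hy => by
    obtain ⟨i, rfl⟩ := hy
    exact (Commute.refl x).zpow_left i
  have hdisj : Z ⊓ X = ⊥ := (Subgroup.eq_bot_iff_forall _).2 fun y hy => by
    obtain ⟨h1, h2⟩ := Subgroup.mem_inf.1 hy
    exact hcomm y h1 (hxc y h2)
  have hcard := card_cent_split (V := X) (K := Z) (Subgroup.zpowers_le.2 hgN) hdisj (one_mem Z)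
  have e1 : Subgroup.centralizer ({(1 : G)} : Set G) = ⊤ :=
    eq_top_iff.2 fun g _ => Subgroup.mem_centralizer_singleton_iff.2 (by simp)
  rw [e1, inf_top_eq, inf_top_eq, inf_top_eq, hX, hZ, Nat.card_zpowers, Nat.card_zpowers, h5,
    hord] at hcard
  refine ⟨X ⊔ Z, le_sup_left, sup_le Subgroup.le_normalizer (Subgroup.zpowers_le.2 hgN), hcard.symm,
    le_antisymm (fun y hy => ?_) (le_inf le_sup_left fun y hy => ?_)⟩
  · obtain ⟨h1, h2⟩ := Subgroup.mem_inf.1 hy
    rw [← SetLike.mem_coe,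
      Subgroup.coe_mul_of_right_le_normalizer_left X Z (Subgroup.zpowers_le.2 hgN)] at h1
    obtain ⟨u, hu, w, hw, rfl⟩ := h1
    have hc : Commute (u * w) x := (Subgroup.mem_centralizer_iff.1 h2 x hxX).symm
    have hwx : Commute w x := by
      have := (hxc u hu).inv_left.mul_left hc
      rwa [inv_mul_cancel_left] at this
    show u * w ∈ X
    rw [hcomm w hw hwx, mul_one]
    exact hu
  · rw [centralizer_zpowers_five, Subgroup.mem_centralizer_singleton_iff]
    exact (hxc y hy).eq

namespace FiveFrame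

variable {T : Shape G} {V K : Subgroup G} {x a τ a' : G} (F : FiveFrame T V K x a τ a')
include F

theorem exists_J : ∃ J : Subgroup G, IsInternalDirectProduct (Subgroup.zpowers x) J
    (Subgroup.centralizer ((Subgroup.zpowers x : Subgroup G) : Set G)) ∧ IsExtEight ↥J := by
  haveI : Fact (Nat.Prime 2) := ⟨Nat.prime_two⟩
  obtain ⟨B, hB, hB8, hBsq, hBc⟩ := F.exists_B
  have hD := F.card_D hB hB8
  rw [centralizer_zpowers_five]
  set D := Subgroup.centralizer ({x} : Set G) with hDdef
  have hxD : Subgroup.zpowers x ≤ D :=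
    Subgroup.zpowers_le.2 (Subgroup.mem_centralizer_singleton_iff.2 rfl)
  set X0 := (Subgroup.zpowers x).subgroupOf D with hX0
  have hXc : ∀ c ∈ Subgroup.zpowers x, ∀ d ∈ D, Commute c d := by
    rintro c ⟨j, rfl⟩ d hd
    exact ((show Commute d x from Subgroup.mem_centralizer_singleton_iff.1 hd).zpow_right j).symm
  haveI : X0.Normal := ⟨fun c hc g => by
    have e : g * c * g⁻¹ = c := Subtype.ext (by
      show (g : G) * c * (g : G)⁻¹ = c
      rw [← (hXc c (Subgroup.mem_subgroupOf.1 hc) g g.2).eq, mul_inv_cancel_right])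
    rw [e]
    exact hc⟩
  have hX5 : Nat.card X0 = 5 := by
    rw [hX0, Nat.card_congr (Subgroup.subgroupOfEquivOfLe hxD).toEquiv, Nat.card_zpowers,
      F.local_data.h5]
  obtain ⟨J0, hJ0⟩ := Subgroup.exists_right_complement'_of_coprime (N := X0) (by
    have := X0.card_mul_index
    rw [hX5, hD] at this
    rw [hX5, show X0.index = 1344 by omega]
    norm_num)
  set J := J0.map D.subtype with hJ
  have hJD : J ≤ D := Subgroup.map_subtype_le _
  have hJc : Nat.card J = 1344 := by
    rw [hJ, Subgroup.card_map_of_injective D.subtype_injective]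
    have := hJ0.card_mul
    rw [hX5, hD] at this
    omega
  have hdisj : ∀ y ∈ Subgroup.zpowers x, y ∈ J → y = 1 := by
    rintro y hy ⟨d, hd, rfl⟩
    have := Subgroup.disjoint_def.1 hJ0.disjoint (Subgroup.mem_subgroupOf.2 hy) hd
    rw [this]
    rfl
  have hdec : ∀ d ∈ D, ∃ c ∈ Subgroup.zpowers x, ∃ j ∈ J, d = c * j := fun d hd => by
    obtain ⟨⟨⟨c, hc⟩, ⟨j, hj⟩⟩, e⟩ := hJ0.2 ⟨d, hd⟩
    exact ⟨c, Subgroup.mem_subgroupOf.1 hc, j, ⟨j, hj, rfl⟩, (congrArg Subtype.val e).symm⟩
  have hx5 : ∀ c ∈ Subgroup.zpowers x, c ^ 5 = 1 := fun c hc => by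
    have := pow_card_eq_one' (x := (⟨c, hc⟩ : Subgroup.zpowers x))
    rw [Nat.card_zpowers, F.local_data.h5] at this
    exact congrArg Subtype.val this
  have hBD : ∀ v ∈ B, v ∈ D := fun v hv =>
    Subgroup.mem_centralizer_singleton_iff.2 ((F.mem_B_iff hB).1 hv).1.eq
  have hBJ : B ≤ J := fun v hv => by
    obtain ⟨c, hc, j, hj, rfl⟩ := hdec v (hBD v hv)
    have hc2 : c ^ 2 = 1 := by
      have h := hBsq _ hv
      rw [← pow_two, (hXc c hc j (hJD hj)).mul_pow] at h
      exact hdisj _ (pow_mem hc 2)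
        (by rw [eq_inv_of_mul_eq_one_left h]; exact inv_mem (pow_mem hj 2))
    have hc1 : c = 1 := by simpa using pow_gcd_eq_one.2 ⟨hx5 c hc, hc2⟩
    rwa [hc1, one_mul]
  set B' := B.subgroupOf J with hB'
  have hB'8 : Nat.card B' = 8 := by
    rw [hB', Nat.card_congr (Subgroup.subgroupOfEquivOfLe hBJ).toEquiv, hB8]
  haveI hB'n : B'.Normal := ⟨fun v hv j => Subgroup.mem_subgroupOf.2 (by
    obtain ⟨hvx, hvz⟩ := (F.mem_B_iff hB).1 (Subgroup.mem_subgroupOf.1 hv)
    have hjx : Commute (j : G) x := Subgroup.mem_centralizer_singleton_iff.1 (hJD j.2)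
    refine (F.mem_B_iff hB).2 ⟨(hjx.mul_left hvx).mul_left hjx.inv_left, ?_⟩
    rcases hvz with e | e
    · left
      show (j : G) * (v : G) * (j : G)⁻¹ = 1
      rw [e]; group
    · exact .inr (e.trans (isConj_iff.2 ⟨(j : G), rfl⟩)))⟩
  have hcomm : ∀ u w : B', u * w = w * u := fun u w => Subtype.ext (Subtype.ext
    (hBc _ (Subgroup.mem_subgroupOf.1 u.2) _ (Subgroup.mem_subgroupOf.1 w.2)).eq)
  have hsq : ∀ u : B', u ^ 2 = 1 := fun u => Subtype.ext (Subtype.ext (by
    show ((u : J) : G) ^ 2 = 1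
    rw [pow_two]
    exact hBsq _ (Subgroup.mem_subgroupOf.1 u.2)))
  obtain ⟨h168, -, ⟨eSL⟩⟩ := CfsgLib.LargeFischer.mulAut_eight hcomm hsq hB'8
  let φ : J →* MulAut B' := MulAut.conjNormal
  have hker : φ.ker = B' := by
    ext j
    constructor
    · intro hj
      have hjx : Commute (j : G) x := Subgroup.mem_centralizer_singleton_iff.1 (hJD j.2)
      obtain ⟨b, hb, i, hbi⟩ := F.cent_B hB hB8 hBc hjx fun v hv => by
        have e := congrArg (fun ψ : MulAut B' => (((ψ ⟨⟨v, hBJ hv⟩, Subgroup.mem_subgroupOf.2 hv⟩ :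
          B') : J) : G)) (MonoidHom.mem_ker.1 hj)
        exact mul_inv_eq_iff_eq_mul.1 e
      have hxi : x ^ i = 1 := hdisj _ (Subgroup.pow_mem _ (Subgroup.mem_zpowers x) i) (by
        rw [show x ^ i = b⁻¹ * (j : G) by rw [hbi, inv_mul_cancel_left]]
        exact mul_mem (inv_mem (hBJ hb)) j.2)
      rw [hxi, mul_one] at hbi
      exact Subgroup.mem_subgroupOf.2 (hbi ▸ hb)
    · intro hj
      refine MonoidHom.mem_ker.2 (MulEquiv.ext fun u => Subtype.ext ?_)
      show j * (u : J) * j⁻¹ = (u : J)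
      rw [show j * (u : J) = (u : J) * j from congrArg Subtype.val (hcomm ⟨j, hj⟩ u),
        mul_inv_cancel_right]
  have hsurj : Function.Surjective φ := by
    rw [← MonoidHom.range_eq_top]
    refine Subgroup.eq_top_of_card_eq _ ?_
    have := φ.ker.card_mul_index
    rw [Subgroup.index_ker, hker, hB'8, hJc] at this
    rw [h168]
    omega
  refine ⟨J, ⟨hxD, hJD, fun c hc j hj => (hXc c hc j (hJD hj)).eq,
    (Subgroup.eq_bot_iff_forall _).2 fun y hy =>
      hdisj y (Subgroup.mem_inf.1 hy).1 (Subgroup.mem_inf.1 hy).2,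
    le_antisymm (sup_le hxD hJD) fun d hd => ?_⟩, B', hB'n, ⟨⟨⟨hcomm⟩⟩, fun u hu =>
      congrArg Subtype.val (hsq ⟨u, hu⟩)⟩, hB'8, ⟨?_⟩, fun L hL => ?_⟩
  · obtain ⟨c, hc, j, hj, rfl⟩ := hdec d hd
    exact mul_mem (Subgroup.mem_sup_left hc) (Subgroup.mem_sup_right hj)
  · exact ((QuotientGroup.quotientMulEquivOfEq hker.symm).trans
      (QuotientGroup.quotientKerEquivOfSurjective φ hsurj)).trans eSL
  · have hLc : Nat.card L = 168 := by
      have := hL.card_mul
      rw [hB'8, hJc] at this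
      omega
    obtain ⟨P, hP⟩ := Sylow.exists_subgroup_card_pow_prime (G := L) 2 (n := 3)
      (by rw [hLc]; norm_num)
    have hPp : IsPGroup 2 P := IsPGroup.of_card hP
    haveI : Nontrivial P := Finite.one_lt_card_iff_nontrivial.1 (by rw [hP]; norm_num)
    haveI := hPp.center_nontrivial
    obtain ⟨n, hn⟩ := (hPp.to_subgroup (Subgroup.center P)).exists_card_eq
    have hn1 : 1 ≤ n := by
      by_contra h0
      have := Finite.one_lt_card (α := Subgroup.center P)
      rw [hn, show n = 0 by omega] at this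
      norm_num at this
    obtain ⟨kc, hk2⟩ := exists_prime_orderOf_dvd_card' (G := Subgroup.center P) 2
      (hn ▸ dvd_pow_self 2 (by omega))
    set k : J := (((kc : P) : L) : J) with hk
    have hkL : k ∈ L := ((kc : P) : L).2
    have hko : orderOf k = 2 := by
      rw [hk, Subgroup.orderOf_coe, Subgroup.orderOf_coe, Subgroup.orderOf_coe]
      exact hk2
    have hkB : k ∉ B' := fun hm => by
      rw [Subgroup.disjoint_def.1 hL.disjoint hm hkL, orderOf_one] at hko
      omega
    have hkx : Commute (k : G) x := Subgroup.mem_centralizer_singleton_iff.1 (hJD k.2)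
    have hkk : (k : G) * k = 1 := by
      have := congrArg Subtype.val (show k ^ 2 = 1 from hko ▸ pow_orderOf_eq_one k)
      rwa [SubgroupClass.coe_pow, pow_two] at this
    have hk1 : (k : G) ≠ 1 := fun e => by
      rw [show k = 1 from Subtype.ext e, orderOf_one] at hko
      omega
    obtain ⟨m, hm, hme⟩ := F.local_data.t_conj F.ha F.ha1 F.haz hkx hkk hk1
      fun hc => hkB (Subgroup.mem_subgroupOf.2 ((F.mem_B_iff hB).2 ⟨hkx, .inr hc⟩))
    have h80 : Nat.card ↥(D ⊓ Subgroup.centralizer ({(k : G)} : Set G)) = 80 := by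
      rw [← hme, hDdef, card_cent_conj hm, F.local_data.card_cent_ax F.ha F.ha1 F.haz]
    have hsplit := card_cent_split (G := J) (V := B') (K := L)
      (by rw [Subgroup.normalizer_eq_top]; exact le_top) hL.disjoint.symm.eq_bot hkL
    have hP8 : 8 ≤ Nat.card ↥(L ⊓ Subgroup.centralizer ({k} : Set J)) := by
      have hle : P.map L.subtype ≤ L ⊓ Subgroup.centralizer ({k} : Set J) := by
        rintro _ ⟨s, hs, rfl⟩
        refine Subgroup.mem_inf.2 ⟨s.2, Subgroup.mem_centralizer_singleton_iff.2 ?_⟩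
        exact congrArg (fun q : P => ((q : L) : J)) (Subgroup.mem_center_iff.1 kc.2 ⟨s, hs⟩)
      have := Subgroup.card_le_of_le hle
      rwa [Subgroup.card_map_of_injective L.subtype_injective, hP] at this
    have hB4 : 3 ≤ Nat.card ↥(B' ⊓ Subgroup.centralizer ({k} : Set J)) := by
      set C4 := B' ⊓ Subgroup.centralizer ({k} : Set J)
      have hmemC : ∀ u : B', k * u * k⁻¹ * u ∈ C4 := fun u => by
        refine Subgroup.mem_inf.2 ⟨mul_mem (hB'n.conj_mem _ u.2 k) u.2,
          Subgroup.mem_centralizer_singleton_iff.2 ?_⟩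
        have hu' : k * u * k⁻¹ * u = u * (k * u * k⁻¹) := congrArg Subtype.val
          (hcomm ⟨_, hB'n.conj_mem _ u.2 k⟩ u)
        have hkk' : k * k = 1 := by rw [← pow_two, ← hko, pow_orderOf_eq_one]
        have hki : k⁻¹ = k := inv_eq_of_mul_eq_one_right hkk'
        calc k * u * k⁻¹ * u * k = k * (u * (k * u * k⁻¹)) := by rw [hki]; group
          _ = k * (k * u * k⁻¹ * u) := by rw [hu']
      let f : B' →* C4 := MonoidHom.mk' (fun u => ⟨k * u * k⁻¹ * u, hmemC u⟩) fun u w =>
        Subtype.ext (by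
          show k * (u * w : J) * k⁻¹ * (u * w) = k * u * k⁻¹ * u * (k * w * k⁻¹ * w)
          have hh : k * w * k⁻¹ * u = u * (k * w * k⁻¹) := congrArg Subtype.val
            (hcomm ⟨_, hB'n.conj_mem _ w.2 k⟩ u)
          calc k * (u * w : J) * k⁻¹ * (u * w) = k * u * k⁻¹ * (k * w * k⁻¹ * u) * w := by group
            _ = k * u * k⁻¹ * (u * (k * w * k⁻¹)) * w := by rw [hh]
            _ = k * u * k⁻¹ * u * (k * w * k⁻¹ * w) := by group)
      have hkerle : Nat.card f.ker ≤ Nat.card C4 := by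
        refine Nat.card_le_card_of_injective (fun u => ⟨u.1.1, Subgroup.mem_inf.2 ⟨u.1.2,
          Subgroup.mem_centralizer_singleton_iff.2 ?_⟩⟩) ?_
        · have e : k * (u.1 : J) * k⁻¹ * u.1 = 1 := congrArg Subtype.val u.2
          have hu2 : (u.1 : J) * u.1 = 1 := by
            rw [← pow_two]; exact congrArg Subtype.val (hsq u.1)
          rw [← (mul_inv_eq_iff_eq_mul.1 ((eq_inv_of_mul_eq_one_left e).trans
            (inv_eq_of_mul_eq_one_right hu2)))]
        · intro u w e
          exact Subtype.ext (Subtype.ext (congrArg (fun q : C4 => (q : J)) e))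
      have hrle : Nat.card f.range ≤ Nat.card C4 := Subgroup.card_le_card_group _
      have := f.ker.card_mul_index
      rw [Subgroup.index_ker, hB'8] at this
      have h2 := Nat.mul_le_mul hkerle hrle
      nlinarith
    obtain ⟨q, -, hq⟩ := (Nat.dvd_prime_pow Nat.prime_two).1 (show
      Nat.card ↥(B' ⊓ Subgroup.centralizer ({k} : Set J)) ∣ 2 ^ 3 by
        rw [show (2 : ℕ) ^ 3 = 8 from rfl, ← hB'8]; exact Subgroup.card_dvd_of_le inf_le_left)
    have hsup : B' ⊔ L = ⊤ := hL.sup_eq_top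
    rw [hsup, top_inf_eq] at hsplit
    have hdvd : Nat.card (Subgroup.centralizer ({k} : Set J)) ∣ 16 := by
      have h1 : Nat.card (Subgroup.centralizer ({k} : Set J)) ∣ 1344 :=
        hJc ▸ Subgroup.card_subgroup_dvd_card _
      have h2 : Nat.card (Subgroup.centralizer ({k} : Set J)) ∣ 80 := by
        rw [← h80, ← Subgroup.card_map_of_injective (f := J.subtype) J.subtype_injective]
        refine Subgroup.card_dvd_of_le ?_
        rintro _ ⟨s, hs, rfl⟩
        exact Subgroup.mem_inf.2 ⟨hJD s.2, Subgroup.mem_centralizer_singleton_iff.2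
          (congrArg Subtype.val (Subgroup.mem_centralizer_singleton_iff.1 hs))⟩
      exact (Nat.dvd_gcd h1 h2).trans (by norm_num)
    have h16 := Nat.le_of_dvd (by norm_num) hdvd
    rw [hq] at hB4 hsplit
    have hq2 : 2 ≤ q := by
      by_contra h2
      interval_cases q <;> norm_num at hB4
    have h4 : 4 ≤ 2 ^ q := le_of_eq_of_le (by norm_num) (Nat.pow_le_pow_right (by norm_num) hq2)
    have := Nat.mul_le_mul h4 hP8
    omega

end FiveFrame

end CfsgLib.JFourSeven
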