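import Cfsg.Agent.JFourSeven.SevenLocal

/-!
# The centralizer and the normalizer of the element of order seven
-/

set_option autoImplicit false
set_option linter.style.haveILetI false
set_option linter.unusedSectionVars false

namespace CfsgLib.JFourSeven

open Cfsg CfsgLib.JFourType CfsgLib.JFourType.Shape

variable {G : Type*} [Group G] [Finite G]

theorem centralizer_zpowers_eq (x : G) :
    Subgroup.centralizer ((Subgroup.zpowers x : Subgroup G) : Set G) =
      Subgroup.centralizer ({x} : Set G) := by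
  rw [Subgroup.zpowers_eq_closure, Subgroup.centralizer_closure]

/-- A centralizer inside a subgroup, as a subgroup of it. -/
theorem card_centralizer_subtype {D : Subgroup G} (s : D) :
    Nat.card (Subgroup.centralizer ({s} : Set D)) =
      Nat.card ↥(D ⊓ Subgroup.centralizer ({(s : G)} : Set G)) :=
  Nat.card_congr
    { toFun := fun g => ⟨g.1.1, Subgroup.mem_inf.2 ⟨g.1.2, Subgroup.mem_centralizer_singleton_iff.2
        (congrArg Subtype.val (Subgroup.mem_centralizer_singleton_iff.1 g.2))⟩⟩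
      invFun := fun g => ⟨⟨g.1, (Subgroup.mem_inf.1 g.2).1⟩,
        Subgroup.mem_centralizer_singleton_iff.2
          (Subtype.ext (Subgroup.mem_centralizer_singleton_iff.1 (Subgroup.mem_inf.1 g.2).2))⟩
      left_inv := fun g => rfl
      right_inv := fun g => rfl }

/-- The index of the centralizer in the normalizer of a subgroup of order seven, given that
squaring is induced and inversion is not. -/
theorem card_normalizer_seven {x g : G} (h7 : orderOf x = 7) (hg : g * x * g⁻¹ = x ^ 2)
    (hinv : ∀ n : G, n * x * n⁻¹ ≠ x⁻¹) :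
    Nat.card (Subgroup.normalizer ((Subgroup.zpowers x : Subgroup G) : Set G)) =
      3 * Nat.card (Subgroup.centralizer ((Subgroup.zpowers x : Subgroup G) : Set G)) := by
  set X := Subgroup.zpowers x with hX
  set φ := X.normalizerMonoidHom with hφ
  have hcardX : Nat.card X = 7 := by rw [hX, Nat.card_zpowers, h7]
  have hA : Nat.card (MulAut X) = 6 := by
    rw [IsCyclic.card_mulAut, hcardX, Nat.totient_prime (by norm_num)]
  have hxX : x ∈ X := Subgroup.mem_zpowers x
  have happ : ∀ (n : Subgroup.normalizer (X : Set G)) (y : X),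
      ((φ n y : X) : G) = (n : G) * y * (n : G)⁻¹ := fun n y => rfl
  set gN : Subgroup.normalizer (X : Set G) :=
    ⟨g, mem_normalizer_zpowers (hg ▸ Subgroup.pow_mem _ (Subgroup.mem_zpowers x) 2)⟩
  have h1 : φ gN ≠ 1 := fun e => by
    have := happ gN ⟨x, hxX⟩
    rw [e, MulAut.one_apply] at this
    have h2 : x ^ 1 = x ^ 2 := by rw [pow_one]; exact this.trans hg
    rw [pow_inj_mod, h7] at h2
    norm_num at h2
  have h3 : φ gN ^ 3 = 1 := by
    rw [← map_pow]
    refine MulEquiv.ext fun y => Subtype.ext ?_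
    rw [happ, MulAut.one_apply, SubgroupClass.coe_pow]
    obtain ⟨j, hj⟩ := y.2
    show g ^ 3 * (y : G) * (g ^ 3)⁻¹ = y
    rw [← hj]
    simp only
    rw [← conj_zpow]
    congr 1
    calc g ^ 3 * x * (g ^ 3)⁻¹ = g * (g * (g * x * g⁻¹) * g⁻¹) * g⁻¹ := by
          rw [pow_succ, pow_two]; group
      _ = x ^ (2 * 2 * 2) := by
        rw [hg, ← conj_pow, hg, ← conj_pow, ← conj_pow, hg, ← pow_mul, ← pow_mul]
      _ = x := by rw [← pow_mod_orderOf, h7]; norm_num
  have hord : orderOf (φ gN) = 3 := by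
    haveI : Fact (Nat.Prime 3) := ⟨Nat.prime_three⟩
    exact orderOf_eq_prime h3 h1
  have hdvd3 : 3 ∣ Nat.card φ.range := by
    rw [← hord]
    exact Subgroup.orderOf_dvd_natCard _ ⟨gN, rfl⟩
  have hdvd6 : Nat.card φ.range ∣ 6 := hA ▸ φ.range.card_subgroup_dvd_card
  have hne : Nat.card φ.range ≠ 6 := fun e => by
    have htop : φ.range = ⊤ := Subgroup.eq_top_of_card_eq _ (e.trans hA.symm)
    let τ : MulAut X :=
      { toFun := fun y => y⁻¹
        invFun := fun y => y⁻¹
        left_inv := fun y => inv_inv y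
        right_inv := fun y => inv_inv y
        map_mul' := fun y w => by
          rw [mul_inv_rev]
          exact ((IsCyclic.commGroup (α := X)).mul_comm _ _) }
    obtain ⟨n, hn⟩ : ∃ n, φ n = τ := by
      have : τ ∈ φ.range := htop ▸ Subgroup.mem_top _
      exact this
    exact hinv n ((happ n ⟨x, hxX⟩).symm.trans (by rw [hn]; rfl))
  have hr : Nat.card φ.range = 3 := by
    have : Nat.card φ.range ≤ 6 := Nat.le_of_dvd (by norm_num) hdvd6
    interval_cases Nat.card φ.range <;> omega
  have := φ.ker.card_mul_index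
  rw [Subgroup.index_ker, hr, hφ, Subgroup.normalizerMonoidHom_ker,
    Nat.card_congr (Subgroup.subgroupOfEquivOfLe (fun c hc => ?_)).toEquiv, mul_comm] at this
  · exact this.symm
  · refine Subgroup.mem_normalizer_iff.2 fun y => ⟨fun hy => ?_, fun hy => ?_⟩
    · rwa [← (Subgroup.mem_centralizer_iff.1 hc y hy), mul_inv_cancel_right]
    · have h2 := Subgroup.mem_centralizer_iff.1 hc _ hy
      rwa [show y = c⁻¹ * (c * y * c⁻¹ * c) by group, h2, inv_mul_cancel_left]

/-- A group of order `840` with a central subgroup of order seven is a direct product. -/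
theorem exists_complement_seven {x : G} (h7 : orderOf x = 7)
    {X : Subgroup ↥(Subgroup.centralizer ({x} : Set G))} [X.Normal]
    (hX : X = (Subgroup.zpowers x).subgroupOf (Subgroup.centralizer ({x} : Set G)))
    {n : ℕ} (hn : Nat.Coprime 7 n) (hcard : X.index = n) :
    ∃ I : Subgroup G, IsInternalDirectProduct (Subgroup.zpowers x) I
      (Subgroup.centralizer ((Subgroup.zpowers x : Subgroup G) : Set G)) ∧
      Nonempty (↥I ≃* ↥(Subgroup.centralizer ({x} : Set G)) ⧸ X) := by
  rw [centralizer_zpowers_eq]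
  have hxD : Subgroup.zpowers x ≤ Subgroup.centralizer ({x} : Set G) :=
    Subgroup.zpowers_le.2 (Subgroup.mem_centralizer_singleton_iff.2 rfl)
  have hX7 : Nat.card X = 7 := by
    rw [hX, Nat.card_congr (Subgroup.subgroupOfEquivOfLe hxD).toEquiv, Nat.card_zpowers, h7]
  obtain ⟨J, hJ⟩ := Subgroup.exists_right_complement'_of_coprime (N := X) (by
    rwa [hX7, hcard])
  refine ⟨J.map (Subgroup.centralizer ({x} : Set G)).subtype,
    ⟨hxD, Subgroup.map_subtype_le _, ?_, ?_, ?_⟩, ⟨?_⟩⟩
  · rintro c hc _ ⟨d, hd, rfl⟩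
    obtain ⟨j, rfl⟩ := hc
    have hdx : Commute (d : G) x := Subgroup.mem_centralizer_singleton_iff.1 d.2
    exact ((hdx.zpow_right j).eq).symm
  · refine (Subgroup.eq_bot_iff_forall _).2 fun c hc => ?_
    obtain ⟨hc1, ⟨d, hd, rfl⟩⟩ := Subgroup.mem_inf.1 hc
    have hdX : d ∈ X := hX ▸ Subgroup.mem_subgroupOf.2 hc1
    have := Subgroup.disjoint_def.1 hJ.disjoint hdX hd
    rw [this]; rfl
  · refine le_antisymm (sup_le hxD (Subgroup.map_subtype_le _)) fun g hg => ?_
    obtain ⟨⟨⟨c, hc⟩, ⟨d, hd⟩⟩, e⟩ := hJ.2 ⟨g, hg⟩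
    have e' : (c : G) * d = g := congrArg Subtype.val e
    rw [← e']
    exact mul_mem (Subgroup.mem_sup_left (Subgroup.mem_subgroupOf.1 (hX ▸ hc)))
      (Subgroup.mem_sup_right ⟨d, hd, rfl⟩)
  · refine ((Subgroup.equivMapOfInjective J (Subgroup.centralizer ({x} : Set G)).subtype
      (Subgroup.subtype_injective _)).symm).trans
      (MulEquiv.ofBijective ((QuotientGroup.mk' X).comp J.subtype) ?_)
    refine (Nat.bijective_iff_injective_and_card _).2 ⟨?_, ?_⟩
    · rw [injective_iff_map_eq_one]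
      intro d hd
      exact Subtype.ext (Subgroup.disjoint_def.1 hJ.disjoint
        ((QuotientGroup.eq_one_iff _).1 hd) d.2)
    · rw [← Subgroup.index_eq_card]
      exact hJ.symm.index_eq_card.symm

namespace SevenData

variable {T : Shape G} {V K : Subgroup G} {x : G} (h : SevenData T V K x)
include h

theorem exists_a : ∃ a ∈ V ⊓ Subgroup.centralizer ({x} : Set G), a ≠ 1 := by
  by_contra hcon
  push Not at hcon
  have := h.card_A
  rw [(Subgroup.eq_bot_iff_forall _).2 hcon, Subgroup.card_bot] at this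
  omega

theorem card_cent_z :
    Nat.card ↥(Subgroup.centralizer ({x} : Set G) ⊓ Subgroup.centralizer ({T.z} : Set G)) = 84 := by
  rw [inf_comm]
  exact card_cent_seven h.hx h.h7

/-- The centralizer of `x`, its normalizer, and the fusion of the conjugates of `z` in it. -/
theorem local_structure :
    Nat.card (Subgroup.centralizer ((Subgroup.zpowers x : Subgroup G) : Set G)) = 840 ∧
      (∃ I : Subgroup G, IsInternalDirectProduct (Subgroup.zpowers x) I
        (Subgroup.centralizer ((Subgroup.zpowers x : Subgroup G) : Set G)) ∧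
        Nonempty (↥I ≃* Equiv.Perm (Fin 5))) ∧
      Nat.card (Subgroup.normalizer ((Subgroup.zpowers x : Subgroup G) : Set G)) =
        3 * Nat.card (Subgroup.centralizer ((Subgroup.zpowers x : Subgroup G) : Set G)) := by
  obtain ⟨a, ha, ha1⟩ := h.exists_a
  obtain ⟨haV, hax⟩ := Subgroup.mem_inf.1 ha
  rw [Subgroup.mem_centralizer_singleton_iff] at hax
  obtain ⟨d, hd, hzu⟩ := h.exists_commute_z ha ha1
  set D := Subgroup.centralizer ({x} : Set G) with hD
  have hxx : x ∈ D := Subgroup.mem_centralizer_singleton_iff.2 rfl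
  set X : Subgroup D := (Subgroup.zpowers x).subgroupOf D with hX
  have hXc : X ≤ Subgroup.center D := fun c hc => Subgroup.mem_center_iff.2 fun g =>
    Subtype.ext (by
      obtain ⟨j, hj⟩ := Subgroup.mem_subgroupOf.1 hc
      show (g : G) * c = c * g
      rw [← hj]
      exact ((show Commute (g : G) x from
        Subgroup.mem_centralizer_singleton_iff.1 g.2).zpow_right j).eq)
  haveI : X.Normal := ⟨fun c hc g => by
    rw [Subgroup.mem_center_iff.1 (hXc hc) g, mul_inv_cancel_right]; exact hc⟩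
  have hX7 : Nat.card X = 7 := by
    rw [hX, Nat.card_congr (Subgroup.subgroupOfEquivOfLe (Subgroup.zpowers_le.2 hxx)).toEquiv,
      Nat.card_zpowers, h.h7]
  have hXm : ∀ c ∈ X, c ^ 7 = 1 := fun c hc => by
    have := pow_card_eq_one' (x := (⟨c, hc⟩ : X))
    rw [hX7] at this
    exact congrArg Subtype.val this
  have h7odd : Odd 7 := by decide
  have hpD : T.p ∈ D := Subgroup.mem_centralizer_singleton_iff.2 h.comm_px.eq
  let pD : D := ⟨T.p, hpD⟩
  let dD : D := ⟨d, hd⟩
  let aD : D := ⟨a, Subgroup.mem_centralizer_singleton_iff.2 hax⟩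
  let zD : D := ⟨T.z, Subgroup.mem_centralizer_singleton_iff.2 (T.mem_C.1 h.hx).1.symm⟩
  let uD : D := dD * aD * dD⁻¹
  let wD : D := dD * (pD * aD * pD⁻¹) * dD⁻¹
  have haa : aD * aD = 1 := Subtype.ext (h.sq_one haV)
  have haD1 : aD ≠ 1 := fun e => ha1 (congrArg Subtype.val e)
  have hconj2 : ∀ g : D, (g * aD * g⁻¹) * (g * aD * g⁻¹) = 1 := fun g => by
    rw [show g * aD * g⁻¹ * (g * aD * g⁻¹) = g * (aD * aD) * g⁻¹ by group, haa]
    simp
  have huu : uD * uD = 1 := hconj2 dD
  have hwD : wD = (dD * pD) * aD * (dD * pD)⁻¹ := by simp only [wD]; group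
  have hww : wD * wD = 1 := hwD ▸ hconj2 _
  have hzz : zD * zD = 1 := Subtype.ext T.z_mul_z
  have hz1 : zD ≠ 1 := fun e => T.sub.ne_one (congrArg Subtype.val e)
  have hu1 : uD ≠ 1 := fun e => haD1 (by simpa [uD] using e)
  obtain ⟨hne, hprod, -⟩ := h.three ha ha1
  have hzu' : ∀ {g : G}, g * T.z * g⁻¹ ≠ (uD : G) := fun {g} e =>
    h.not_z haV hax (isConj_iff.2 ⟨d⁻¹ * g, by
      rw [show d⁻¹ * g * T.z * (d⁻¹ * g)⁻¹ = d⁻¹ * (g * T.z * g⁻¹) * d by group, e]
      show d⁻¹ * (d * a * d⁻¹) * d = a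
      group⟩)
  have hcz : Nat.card ↥(D ⊓ Subgroup.centralizer ({T.z} : Set G)) = 84 := h.card_cent_z
  have hca : Nat.card ↥(D ⊓ Subgroup.centralizer ({a} : Set G)) = 56 := h.card_cent_ax ha ha1
  have hfive : FiveData (zD : D ⧸ X) (uD : D ⧸ X) (wD : D ⧸ X) :=
    { hz := orderOf_mk hXc h7odd hXm hzz hz1
      hu := orderOf_mk hXc h7odd hXm huu hu1
      hnc := fun hc => by
        obtain ⟨g, hg⟩ := isConj_iff.1 (isConj_of_mk hXc h7odd hXm hzz huu hc)
        exact hzu' (congrArg Subtype.val hg)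
      hzu := congrArg (QuotientGroup.mk' X) (show zD * uD = uD * zD from Subtype.ext hzu.eq)
      cz := by
        have := card_centralizer_mk hXc h7odd hXm hzz
        rw [hX7, card_centralizer_subtype, show ((zD : D) : G) = T.z from rfl, hcz] at this
        omega
      cu := by
        have := card_centralizer_mk hXc h7odd hXm huu
        have e : Nat.card (Subgroup.centralizer ({uD} : Set D)) =
            Nat.card (Subgroup.centralizer ({aD} : Set D)) := by
          have hinj : Function.Injective (MulAut.conj dD).toMonoidHom :=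
            (MulAut.conj dD).injective
          rw [← Subgroup.card_map_of_injective (K := Subgroup.centralizer ({aD} : Set D)) hinj,
            map_centralizer_equiv, Set.image_singleton]
          rfl
        rw [hX7, e, card_centralizer_subtype, show ((aD : D) : G) = a from rfl, hca] at this
        omega
      hwu := congrArg (QuotientGroup.mk' X) (show wD * uD = uD * wD from Subtype.ext (by
        show d * (T.p * a * T.p⁻¹) * d⁻¹ * (d * a * d⁻¹) =
          d * a * d⁻¹ * (d * (T.p * a * T.p⁻¹) * d⁻¹)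
        have hc := h.p_conj_mem ha 1
        rw [pow_one] at hc
        rw [show d * (T.p * a * T.p⁻¹) * d⁻¹ * (d * a * d⁻¹) =
          d * ((T.p * a * T.p⁻¹) * a) * d⁻¹ by group,
          (h.comm_V (Subgroup.mem_inf.1 hc).1 haV).eq]
        group))
      hw := fun e => hne (by
        have e' : wD = uD := by
          have := conj_eq_of_mk hXc h7odd hXm hww huu (d := 1) (by
            simpa using e)
          simpa using this
        have e2 : d * (T.p * a * T.p⁻¹) * d⁻¹ = d * a * d⁻¹ := congrArg Subtype.val e'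
        exact mul_left_cancel (mul_right_cancel e2))
      huw := (QuotientGroup.mk' X).map_isConj (isConj_iff.2 ⟨dD * pD * dD⁻¹, by
        simp only [uD, wD]; group⟩)
      huuw := (QuotientGroup.mk' X).map_isConj (isConj_iff.2 ⟨dD * (pD * pD) * dD⁻¹, by
        have e : aD * (pD * aD * pD⁻¹) = (pD * pD) * aD * (pD * pD)⁻¹ := Subtype.ext (by
          show a * (T.p * a * T.p⁻¹) = T.p * T.p * a * (T.p * T.p)⁻¹
          rw [hprod, pow_two])
        simp only [uD, wD]
        rw [show dD * aD * dD⁻¹ * (dD * (pD * aD * pD⁻¹) * dD⁻¹) =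
          dD * (aD * (pD * aD * pD⁻¹)) * dD⁻¹ by group, e]
        group⟩) }
  have hidx : X.index = 120 := (Subgroup.index_eq_card X).trans hfive.card_eq
  have hcardD : Nat.card D = 840 := by
    rw [← X.card_mul_index, hX7, hidx]
  obtain ⟨I, hI, ⟨eI⟩⟩ := exists_complement_seven h.h7 (X := X) hX (n := 120) (by norm_num) hidx
  obtain ⟨e5⟩ := hfive.nonempty_equiv
  refine ⟨by rw [centralizer_zpowers_eq]; exact hcardD, ⟨I, hI, ⟨eI.trans e5⟩⟩, ?_⟩
  obtain ⟨g, -, hg⟩ := exists_sq_conj h.hx h.h7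
  refine card_normalizer_seven h.h7 hg fun n hn => ?_
  have hxn : n⁻¹ * x * n = x⁻¹ := by
    calc n⁻¹ * x * n = n⁻¹ * (n * x * n⁻¹)⁻¹ * n := by rw [hn, inv_inv]
      _ = x⁻¹ := by group
  have htD : n * T.z * n⁻¹ ∈ D := by
    have hzx : Commute T.z x⁻¹ := (show Commute T.z x from (T.mem_C.1 h.hx).1.symm).inv_right
    rw [Subgroup.mem_centralizer_singleton_iff]
    calc n * T.z * n⁻¹ * x = n * (T.z * (n⁻¹ * x * n)) * n⁻¹ := by group
      _ = n * (n⁻¹ * x * n * T.z) * n⁻¹ := by rw [hxn, hzx.eq]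
      _ = x * (n * T.z * n⁻¹) := by group
  let tD : D := ⟨n * T.z * n⁻¹, htD⟩
  have htt : tD * tD = 1 := Subtype.ext (by
    show n * T.z * n⁻¹ * (n * T.z * n⁻¹) = 1
    rw [show n * T.z * n⁻¹ * (n * T.z * n⁻¹) = n * (T.z * T.z) * n⁻¹ by group, T.z_mul_z]
    group)
  have ht1 : tD ≠ 1 := fun e => T.sub.ne_one
    (conj_eq_one_iff.1 (show n * T.z * n⁻¹ = 1 from congrArg Subtype.val e))
  rcases hfive.all_invol _ (orderOf_mk hXc h7odd hXm htt ht1) with hc | hc
  · obtain ⟨c, hc⟩ := isConj_iff.1 (isConj_of_mk hXc h7odd hXm hzz htt hc)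
    have hc' : (c : G) * T.z * (c : G)⁻¹ = n * T.z * n⁻¹ := congrArg Subtype.val hc
    refine not_inverted (g := (c : G)⁻¹ * n) h.hx h.h7 ?_ ?_
    · rw [Shape.mem_H, ← mul_inv_eq_iff_eq_mul]
      calc (c : G)⁻¹ * n * T.z * ((c : G)⁻¹ * n)⁻¹
          = (c : G)⁻¹ * (n * T.z * n⁻¹) * c := by group
        _ = T.z := by rw [← hc']; group
    · have hcx : Commute (c : G) x⁻¹ :=
        (show Commute (c : G) x from Subgroup.mem_centralizer_singleton_iff.1 c.2).inv_right
      calc (c : G)⁻¹ * n * x * ((c : G)⁻¹ * n)⁻¹ = (c : G)⁻¹ * (n * x * n⁻¹) * c := by group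
        _ = (c : G)⁻¹ * (x⁻¹ * c) := by rw [hn, mul_assoc]
        _ = x⁻¹ := by rw [← hcx.eq, inv_mul_cancel_left]
  · obtain ⟨c, hc⟩ := isConj_iff.1 (isConj_of_mk hXc h7odd hXm huu htt hc)
    have hc' : (c : G) * (uD : G) * (c : G)⁻¹ = n * T.z * n⁻¹ := congrArg Subtype.val hc
    refine hzu' (g := (c : G)⁻¹ * n) ?_
    rw [show (c : G)⁻¹ * n * T.z * ((c : G)⁻¹ * n)⁻¹ = (c : G)⁻¹ * (n * T.z * n⁻¹) * c by group,
      ← hc']
    group

/-- Seven divides the order of the group only once. -/
theorem not_fortynine : ¬ 49 ∣ Nat.card G := fun hd => by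
  haveI : Fact (Nat.Prime 7) := ⟨by norm_num⟩
  obtain ⟨W, hW, hxW⟩ := Sylow.exists_subgroup_card_pow_succ (G := G) (p := 7) (n := 1)
    (by norm_num; exact hd) (H := Subgroup.zpowers x) (by rw [Nat.card_zpowers, h.h7, pow_one])
  have hW' : Nat.card W = 7 ^ 2 := hW
  have hle : W ≤ Subgroup.centralizer ((Subgroup.zpowers x : Subgroup G) : Set G) := fun w hw => by
    rw [Subgroup.mem_centralizer_iff]
    intro y hy
    exact congrArg Subtype.val
      ((IsPGroup.commGroupOfCardEqPrimeSq (p := 7) hW').mul_comm ⟨y, hxW hy⟩ ⟨w, hw⟩)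
  have := Subgroup.card_dvd_of_le hle
  rw [hW', h.local_structure.1] at this
  norm_num at this

end SevenData

end CfsgLib.JFourSeven
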