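import Cfsg.Agent.JFourSeven.SymFive

/-!
# Order and identification of the group with the centraliser data of degree five
-/

set_option autoImplicit false

namespace CfsgLib.JFourSeven

open CfsgLib.Small

variable {I : Type*} [Group I]

/-- Involutions whose product has an involution `r` among its powers centralise `r`. -/
theorem commute_of_mem_powers {x y r : I} (hx : x * x = 1) (hy : y * y = 1) (hr : r * r = 1)
    (h : r ∈ Subgroup.zpowers (x * y)) : Commute x r ∧ Commute y r := by
  obtain ⟨k, rfl⟩ := Subgroup.mem_zpowers_iff.1 h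
  have hinv : ((x * y) ^ k)⁻¹ = (x * y) ^ k := inv_eq_of_mul_eq_one_left hr
  have hxi : x⁻¹ = x := inv_eq_of_mul_eq_one_left hx
  have hyi : y⁻¹ = y := inv_eq_of_mul_eq_one_left hy
  have h1 : x * (x * y) ^ k * x⁻¹ = (x * y) ^ k := by
    rw [← conj_zpow, show x * (x * y) * x⁻¹ = (x * y)⁻¹ by
      rw [mul_inv_rev, hyi, hxi, ← mul_assoc, hx, one_mul], inv_zpow, hinv]
  have hcx : Commute x ((x * y) ^ k) := mul_inv_eq_iff_eq_mul.1 h1
  have hcxy : Commute (x * y) ((x * y) ^ k) := Commute.self_zpow _ _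
  refine ⟨hcx, ?_⟩
  have := hcx.inv_left.mul_left hcxy
  rwa [inv_mul_cancel_left] at this

namespace FiveData

variable [Finite I] {z u w : I} (h : FiveData z u w)
include h

theorem exists_conj_zu {y : I} (hy : Commute y z) (hyy : y * y = 1) (hy1 : y ≠ 1) (hyz : y ≠ z) :
    ∃ c : I, Commute c z ∧ (c * y * c⁻¹ = u ∨ c * y * c⁻¹ = z * u) := by
  haveI : Fact (Nat.Prime 2) := ⟨Nat.prime_two⟩
  set C := Subgroup.centralizer ({z} : Set I) with hC
  set B := (Subgroup.centralizer ({z, u} : Set I)).subgroupOf C with hB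
  have hle : Subgroup.centralizer ({z, u} : Set I) ≤ C := Subgroup.centralizer_le (by simp)
  have hBcard : Nat.card B = 4 :=
    (Nat.card_congr (Subgroup.subgroupOfEquivOfLe hle).toEquiv).trans h.card_cent_zu
  have hBidx : ¬ 2 ∣ B.index := by
    have := B.card_mul_index
    rw [hBcard, h.cz] at this
    omega
  have hBp : IsPGroup 2 B := IsPGroup.of_card (hBcard.trans (by norm_num : (4 : ℕ) = 2 ^ 2))
  let P : Sylow 2 C := hBp.toSylow hBidx
  have hyC : y ∈ C := Subgroup.mem_centralizer_singleton_iff.2 hy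
  have ho : orderOf (⟨y, hyC⟩ : C) = 2 :=
    orderOf_eq_prime (Subtype.ext ((pow_two y).trans hyy))
      (fun e => hy1 (congrArg Subtype.val e))
  have hz2 : IsPGroup 2 (Subgroup.zpowers (⟨y, hyC⟩ : C)) :=
    IsPGroup.of_card (n := 1) (by rw [Nat.card_zpowers, ho, pow_one])
  obtain ⟨R, hR⟩ := hz2.exists_le_sylow
  obtain ⟨⟨c, hcC⟩, hg⟩ := MulAction.exists_smul_eq C R P
  have hmem : (⟨c, hcC⟩ : C) * ⟨y, hyC⟩ * (⟨c, hcC⟩ : C)⁻¹ ∈ (P : Subgroup C) := by
    rw [← hg, Sylow.coe_subgroup_smul]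
    have := Subgroup.smul_mem_pointwise_smul (⟨y, hyC⟩ : C) (MulAut.conj (⟨c, hcC⟩ : C)) _
      (hR (Subgroup.mem_zpowers _))
    rwa [MulAut.smul_def, MulAut.conj_apply] at this
  have hmem' : c * y * c⁻¹ ∈ Subgroup.centralizer ({z, u} : Set I) := hmem
  simp only [Subgroup.mem_centralizer_iff, Set.mem_insert_iff, Set.mem_singleton_iff,
    forall_eq_or_imp, forall_eq] at hmem'
  have hc : Commute c z := Subgroup.mem_centralizer_singleton_iff.1 hcC
  refine ⟨c, hc, ?_⟩
  rcases h.mem_cent_zu (Commute.symm hmem'.1) (Commute.symm hmem'.2) with e | e | e | e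
  · exact absurd (conj_eq_one_iff.1 e) hy1
  · refine absurd ?_ hyz
    rw [show y = c⁻¹ * (c * y * c⁻¹) * c by group, e, mul_assoc, ← hc.eq, inv_mul_cancel_left]
  · exact .inl e
  · exact .inr e

theorem ne_zu : u ≠ z * u := fun e => h.z_ne.2.2.2.2.2 (right_eq_mul.1 e)

/-- The conjugates of `u` commuting with `z`. -/
theorem uset_iff {y : I} (hy : Commute y z) :
    IsConj u y ↔ ∃ c : I, Commute c z ∧ c * u * c⁻¹ = y := by
  refine ⟨fun hu => ?_, fun ⟨c, _, e⟩ => isConj_iff.2 ⟨c, e⟩⟩
  obtain ⟨hyy, hy1⟩ := h.sq_one (.inl hu)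
  obtain ⟨c, hc, e | e⟩ := h.exists_conj_zu hy hyy hy1 (fun e => h.hnc (e ▸ hu).symm)
  · exact ⟨c⁻¹, hc.inv_left, by rw [← e]; group⟩
  · exact absurd (h.conj_zu.trans ((isConj_iff.2 ⟨c, e⟩).symm.trans hu.symm)) h.hnc

theorem zset_iff {x : I} (hx : Commute x z) :
    IsConj z x ↔ x = z ∨ IsConj u (z * x) := by
  obtain ⟨hzz, -⟩ := h.sq_one (.inr (IsConj.refl z))
  constructor
  · intro hc
    obtain ⟨hxx, hx1⟩ := h.sq_one (.inr hc)
    by_cases hxz : x = z
    · exact .inl hxz
    · right
      obtain ⟨c, hcz, e | e⟩ := h.exists_conj_zu hx hxx hx1 hxz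
      · exact absurd (hc.trans (isConj_iff.2 ⟨c, e⟩)) h.hnc
      · refine IsConj.symm (isConj_iff.2 ⟨c, ?_⟩)
        calc c * (z * x) * c⁻¹ = (c * z) * x * c⁻¹ := by group
          _ = (z * c) * x * c⁻¹ := by rw [hcz.eq]
          _ = z * (c * x * c⁻¹) := by group
          _ = u := by rw [e, ← mul_assoc, hzz, one_mul]
  · rintro (rfl | hu)
    · exact IsConj.refl _
    · obtain ⟨c, hcz, e⟩ := (h.uset_iff ((Commute.refl z).mul_left hx)).1 hu
      refine h.conj_zu.trans (isConj_iff.2 ⟨c, ?_⟩)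
      calc c * (z * u) * c⁻¹ = (c * z) * u * c⁻¹ := by group
        _ = (z * c) * u * c⁻¹ := by rw [hcz.eq]
        _ = z * (c * u * c⁻¹) := by group
        _ = x := by rw [e, ← mul_assoc, hzz, one_mul]

/-- There are three of them. -/
theorem card_uset : Nat.card {y : I // Commute y z ∧ IsConj u y} = 3 := by
  set C := Subgroup.centralizer ({z} : Set I) with hC
  have huC : u ∈ C := Subgroup.mem_centralizer_singleton_iff.2 h.hzu.symm
  have hcomm : ∀ c : C, Commute (c : I) z := fun c => Subgroup.mem_centralizer_singleton_iff.1 c.2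
  have hle : Subgroup.centralizer ({z, u} : Set I) ≤ C := Subgroup.centralizer_le (by simp)
  have hstab : Subgroup.centralizer ({(⟨u, huC⟩ : C)} : Set C)
      = (Subgroup.centralizer ({z, u} : Set I)).subgroupOf C := by
    ext c
    simp only [Subgroup.mem_centralizer_singleton_iff, Subgroup.mem_subgroupOf,
      Subgroup.mem_centralizer_iff, Set.mem_insert_iff, Set.mem_singleton_iff, forall_eq_or_imp,
      forall_eq]
    exact ⟨fun e => ⟨(hcomm c).symm.eq, by simpa [eq_comm] using congrArg Subtype.val e⟩,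
      fun e => Subtype.ext (by simpa [eq_comm] using e.2)⟩
  have hcard := card_conjugates_mul_card_centralizer (G := C) (⟨u, huC⟩ : C)
  rw [hstab, (Nat.card_congr (Subgroup.subgroupOfEquivOfLe hle).toEquiv).trans h.card_cent_zu,
    h.cz] at hcard
  have e : {y : I // Commute y z ∧ IsConj u y} ≃ {y : C // IsConj (⟨u, huC⟩ : C) y} :=
    { toFun := fun y => ⟨⟨y.1, Subgroup.mem_centralizer_singleton_iff.2 y.2.1⟩, by
        obtain ⟨c, hc, e⟩ := (h.uset_iff y.2.1).1 y.2.2
        exact isConj_iff.2 ⟨⟨c, Subgroup.mem_centralizer_singleton_iff.2 hc⟩, Subtype.ext e⟩⟩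
      invFun := fun y => ⟨(y.1 : I), hcomm _, by
        obtain ⟨c, hc⟩ := isConj_iff.1 y.2
        exact isConj_iff.2 ⟨c.1, congrArg Subtype.val hc⟩⟩
      left_inv := fun y => rfl
      right_inv := fun y => rfl }
  rw [Nat.card_congr e]
  omega

/-- Two of them generate an element of order one or three. -/
theorem mul_cube {a b : I} (ha : Commute a z ∧ IsConj u a) (hb : Commute b z ∧ IsConj u b) :
    (a * b) ^ 3 = 1 := by
  classical
  obtain ⟨haa, -⟩ := h.sq_one (.inl ha.2)
  obtain ⟨hbb, -⟩ := h.sq_one (.inl hb.2)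
  by_cases hab : a = b
  · rw [hab, hbb, one_pow]
  -- two different ones do not commute
  have hncomm : ¬ Commute a b := fun hc => by
    obtain ⟨c, hcz, e⟩ := (h.uset_iff ha.1).1 ha.2
    have hb' : Commute (c⁻¹ * b * c) u := by
      have := (hc.symm.map (MulAut.conj c⁻¹).toMonoidHom)
      rw [← e] at this
      simpa [mul_assoc] using this
    have hb'z : Commute (c⁻¹ * b * c) z :=
      (hcz.inv_left.mul_left hb.1).mul_left hcz
    have hb'u : IsConj u (c⁻¹ * b * c) := hb.2.trans (isConj_iff.2 ⟨c⁻¹, by group⟩)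
    rcases h.mem_cent_zu hb'z hb' with e' | e' | e' | e'
    · exact (h.sq_one (.inl hb'u)).2 e'
    · exact h.hnc (e' ▸ hb'u).symm
    · exact hab (by rw [← e, ← e']; group)
    · exact h.hnc (h.conj_zu.trans (e' ▸ hb'u).symm)
  have hai : a⁻¹ = a := inv_eq_of_mul_eq_one_left haa
  have hbi : b⁻¹ = b := inv_eq_of_mul_eq_one_left hbb
  have h1 : Commute (a * b * a) z ∧ IsConj u (a * b * a) :=
    ⟨(ha.1.mul_left hb.1).mul_left ha.1, hb.2.trans (isConj_iff.2 ⟨a, by rw [hai]⟩)⟩
  have h2 : Commute (b * a * b) z ∧ IsConj u (b * a * b) :=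
    ⟨(hb.1.mul_left ha.1).mul_left hb.1, ha.2.trans (isConj_iff.2 ⟨b, by rw [hbi]⟩)⟩
  have n1 : a * b * a ≠ a := fun e => hncomm (by
    have := congrArg (a * ·) e
    simp only [← mul_assoc, haa, one_mul] at this
    exact absurd (show a = b by
      have h3 : b = a⁻¹ := eq_inv_of_mul_eq_one_left this
      rw [h3, hai]) hab)
  have n2 : a * b * a ≠ b := fun e => hncomm (by
    have := congrArg (· * a) e
    simp only [mul_assoc, haa, mul_one] at this
    exact this)
  have n3 : b * a * b ≠ b := fun e => hncomm (by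
    have := congrArg (b * ·) e
    simp only [← mul_assoc, hbb, one_mul] at this
    exact absurd (show a = b by
      have h3 : a = b⁻¹ := eq_inv_of_mul_eq_one_left this
      rw [h3, hbi]) hab)
  have n4 : b * a * b ≠ a := fun e => hncomm (by
    have := congrArg (· * b) e
    simp only [mul_assoc, hbb, mul_one] at this
    exact this.symm)
  have heq : a * b * a = b * a * b := by
    by_contra hne
    let S : Set I := {y | Commute y z ∧ IsConj u y}
    have hsub : ({a, b, a * b * a, b * a * b} : Set I) ⊆ S := by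
      rintro y (rfl | rfl | rfl | rfl)
      exacts [ha, hb, h1, h2]
    have hle := Set.ncard_le_ncard hsub (Set.toFinite _)
    rw [Set.ncard_insert_of_notMem (by simp [hab, Ne.symm n1, Ne.symm n4]),
      Set.ncard_insert_of_notMem (by simp [Ne.symm n2, Ne.symm n3]), Set.ncard_pair hne,
      ← Nat.card_coe_set_eq] at hle
    exact absurd (h.card_uset ▸ hle) (by norm_num)
  calc (a * b) ^ 3 = (a * b * a) * (b * a * b) := by rw [pow_succ, pow_two]; simp only [mul_assoc]
    _ = (b * a * b) * (b * a * b) := by rw [heq]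
    _ = b * a * (b * b) * a * b := by group
    _ = 1 := by rw [hbb, mul_one, mul_assoc b a a, haa, mul_one, hbb]

theorem pairs_z : Nat.card {p : I × I // IsConj z p.1 ∧ IsConj u p.2 ∧
    z ∈ Subgroup.zpowers (p.1 * p.2)} = 9 := by
  obtain ⟨hzz, hz1⟩ := h.sq_one (.inr (IsConj.refl z))
  have e : {p : I × I // IsConj z p.1 ∧ IsConj u p.2 ∧ z ∈ Subgroup.zpowers (p.1 * p.2)} ≃
      {y : I // Commute y z ∧ IsConj u y} × {y : I // Commute y z ∧ IsConj u y} :=
    { toFun := fun p => by
        have hc := commute_of_mem_powers (h.sq_one (.inr p.2.1)).1 (h.sq_one (.inl p.2.2.1)).1 hzz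
          p.2.2.2
        refine (⟨z * p.1.1, (Commute.refl z).mul_left hc.1, ?_⟩, ⟨p.1.2, hc.2, p.2.2.1⟩)
        refine ((h.zset_iff hc.1).1 p.2.1).resolve_left (fun e => ?_)
        obtain ⟨hyy, -⟩ := h.sq_one (.inl p.2.2.1)
        have hsq : (p.1.1 * p.1.2) * (p.1.1 * p.1.2) = 1 := by
          rw [e, (hc.2.mul_mul_mul_comm z p.1.2), hzz, hyy, one_mul]
        obtain ⟨k, hk⟩ := Subgroup.mem_zpowers_iff.1 p.2.2.2
        rcases Int.even_or_odd k with ⟨j, rfl⟩ | ⟨j, rfl⟩
        · rw [← two_mul, zpow_mul, zpow_two, hsq, one_zpow] at hk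
          exact hz1 hk.symm
        · rw [zpow_add, zpow_mul, zpow_two, hsq, one_zpow, one_mul, zpow_one, e] at hk
          exact (h.sq_one (.inl p.2.2.1)).2 (mul_eq_left.1 hk)
      invFun := fun q => ⟨(z * q.1.1, q.2.1), by
        have hzq : Commute z q.1.1 := q.1.2.1.symm
        refine ⟨(h.zset_iff ((Commute.refl z).mul_left q.1.2.1)).2 (.inr ?_), q.2.2.2, ?_⟩
        · rw [← mul_assoc, hzz, one_mul]
          exact q.1.2.2
        · refine Subgroup.mem_zpowers_iff.2 ⟨3, ?_⟩
          have h3 := h.mul_cube q.1.2 q.2.2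
          have hcm : Commute z (q.1.1 * q.2.1) := hzq.mul_right q.2.2.1.symm
          simp only
          rw [show ((3 : ℤ)) = ((3 : ℕ) : ℤ) by norm_num, zpow_natCast, mul_assoc,
            hcm.mul_pow, h3, mul_one, pow_succ, pow_two, hzz, one_mul]⟩
      left_inv := fun p => by
        apply Subtype.ext
        apply Prod.ext
        · show z * (z * p.1.1) = p.1.1
          rw [← mul_assoc, hzz, one_mul]
        · rfl
      right_inv := fun q => by
        apply Prod.ext <;> apply Subtype.ext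
        · show z * (z * q.1.1) = q.1.1
          rw [← mul_assoc, hzz, one_mul]
        · rfl }
  rw [Nat.card_congr e, Nat.card_prod, h.card_uset]

theorem pairs_u : Nat.card {p : I × I // IsConj z p.1 ∧ IsConj u p.2 ∧
    u ∈ Subgroup.zpowers (p.1 * p.2)} = 4 := by
  obtain ⟨huu, hu1⟩ := h.sq_one (.inl (IsConj.refl u))
  obtain ⟨hzz, hz1⟩ := h.sq_one (.inr (IsConj.refl z))
  have hswap : z * u * w = z * (u * w) := mul_assoc _ _ _
  have hset : {p : I × I | IsConj z p.1 ∧ IsConj u p.2 ∧ u ∈ Subgroup.zpowers (p.1 * p.2)}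
      = ({z, z * u} : Set I) ×ˢ ({w, u * w} : Set I) := by
    ext ⟨x, y⟩
    simp only [Set.mem_ofPred_eq, Set.mem_prod, Set.mem_insert_iff, Set.mem_singleton_iff]
    constructor
    · rintro ⟨hx, hy, hmem⟩
      have hc := commute_of_mem_powers (h.sq_one (.inr hx)).1 (h.sq_one (.inl hy)).1 huu hmem
      have hx' := (h.class_cent_u hc.1).2.1 hx
      refine ⟨hx', ((h.class_cent_u hc.2).1.1 hy).resolve_left fun e => ?_⟩
      subst e
      obtain ⟨hxx, hx1⟩ := h.sq_one (.inr hx)
      have hsq : (x * y) * (x * y) = 1 := by rw [hc.1.symm.mul_mul_mul_comm x y, hxx, huu, one_mul]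
      obtain ⟨k, hk⟩ := Subgroup.mem_zpowers_iff.1 hmem
      rcases Int.even_or_odd k with ⟨j, rfl⟩ | ⟨j, rfl⟩
      · rw [← two_mul, zpow_mul, zpow_two, hsq, one_zpow] at hk
        exact hu1 hk.symm
      · rw [zpow_add, zpow_mul, zpow_two, hsq, one_zpow, one_mul, zpow_one] at hk
        exact hx1 (mul_eq_right.1 hk)
    · rintro ⟨hx, hy⟩
      refine ⟨?_, ?_, Subgroup.mem_zpowers_iff.2 ⟨2, ?_⟩⟩
      · rcases hx with rfl | rfl
        exacts [IsConj.refl _, h.conj_zu]
      · rcases hy with rfl | rfl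
        exacts [h.huw, h.huuw]
      · have hzw : Commute (z * w) u := h.hzu.mul_left h.hwu
        rw [zpow_two]
        rcases hx with rfl | rfl <;> rcases hy with rfl | rfl
        · exact h.zw_sq
        · rw [show x * (u * w) = u * (x * w) by rw [← mul_assoc, h.hzu.eq, mul_assoc],
            hzw.mul_mul_mul_comm u (x * w), huu, one_mul, h.zw_sq]
        · rw [show z * u * y = u * (z * y) by rw [h.hzu.eq, mul_assoc],
            hzw.mul_mul_mul_comm u (z * y), huu, one_mul, h.zw_sq]
        · rw [show z * u * (u * w) = z * w by rw [mul_assoc, ← mul_assoc u u w, huu, one_mul],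
            h.zw_sq]
  rw [← Set.coe_ofPred, Nat.card_coe_set_eq, hset, Set.ncard_prod,
    Set.ncard_pair (fun e => hu1 (left_eq_mul.1 e)),
    Set.ncard_pair (fun e => hu1 (right_eq_mul.1 e))]

theorem card_eq : Nat.card I = 120 := by
  rw [thompson_order z u h.hz h.hu h.hnc h.all_invol, h.cu, h.cz, h.pairs_z, h.pairs_u]

/-- The identification. -/
theorem nonempty_equiv : Nonempty (I ≃* Equiv.Perm (Fin 5)) := by
  classical
  obtain ⟨huu, hu1⟩ := h.sq_one (.inl (IsConj.refl u))
  set T := Subgroup.centralizer ({u} : Set I) with hT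
  set A := Subgroup.centralizer ({u, w} : Set I) with hA
  set N := Subgroup.normalizer (A : Set I) with hN
  have memA : ∀ x : I, x ∈ A ↔ Commute x u ∧ Commute x w := by
    intro x
    simp only [hA, Subgroup.mem_centralizer_iff, Set.mem_insert_iff, Set.mem_singleton_iff,
      forall_eq_or_imp, forall_eq]
    exact ⟨fun e => ⟨Commute.symm e.1, Commute.symm e.2⟩, fun e => ⟨e.1.symm.eq, e.2.symm.eq⟩⟩
  have huA : u ∈ A := (memA u).2 ⟨Commute.refl u, h.hwu.symm⟩
  have hwA : w ∈ A := (memA w).2 ⟨h.hwu, Commute.refl w⟩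
  have hAT : A ≤ T := fun x hx => Subgroup.mem_centralizer_singleton_iff.2 ((memA x).1 hx).1
  have hAmem : ∀ x ∈ A, x ≠ 1 → IsConj u x := by
    intro x hx hx1
    rcases h.mem_cent_uw ((memA x).1 hx).1 ((memA x).1 hx).2 with e | e | e | e
    exacts [absurd e hx1, e ▸ IsConj.refl u, e ▸ h.huw, e ▸ h.huuw]
  have hAof : ∀ x ∈ T, IsConj u x → x ∈ A := by
    intro x hx hc
    rcases (h.class_cent_u (Subgroup.mem_centralizer_singleton_iff.1 hx)).1.1 hc with e | e | e
    exacts [e ▸ huA, e ▸ hwA, e ▸ mul_mem huA hwA]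
  have hTN : T ≤ N := by
    intro t ht
    rw [hN, Subgroup.mem_normalizer_iff]
    intro x
    have key : ∀ s ∈ T, ∀ a ∈ A, s * a * s⁻¹ ∈ A := by
      intro s hs a ha
      by_cases ha1 : a = 1
      · simp [ha1]
      · exact hAof _ (mul_mem (mul_mem hs (hAT ha)) (inv_mem hs))
          ((hAmem a ha ha1).trans (isConj_iff.2 ⟨s, rfl⟩))
    refine ⟨key t ht x, fun hx => ?_⟩
    have := key t⁻¹ (inv_mem ht) _ hx
    simpa [mul_assoc] using this
  -- a conjugation fusing `u` to `w` normalises the four-group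
  obtain ⟨g, hg⟩ := isConj_iff.1 h.huw
  have hgA : ∀ a ∈ A, g⁻¹ * a * g ∈ A := by
    intro a ha
    by_cases ha1 : a = 1
    · simp [ha1]
    · refine hAof _ ?_ ((hAmem a ha ha1).trans (isConj_iff.2 ⟨g⁻¹, by group⟩))
      refine Subgroup.mem_centralizer_singleton_iff.2 ?_
      have hu' : u = g⁻¹ * w * g := by rw [← hg]; group
      calc g⁻¹ * a * g * u = g⁻¹ * (a * w) * g := by rw [hu']; group
        _ = g⁻¹ * (w * a) * g := by rw [((memA a).1 ha).2.eq]
        _ = u * (g⁻¹ * a * g) := by rw [hu']; group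
  have hgN : g⁻¹ ∈ N := by
    refine Subgroup.mem_normalizer_fintype fun a ha => ?_
    simpa using hgA a ha
  have hgT : g⁻¹ ∉ T := fun e => h.hw (by
    have := Subgroup.mem_centralizer_singleton_iff.1 (inv_mem e)
    rw [inv_inv] at this
    rw [← hg, this, mul_inv_cancel_right])
  -- the order of the normaliser
  have hNcard : Nat.card N = 24 := by
    have h8 : 8 ∣ Nat.card N := h.cu ▸ Subgroup.card_dvd_of_le hTN
    have hlt : 8 < Nat.card N := by
      rw [← h.cu]
      exact Set.Finite.card_lt_card (Set.toFinite _)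
        ⟨hTN, fun e => hgT (e hgN)⟩
    have hle : Nat.card N ≤ 24 := by
      let f : N → {a : I // a = u ∨ a = w ∨ a = u * w} := fun n => ⟨n.1 * u * n.1⁻¹, by
        have hn : n.1 * u * n.1⁻¹ ∈ A := (Subgroup.mem_normalizer_iff.1 n.2 u).1 huA
        rcases h.mem_cent_uw ((memA _).1 hn).1 ((memA _).1 hn).2 with e | e
        exacts [absurd (conj_eq_one_iff.1 e) hu1, e]⟩
      let f2 : N → {a : I // a = u ∨ a = w ∨ a = u * w} × T := fun n =>
        (f n, ⟨(Function.invFun f (f n)).1⁻¹ * n.1, Subgroup.mem_centralizer_singleton_iff.2 (by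
          set m := Function.invFun f (f n) with hm
          have hfm : m.1 * u * m.1⁻¹ = n.1 * u * n.1⁻¹ :=
            congrArg Subtype.val (Function.invFun_eq (f := f) ⟨n, rfl⟩)
          calc m.1⁻¹ * n.1 * u = m.1⁻¹ * (n.1 * u * n.1⁻¹) * n.1 := by group
            _ = m.1⁻¹ * (m.1 * u * m.1⁻¹) * n.1 := by rw [hfm]
            _ = u * (m.1⁻¹ * n.1) := by group)⟩)
      have hf2 : Function.Injective f2 := by
        intro a b hab
        have h1 := congrArg Prod.fst hab
        have h2 := congrArg (fun q => (q.2 : I)) hab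
        simp only [f2] at h1 h2
        rw [h1] at h2
        exact Subtype.ext (mul_left_cancel h2)
      refine (Nat.card_le_card_of_injective f2 hf2).trans ?_
      rw [Nat.card_prod, h.cu]
      have h3 : Nat.card {a : I // a = u ∨ a = w ∨ a = u * w} ≤ 3 := by
        show Nat.card ↥({u, w, u * w} : Set I) ≤ 3
        rw [Nat.card_coe_set_eq]
        refine (Set.ncard_insert_le _ _).trans ?_
        have := Set.ncard_insert_le w ({u * w} : Set I)
        rw [Set.ncard_singleton] at this
        omega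
      omega
    have hd : Nat.card N ∣ 120 := h.card_eq ▸ Subgroup.card_subgroup_dvd_card N
    interval_cases hn : Nat.card N <;> omega
  have hidx : N.index = 5 := by
    have := N.card_mul_index
    rw [hNcard, h.card_eq] at this
    omega
  -- the core is trivial
  have hcore : N.normalCore = ⊥ := by
    have hKA : ∀ x ∈ N.normalCore, x ∈ A → x = 1 := by
      intro x hxK hxA
      by_contra hx1
      have hall : ∀ y : I, IsConj u y → y ∈ N := fun y hy => by
        obtain ⟨c, rfl⟩ := isConj_iff.1 ((hAmem x hxA hx1).symm.trans hy)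
        exact hxK c
      -- the involution classes in `N` are too small
      have hsub : {y : I | IsConj u y} ⊆ (A : Set I) := by
        intro y hy
        haveI : Fact (Nat.Prime 2) := ⟨Nat.prime_two⟩
        have hyN := hall y hy
        obtain ⟨hyy, hy1⟩ := h.sq_one (.inl hy)
        have hTp : IsPGroup 2 (T.subgroupOf N) :=
          IsPGroup.of_card (n := 3) ((Nat.card_congr
            (Subgroup.subgroupOfEquivOfLe hTN).toEquiv).trans (h.cu.trans (by norm_num)))
        have hTidx : ¬ 2 ∣ (T.subgroupOf N).index := by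
          have := (T.subgroupOf N).card_mul_index
          rw [(Nat.card_congr (Subgroup.subgroupOfEquivOfLe hTN).toEquiv).trans h.cu, hNcard]
            at this
          omega
        have ho : orderOf (⟨y, hyN⟩ : N) = 2 :=
          orderOf_eq_prime (Subtype.ext ((pow_two y).trans hyy))
            (fun e => hy1 (congrArg Subtype.val e))
        have hz2 : IsPGroup 2 (Subgroup.zpowers (⟨y, hyN⟩ : N)) :=
          IsPGroup.of_card (n := 1) (by rw [Nat.card_zpowers, ho, pow_one])
        obtain ⟨R, hR⟩ := hz2.exists_le_sylow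
        obtain ⟨⟨c, hcN⟩, hc⟩ := MulAction.exists_smul_eq N R (hTp.toSylow hTidx)
        have hmem : (⟨c, hcN⟩ : N) * ⟨y, hyN⟩ * (⟨c, hcN⟩ : N)⁻¹ ∈
            ((hTp.toSylow hTidx : Sylow 2 N) : Subgroup N) := by
          rw [← hc, Sylow.coe_subgroup_smul]
          have := Subgroup.smul_mem_pointwise_smul (⟨y, hyN⟩ : N) (MulAut.conj (⟨c, hcN⟩ : N)) _
            (hR (Subgroup.mem_zpowers _))
          rwa [MulAut.smul_def, MulAut.conj_apply] at this
        have hcy : c * y * c⁻¹ ∈ A :=
          hAof _ hmem (hy.trans (isConj_iff.2 ⟨c, rfl⟩))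
        exact (Subgroup.mem_normalizer_iff.1 hcN y).2 hcy
      have hle := Set.ncard_le_ncard hsub (Set.toFinite _)
      rw [← Nat.card_coe_set_eq, ← Nat.card_coe_set_eq] at hle
      have hle' : Nat.card {y : I // IsConj u y} ≤ 4 := hle.trans (le_of_eq h.card_cent_uw)
      have := card_conjugates_mul_card_centralizer (G := I) u
      rw [h.cu, h.card_eq] at this
      omega
    rw [eq_bot_iff]
    intro k hk
    have hcomm : ∀ a ∈ A, Commute k a := by
      intro a ha
      have h1 : k * a * k⁻¹ * a⁻¹ ∈ A :=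
        mul_mem ((Subgroup.mem_normalizer_iff.1 (N.normalCore_le hk) a).1 ha) (inv_mem ha)
      have h2 : k * a * k⁻¹ * a⁻¹ ∈ N.normalCore := by
        have := mul_mem hk ((N.normalCore_normal).conj_mem _ (inv_mem hk) a)
        simpa [mul_assoc] using this
      exact commutatorElement_eq_one_iff_commute.1 (hKA _ h2 h1)
    exact Subgroup.mem_bot.2 (hKA k hk ((memA k).2 ⟨hcomm u huA, hcomm w hwA⟩))
  let e : (I ⧸ N) ≃ Fin 5 := (Finite.equivFinOfCardEq (by rw [← hidx]; rfl))
  have hinj : Function.Injective (MulAction.toPermHom I (I ⧸ N)) := by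
    rw [← MonoidHom.ker_eq_bot_iff, ← Subgroup.normalCore_eq_ker, hcore]
  let φ : I →* Equiv.Perm (Fin 5) := e.permCongrHom.toMonoidHom.comp (MulAction.toPermHom I (I ⧸ N))
  have hφ : Function.Injective φ := e.permCongrHom.injective.comp hinj
  refine ⟨MulEquiv.ofBijective φ ((Nat.bijective_iff_injective_and_card _).2 ⟨hφ, ?_⟩)⟩
  rw [h.card_eq, Nat.card_eq_fintype_card, Fintype.card_perm, Fintype.card_fin]
  rfl

end FiveData

end CfsgLib.JFourSeven
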