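import Cfsg.Agent.JFourSeven.HSide
import Cfsg.Agent.JFourSeven.M24Torus
import Cfsg.Agent.JFourSeven.SymFiveMain
import Cfsg.Agent.JFourSeven.SevenAux
import Cfsg.Prelude.Def_Transfer

/-!
# An element of order seven inside a group `2 ^ 11 : M24` of a group of Janko-four type
-/

set_option autoImplicit false
set_option linter.style.haveILetI false
set_option linter.unusedSectionVars false

namespace CfsgLib.JFourSeven

open Cfsg CfsgLib.JFourType CfsgLib.JFourType.Shape

variable {G : Type*} [Group G] [Finite G]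

/-- An element of order seven of `C` lying, together with `p`, in a complement `K` of the elementary
abelian subgroup `V` of order `2 ^ 11`. -/
structure SevenData (T : Shape G) (V K : Subgroup G) (x : G) : Prop where
  cp : Subgroup.centralizer ({T.p} : Set G) ≤ T.H
  elem : IsElementaryAbelian 2 V
  card_V : Nat.card V = 2 ^ 11
  self : Subgroup.centralizer (V : Set G) ≤ V
  le_norm : K ≤ Subgroup.normalizer (V : Set G)
  disj : K ⊓ V = ⊥
  sup : K ⊔ V = Subgroup.normalizer (V : Set G)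
  iso : Spor.IsoM24 K
  orb_z : ∀ v ∈ V, IsConj T.z v →
    ¬ 7 ∣ Nat.card ↥(Subgroup.normalizer (V : Set G) ⊓ Subgroup.centralizer ({v} : Set G))
  orb_t : ∀ v ∈ V, ∀ v' ∈ V, v ≠ 1 → v' ≠ 1 → ¬ IsConj T.z v → ¬ IsConj T.z v' →
    ∃ m ∈ Subgroup.normalizer (V : Set G), m * v * m⁻¹ = v'
  cent_t : ∀ v ∈ V, v ≠ 1 → ¬ IsConj T.z v →
    Subgroup.centralizer ({v} : Set G) ≤ Subgroup.normalizer (V : Set G)
  hxK : x ∈ K
  hpK : T.p ∈ K
  hx : x ∈ T.C
  h7 : orderOf x = 7

namespace SevenData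

variable {T : Shape G} {V K : Subgroup G} {x : G} (h : SevenData T V K x)
include h

theorem comm_px : Commute T.p x := ((T.mem_C.1 h.hx).2).symm

theorem x_pow_seven : x ^ 7 = 1 := h.h7 ▸ pow_orderOf_eq_one x

theorem card_K : Nat.card K = 244823040 :=
  (card_cent_isoM24 h.iso (x := (⟨x, h.hxK⟩ : K))
    (.inr (by rw [← Subgroup.orderOf_coe]; exact h.h7))).1

theorem card_cent_K : Nat.card ↥(K ⊓ Subgroup.centralizer ({x} : Set G)) = 42 := by
  have ho : orderOf (⟨x, h.hxK⟩ : K) = 7 := by rw [← Subgroup.orderOf_coe]; exact h.h7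
  have := (card_cent_isoM24 h.iso (x := (⟨x, h.hxK⟩ : K)) (.inr ho)).2
  rw [if_neg (by rw [ho]; norm_num)] at this
  rw [← this]
  exact Nat.card_congr
    { toFun := fun k => ⟨⟨k.1, k.2.1⟩, Subgroup.mem_centralizer_singleton_iff.2
        (Subtype.ext (Subgroup.mem_centralizer_singleton_iff.1 k.2.2))⟩
      invFun := fun k => ⟨k.1.1, k.1.2, Subgroup.mem_centralizer_singleton_iff.2
        (congrArg Subtype.val (Subgroup.mem_centralizer_singleton_iff.1 k.2))⟩
      left_inv := fun k => rfl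
      right_inv := fun k => rfl }

theorem card_norm : Nat.card (Subgroup.normalizer (V : Set G)) = 2 ^ 11 * 244823040 := by
  have := card_cent_split h.le_norm h.disj (one_mem K)
  have e : Subgroup.centralizer ({(1 : G)} : Set G) = ⊤ :=
    eq_top_iff.2 fun g _ => Subgroup.mem_centralizer_singleton_iff.2 (by simp)
  rw [e, inf_top_eq, inf_top_eq, inf_top_eq, sup_comm, h.sup, h.card_V, h.card_K] at this
  exact this.symm

theorem not_sq_dvd {W : Subgroup G} (hW : W ≤ Subgroup.normalizer (V : Set G)) :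
    ¬ 7 ^ 2 ∣ Nat.card W := fun hd => by
  have := hd.trans (Subgroup.card_dvd_of_le hW)
  rw [h.card_norm] at this
  norm_num at this

theorem x_norm : x ∈ Subgroup.normalizer (V : Set G) := h.le_norm h.hxK

theorem p_norm : T.p ∈ Subgroup.normalizer (V : Set G) := h.le_norm h.hpK

theorem sq_one {a : G} (ha : a ∈ V) : a * a = 1 := by
  rw [← pow_two]; exact h.elem.2 a ha

theorem comm_V {a b : G} (ha : a ∈ V) (hb : b ∈ V) : Commute a b := by
  haveI := h.elem.1
  exact congrArg Subtype.val (mul_comm' (⟨a, ha⟩ : V) ⟨b, hb⟩)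

theorem not_z {a : G} (ha : a ∈ V) (hax : Commute a x) : ¬ IsConj T.z a := fun hc =>
  h.orb_z a ha hc (by
    rw [← h.h7]
    exact Subgroup.orderOf_dvd_natCard _ (Subgroup.mem_inf.2
      ⟨h.x_norm, Subgroup.mem_centralizer_singleton_iff.2 hax.eq.symm⟩))

theorem trans_A {a b : G} (ha : a ∈ V) (hax : Commute a x) (ha1 : a ≠ 1) (hb : b ∈ V)
    (hbx : Commute b x) (hb1 : b ≠ 1) :
    ∃ n ∈ Subgroup.normalizer (V : Set G) ⊓
      Subgroup.normalizer ((Subgroup.zpowers x : Subgroup G) : Set G), n * a * n⁻¹ = b := by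
  haveI : Fact (Nat.Prime 7) := ⟨by norm_num⟩
  obtain ⟨m, hm, hmab⟩ := h.orb_t a ha b hb ha1 hb1 (h.not_z ha hax) (h.not_z hb hbx)
  have hW := h.cent_t b hb hb1 (h.not_z hb hbx)
  obtain ⟨c, hc, hcm⟩ := exists_conj_mem_zpowers (q := 7) (h.not_sq_dvd hW)
    (x := x) (y := m * x * m⁻¹)
    (Subgroup.mem_centralizer_singleton_iff.2 hbx.eq.symm) (by
      rw [Subgroup.mem_centralizer_singleton_iff, ← hmab]
      calc m * x * m⁻¹ * (m * a * m⁻¹) = m * (x * a) * m⁻¹ := by group
        _ = m * (a * x) * m⁻¹ := by rw [hax.eq]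
        _ = m * a * m⁻¹ * (m * x * m⁻¹) := by group)
    h.h7 (((MulAut.conj m).orderOf_eq x).trans h.h7)
  refine ⟨c * m, Subgroup.mem_inf.2 ⟨mul_mem (hW hc) hm, mem_normalizer_zpowers ?_⟩, ?_⟩
  · rw [show c * m * x * (c * m)⁻¹ = c * (m * x * m⁻¹) * c⁻¹ by group]
    exact hcm
  · rw [show c * m * a * (c * m)⁻¹ = c * (m * a * m⁻¹) * c⁻¹ by group, hmab,
      Subgroup.mem_centralizer_singleton_iff.1 hc, mul_inv_cancel_right]

theorem card_A : Nat.card ↥(V ⊓ Subgroup.centralizer ({x} : Set G)) = 4 := by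
  haveI : Fact (Nat.Prime 7) := ⟨by norm_num⟩
  set A := V ⊓ Subgroup.centralizer ({x} : Set G) with hA
  have hmod := card_modEq_fixed (q := 7) (x := x) (k := 1) (by rw [pow_one, h.x_pow_seven])
    (V : Set G) fun v hv => (Subgroup.mem_normalizer_iff.1 h.x_norm v).1 hv
  have e : Nat.card {v : G // v ∈ (V : Set G) ∧ Commute x v} = Nat.card A :=
    Nat.card_congr
      { toFun := fun v => ⟨v.1, Subgroup.mem_inf.2
          ⟨v.2.1, Subgroup.mem_centralizer_singleton_iff.2 v.2.2.eq.symm⟩⟩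
        invFun := fun v => ⟨v.1, v.2.1,
          (Subgroup.mem_centralizer_singleton_iff.1 v.2.2).symm⟩
        left_inv := fun v => rfl
        right_inv := fun v => rfl }
  rw [e, SetLike.coe_sort_coe, h.card_V] at hmod
  obtain ⟨k, hk, hkc⟩ := (Nat.dvd_prime_pow Nat.prime_two).1
    (h.card_V ▸ Subgroup.card_dvd_of_le (inf_le_left : A ≤ V))
  change Nat.card A = 2 ^ k at hkc
  have hk11 : k ≠ 11 := by
    rintro rfl
    have hAV : A = V := Subgroup.eq_of_le_of_card_ge inf_le_left (by rw [h.card_V, hkc])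
    have hxV : x ∈ V := h.self (Subgroup.mem_centralizer_iff.2 fun v hv => by
      rw [SetLike.mem_coe, ← hAV] at hv
      exact Subgroup.mem_centralizer_singleton_iff.1 (Subgroup.mem_inf.1 hv).2)
    have := h.sq_one hxV
    have hd := orderOf_dvd_of_pow_eq_one ((pow_two x).trans this)
    rw [h.h7] at hd
    norm_num at hd
  rw [hkc] at hmod ⊢
  obtain ⟨a, haA, ha1⟩ : ∃ a ∈ A, a ≠ 1 := by
    by_contra hcon
    push Not at hcon
    rw [(Subgroup.eq_bot_iff_forall _).2 hcon, Subgroup.card_bot] at hkc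
    rw [← hkc, Nat.ModEq] at hmod
    norm_num at hmod
  obtain ⟨haV, hax⟩ := Subgroup.mem_inf.1 haA
  rw [Subgroup.mem_centralizer_singleton_iff] at hax
  set L := Subgroup.normalizer (V : Set G) ⊓
    Subgroup.normalizer ((Subgroup.zpowers x : Subgroup G) : Set G) with hL
  have horb : {v : G | ∃ n ∈ L, n * a * n⁻¹ = v} = (A : Set G) \ {1} := by
    ext v
    constructor
    · rintro ⟨n, hn, rfl⟩
      obtain ⟨hnV, hnX⟩ := Subgroup.mem_inf.1 hn
      refine ⟨Subgroup.mem_inf.2 ⟨(Subgroup.mem_normalizer_iff.1 hnV a).1 haV, ?_⟩,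
        by simpa using ha1⟩
      obtain ⟨j, hj⟩ := (Subgroup.mem_normalizer_iff''.1 hnX x).1 (Subgroup.mem_zpowers x)
      have hc : Commute a (n⁻¹ * x * n) := hj ▸ (show Commute a x from hax).zpow_right j
      rw [Subgroup.mem_centralizer_singleton_iff]
      calc n * a * n⁻¹ * x = n * (a * (n⁻¹ * x * n)) * n⁻¹ := by group
        _ = n * (n⁻¹ * x * n * a) * n⁻¹ := by rw [hc.eq]
        _ = x * (n * a * n⁻¹) := by group
    · rintro ⟨hv, hv1⟩
      obtain ⟨hvV, hvx⟩ := Subgroup.mem_inf.1 hv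
      exact h.trans_A haV hax ha1 hvV (Subgroup.mem_centralizer_singleton_iff.1 hvx) hv1
  have hcount := ncard_orbit_mul_card L a
  rw [horb, Set.ncard_sdiff_singleton_of_mem (one_mem A), ← Nat.card_coe_set_eq,
    SetLike.coe_sort_coe, hkc] at hcount
  have hdvd : 2 ^ k - 1 ∣ 2 ^ 11 * 244823040 := by
    rw [← h.card_norm]
    exact (Dvd.intro _ hcount).trans (Subgroup.card_dvd_of_le inf_le_left)
  interval_cases k <;> first
    | rfl
    | exact absurd rfl hk11
    | (exfalso; revert hmod; decide)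
    | (exfalso; revert hdvd; norm_num)

theorem p_conj_mem {a : G} (ha : a ∈ V ⊓ Subgroup.centralizer ({x} : Set G)) (j : ℕ) :
    T.p ^ j * a * (T.p ^ j)⁻¹ ∈ V ⊓ Subgroup.centralizer ({x} : Set G) := by
  obtain ⟨haV, hax⟩ := Subgroup.mem_inf.1 ha
  refine Subgroup.mem_inf.2 ⟨(Subgroup.mem_normalizer_iff.1 (pow_mem h.p_norm j) a).1 haV, ?_⟩
  have hc : Commute (T.p ^ j) x := h.comm_px.pow_left j
  exact Subgroup.mem_centralizer_singleton_iff.2
    ((hc.mul_left (show Commute a x from Subgroup.mem_centralizer_singleton_iff.1 hax)).mul_left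
      hc.inv_left).eq

/-- An involution commuting with `p` and `x` and lying in `V` cannot exist. -/
theorem p_fix {a : G} (ha : a ∈ V) (hax : Commute a x) (hap : Commute T.p a) : a = 1 := by
  by_contra ha1
  have haC : a ∈ T.C := Subgroup.mem_inf.2
    ⟨h.cp (Subgroup.mem_centralizer_singleton_iff.2 hap.eq.symm),
      Subgroup.mem_centralizer_singleton_iff.2 hap.eq.symm⟩
  have := eq_z_of_commute h.hx h.h7 haC hax (h.sq_one ha) ha1
  exact h.not_z ha hax (this ▸ IsConj.refl a)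

theorem three {a : G} (ha : a ∈ V ⊓ Subgroup.centralizer ({x} : Set G)) (ha1 : a ≠ 1) :
    T.p * a * T.p⁻¹ ≠ a ∧ a * (T.p * a * T.p⁻¹) = T.p ^ 2 * a * (T.p ^ 2)⁻¹ ∧
      ∀ b ∈ V ⊓ Subgroup.centralizer ({x} : Set G), b ≠ 1 →
        ∃ j : ℕ, T.p ^ j * a * (T.p ^ j)⁻¹ = b := by
  obtain ⟨haV, hax⟩ := Subgroup.mem_inf.1 ha
  rw [Subgroup.mem_centralizer_singleton_iff] at hax
  have h1 : T.p * a * T.p⁻¹ ≠ a := fun e => ha1
    (h.p_fix haV hax (mul_inv_eq_iff_eq_mul.1 e))
  have h2 : T.p ^ 2 * a * (T.p ^ 2)⁻¹ ≠ a := fun e => ha1 (h.p_fix haV hax (by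
    have hc : Commute (T.p ^ 2) a := mul_inv_eq_iff_eq_mul.1 e
    have := hc.pow_left 2
    rwa [← pow_mul, p_pow_mod, show 2 * 2 % 3 = 1 from rfl, pow_one] at this))
  have h12 : T.p * a * T.p⁻¹ ≠ T.p ^ 2 * a * (T.p ^ 2)⁻¹ := fun e => h1 (by
    rw [pow_two, show T.p * T.p * a * (T.p * T.p)⁻¹ = T.p * (T.p * a * T.p⁻¹) * T.p⁻¹ by group] at e
    exact (mul_left_cancel (mul_right_cancel e)).symm)
  have hb := h.p_conj_mem ha 1
  rw [pow_one] at hb
  have hc := h.p_conj_mem ha 2
  have hb1 : T.p * a * T.p⁻¹ ≠ 1 := by simpa using ha1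
  have hc1 : T.p ^ 2 * a * (T.p ^ 2)⁻¹ ≠ 1 := by simpa using ha1
  have four := fun {y : G} hy => mem_four h.card_A ha hb hc ha1 hb1 hc1 h1.symm h2.symm h12
    (x := y) hy
  refine ⟨h1, ?_, fun b hbA hbne => ?_⟩
  · rcases four (mul_mem ha hb) with e | e | e | e
    · exact absurd ((eq_inv_of_mul_eq_one_right e).trans
        (inv_eq_of_mul_eq_one_right (h.sq_one haV))) h1
    · exact absurd (mul_eq_left.1 e) hb1
    · exact absurd (mul_eq_right.1 e) ha1
    · exact e
  · rcases four hbA with e | e | e | e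
    · exact absurd e hbne
    · exact ⟨0, by simp [e]⟩
    · exact ⟨1, by simp [e]⟩
    · exact ⟨2, e.symm⟩

theorem card_cent_ax {a : G} (ha : a ∈ V ⊓ Subgroup.centralizer ({x} : Set G)) (ha1 : a ≠ 1) :
    Nat.card ↥(Subgroup.centralizer ({x} : Set G) ⊓ Subgroup.centralizer ({a} : Set G)) = 56 := by
  set A := V ⊓ Subgroup.centralizer ({x} : Set G) with hA
  set W := Subgroup.normalizer (V : Set G) ⊓ Subgroup.centralizer ({x} : Set G) with hW
  obtain ⟨haV, hax⟩ := Subgroup.mem_inf.1 ha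
  rw [Subgroup.mem_centralizer_singleton_iff] at hax
  have horb : {v : G | ∃ n ∈ W, n * a * n⁻¹ = v} = (A : Set G) \ {1} := by
    ext v
    constructor
    · rintro ⟨n, hn, rfl⟩
      obtain ⟨hnV, hnx⟩ := Subgroup.mem_inf.1 hn
      refine ⟨Subgroup.mem_inf.2 ⟨(Subgroup.mem_normalizer_iff.1 hnV a).1 haV, ?_⟩,
        by simpa using ha1⟩
      have hn' : Commute n x := Subgroup.mem_centralizer_singleton_iff.1 hnx
      exact Subgroup.mem_centralizer_singleton_iff.2
        ((hn'.mul_left (show Commute a x from hax)).mul_left hn'.inv_left).eq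
    · rintro ⟨hv, hv1⟩
      obtain ⟨j, hj⟩ := (h.three ha ha1).2.2 v hv hv1
      exact ⟨T.p ^ j, Subgroup.mem_inf.2 ⟨pow_mem h.p_norm j,
        Subgroup.mem_centralizer_singleton_iff.2 (h.comm_px.pow_left j).eq⟩, hj⟩
  have hcount := ncard_orbit_mul_card W a
  have hWc : Nat.card W = 168 := by
    rw [hW, ← h.sup, sup_comm, ← card_cent_split h.le_norm h.disj h.hxK, h.card_A, h.card_cent_K]
  rw [horb, Set.ncard_sdiff_singleton_of_mem (one_mem A), ← Nat.card_coe_set_eq,
    SetLike.coe_sort_coe, hA, h.card_A, hWc, hW, inf_assoc,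
    inf_eq_right.2 (inf_le_right.trans (h.cent_t a haV ha1 (h.not_z haV hax)))] at hcount
  omega

/-- The Sylow two-subgroup of the centralizer of `x` and `a`. -/
theorem exists_two {a : G} (ha : a ∈ V ⊓ Subgroup.centralizer ({x} : Set G)) (ha1 : a ≠ 1) :
    ∃ P : Subgroup G,
      P ≤ Subgroup.centralizer ({x} : Set G) ⊓ Subgroup.centralizer ({a} : Set G) ∧
      Nat.card P = 8 ∧ V ⊓ Subgroup.centralizer ({x} : Set G) ≤ P ∧
      ∀ b ∈ Subgroup.centralizer ({x} : Set G) ⊓ Subgroup.centralizer ({a} : Set G),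
        b ^ 8 = 1 → b ∈ P := by
  haveI : Fact (Nat.Prime 2) := ⟨Nat.prime_two⟩
  set W := Subgroup.centralizer ({x} : Set G) ⊓ Subgroup.centralizer ({a} : Set G) with hW
  obtain ⟨P', hP'⟩ := Sylow.exists_subgroup_card_pow_prime (G := W) 2 (n := 3)
    (by rw [h.card_cent_ax ha ha1]; norm_num)
  have hc : Nat.card (P'.map W.subtype) = 8 := by
    rw [Subgroup.card_map_of_injective W.subtype_injective, hP']; norm_num
  have hle : P'.map W.subtype ≤ W := Subgroup.map_subtype_le _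
  obtain ⟨haV, hax⟩ := Subgroup.mem_inf.1 ha
  have hxW : x ∈ W := Subgroup.mem_inf.2 ⟨Subgroup.mem_centralizer_singleton_iff.2 rfl,
    Subgroup.mem_centralizer_singleton_iff.2 (Subgroup.mem_centralizer_singleton_iff.1 hax).symm⟩
  have hall : ∀ b ∈ W, b ^ 8 = 1 → b ∈ P'.map W.subtype := by
    set P := P'.map W.subtype with hP
    let f : P × Subgroup.zpowers x → W := fun r =>
      ⟨r.1 * r.2, mul_mem (hle r.1.2) (Subgroup.zpowers_le.2 hxW r.2.2)⟩
    have hinj : Function.Injective f := by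
      rintro ⟨r, s⟩ ⟨r', s'⟩ e
      have e' : (r : G) * s = r' * s' := congrArg Subtype.val e
      have e2 : (r' : G)⁻¹ * r = s' * (s : G)⁻¹ := by
        rw [inv_mul_eq_iff_eq_mul, ← mul_assoc, ← e', mul_inv_cancel_right]
      have hd1 : ((r' : G)⁻¹ * r) ^ 8 = 1 := by
        have := pow_card_eq_one' (x := r'⁻¹ * r)
        rw [hc] at this
        exact congrArg Subtype.val this
      have hd2 : ((r' : G)⁻¹ * r) ^ 7 = 1 := by
        rw [e2]
        have := pow_card_eq_one' (x := s' * s⁻¹)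
        rw [Nat.card_zpowers, h.h7] at this
        exact congrArg Subtype.val this
      have h1 : (r' : G)⁻¹ * r = 1 := by simpa using pow_gcd_eq_one.2 ⟨hd1, hd2⟩
      have er : r' = r := Subtype.ext (inv_mul_eq_one.1 h1)
      subst er
      exact Prod.ext rfl (Subtype.ext (mul_left_cancel e'))
    have hbij := (Nat.bijective_iff_injective_and_card f).2 ⟨hinj, by
      rw [Nat.card_prod, hc, Nat.card_zpowers, h.h7, h.card_cent_ax ha ha1]⟩
    intro b hb hb8
    obtain ⟨⟨⟨r, hr⟩, ⟨s, hs⟩⟩, e⟩ := hbij.2 ⟨b, hb⟩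
    have e' : r * s = b := congrArg Subtype.val e
    obtain ⟨j, rfl⟩ := hs
    simp only at e'
    have hrx : Commute r x :=
      Subgroup.mem_centralizer_singleton_iff.1 (Subgroup.mem_inf.1 (hle hr)).1
    have hr8 : r ^ 8 = 1 := by
      have := pow_card_eq_one' (x := (⟨r, hr⟩ : P))
      rw [hc] at this
      exact congrArg Subtype.val this
    rw [← e', (hrx.zpow_right j).mul_pow, hr8, one_mul] at hb8
    have hj7 : (x ^ j) ^ 7 = 1 := by
      rw [← zpow_natCast, ← zpow_mul, mul_comm, zpow_mul, zpow_natCast, h.x_pow_seven, one_zpow]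
    have hj1 : x ^ j = 1 := by simpa using pow_gcd_eq_one.2 ⟨hb8, hj7⟩
    rw [← e', hj1, mul_one]
    exact hr
  refine ⟨P'.map W.subtype, hle, hc, fun b hb => hall b ?_ ?_, hall⟩
  · obtain ⟨hbV, hbx⟩ := Subgroup.mem_inf.1 hb
    exact Subgroup.mem_inf.2 ⟨hbx, Subgroup.mem_centralizer_singleton_iff.2 (h.comm_V hbV haV).eq⟩
  · rw [show (8 : ℕ) = 2 * 4 from rfl, pow_mul, h.elem.2 b (Subgroup.mem_inf.1 hb).1, one_pow]

/-- A conjugate of `a` under the centralizer of `x` commutes with `z`. -/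
theorem exists_commute_z {a : G} (ha : a ∈ V ⊓ Subgroup.centralizer ({x} : Set G)) (ha1 : a ≠ 1) :
    ∃ d ∈ Subgroup.centralizer ({x} : Set G), Commute T.z (d * a * d⁻¹) := by
  haveI : Fact (Nat.Prime 2) := ⟨Nat.prime_two⟩
  haveI : Fact (Nat.Prime 3) := ⟨Nat.prime_three⟩
  set D := Subgroup.centralizer ({x} : Set G) with hD
  set W := D ⊓ Subgroup.centralizer ({a} : Set G) with hW
  set A := V ⊓ D with hA
  obtain ⟨P, hPW, hP8, hAP, hall⟩ := h.exists_two ha ha1
  obtain ⟨haV, hax⟩ := Subgroup.mem_inf.1 ha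
  have hidx : (A.subgroupOf P).index = 2 := by
    have := (A.subgroupOf P).card_mul_index
    have hA4 : Nat.card A = 4 := h.card_A
    rw [Nat.card_congr (Subgroup.subgroupOfEquivOfLe hAP).toEquiv, hA4, hP8] at this
    linarith
  have hsq : ∀ b ∈ P, b * b ∈ A := fun b hb =>
    Subgroup.mem_subgroupOf.1 (Subgroup.mul_self_mem_of_index_two hidx ⟨b, hb⟩)
  by_cases hcase : ∀ r ∈ P, ∀ b ∈ A, Commute r b
  · -- `p` acts on the four elements of `P` outside `A`
    refine ⟨1, one_mem _, ?_⟩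
    rw [one_mul, inv_one, mul_one]
    have hpx : T.p ∈ D := Subgroup.mem_centralizer_singleton_iff.2 h.comm_px.eq
    have hs : ∀ v ∈ ((P : Set G) \ (A : Set G)), T.p * v * T.p⁻¹ ∈ ((P : Set G) \ (A : Set G)) := by
      rintro v ⟨hv, hvA⟩
      obtain ⟨hvx, -⟩ := Subgroup.mem_inf.1 (hPW hv)
      refine ⟨hall _ (Subgroup.mem_inf.2 ⟨mul_mem (mul_mem hpx hvx) (inv_mem hpx), ?_⟩) ?_, ?_⟩
      · have hb := h.p_conj_mem ha 2
        have hc : Commute v (T.p ^ 2 * a * (T.p ^ 2)⁻¹) := hcase v hv _ hb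
        rw [← p_inv, inv_inv] at hc
        rw [Subgroup.mem_centralizer_singleton_iff]
        calc T.p * v * T.p⁻¹ * a = T.p * (v * (T.p⁻¹ * a * T.p)) * T.p⁻¹ := by group
          _ = T.p * (T.p⁻¹ * a * T.p * v) * T.p⁻¹ := by rw [hc.eq]
          _ = a * (T.p * v * T.p⁻¹) := by group
      · have := pow_card_eq_one' (x := (⟨v, hv⟩ : P))
        rw [hP8] at this
        rw [conj_pow, show v ^ 8 = 1 from congrArg Subtype.val this]
        simp
      · intro hmem
        have := h.p_conj_mem hmem 2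
        rw [← p_inv, inv_inv] at this
        rw [show T.p⁻¹ * (T.p * v * T.p⁻¹) * T.p = v by group] at this
        exact hvA this
    have hmod := card_modEq_fixed (q := 3) (x := T.p) (k := 1)
      (by rw [pow_one, T.p_pow_three]) _ hs
    have h4 : Nat.card ↥((P : Set G) \ (A : Set G)) = 4 := by
      rw [Nat.card_coe_set_eq, Set.ncard_sdiff (show (A : Set G) ⊆ P from hAP),
        ← Nat.card_coe_set_eq, ← Nat.card_coe_set_eq, SetLike.coe_sort_coe, SetLike.coe_sort_coe,
        hP8, hA, hD, h.card_A]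
    obtain ⟨⟨b, ⟨hbP, hbA⟩, hpb⟩⟩ : Nonempty {v : G // v ∈ (P : Set G) \ (A : Set G) ∧
        Commute T.p v} := by
      by_contra hcon
      rw [not_nonempty_iff] at hcon
      rw [h4, Nat.card_of_isEmpty] at hmod
      exact absurd hmod (by decide)
    have hbC : b ∈ T.C := Subgroup.mem_inf.2
      ⟨h.cp (Subgroup.mem_centralizer_singleton_iff.2 hpb.eq.symm),
        Subgroup.mem_centralizer_singleton_iff.2 hpb.eq.symm⟩
    have hbx : Commute b x :=
      Subgroup.mem_centralizer_singleton_iff.1 (Subgroup.mem_inf.1 (hPW hbP)).1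
    obtain ⟨hbbV, hbbx⟩ := Subgroup.mem_inf.1 (hsq b hbP)
    have hbb : b * b = 1 := h.p_fix hbbV (Subgroup.mem_centralizer_singleton_iff.1 hbbx)
      (hpb.mul_right hpb)
    have hbz := eq_z_of_commute h.hx h.h7 hbC hbx hbb (fun e => hbA (e ▸ one_mem A))
    rw [← hbz]
    exact hcase b hbP a ha
  · -- `a` generates the centre of `P`, so `P` is a Sylow subgroup of `D`
    push Not at hcase
    obtain ⟨r₀, hr₀, b₀, hb₀, hrb⟩ := hcase
    have hPa : ∀ r ∈ P, Commute r a := fun r hr =>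
      Subgroup.mem_centralizer_singleton_iff.1 (Subgroup.mem_inf.1 (hPW hr)).2
    have hcen : ∀ c ∈ P, c ≠ 1 → (∀ r ∈ P, Commute r c) → c = a := by
      intro c hc hc1 hcc
      by_contra hne
      have hAcomm : ∀ u ∈ A, ∀ v ∈ A, Commute u v := fun u hu v hv =>
        h.comm_V (Subgroup.mem_inf.1 hu).1 (Subgroup.mem_inf.1 hv).1
      by_cases hcA : c ∈ A
      · have hac : a * c ∈ A := mul_mem ha hcA
        have haa : a⁻¹ = a := inv_eq_of_mul_eq_one_right (h.sq_one haV)
        rcases mem_four h.card_A ha hcA hac ha1 hc1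
          (fun e => hne ((eq_inv_of_mul_eq_one_right e).trans haa)) (Ne.symm hne)
          (fun e => hc1 (left_eq_mul.1 e)) (fun e => ha1 (right_eq_mul.1 e))
          hb₀ with e | e | e | e <;> subst e
        · exact hrb (Commute.one_right _)
        · exact hrb (hPa _ hr₀)
        · exact hrb (hcc _ hr₀)
        · exact hrb ((hPa _ hr₀).mul_right (hcc _ hr₀))
      · have hcb : Commute c b₀ := (hcc b₀ (hAP hb₀)).symm
        have hr₀A : r₀ ∉ A := fun hm => hrb (hAcomm _ hm _ hb₀)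
        have hmem : r₀ * c ∈ A := by
          have := (Subgroup.mul_mem_iff_of_index_two hidx
            (a := (⟨r₀, hr₀⟩ : P)) (b := ⟨c, hc⟩)).2 (iff_of_false
              (fun hm => hr₀A (Subgroup.mem_subgroupOf.1 hm))
              (fun hm => hcA (Subgroup.mem_subgroupOf.1 hm)))
          exact Subgroup.mem_subgroupOf.1 this
        refine hrb ?_
        have := (hAcomm _ hmem _ hb₀).mul_left hcb.inv_left
        rwa [mul_inv_cancel_right] at this
    have hnot : ¬ 2 ^ 4 ∣ Nat.card D := fun hd => by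
      obtain ⟨Q', hQ', hPQ⟩ := Sylow.exists_subgroup_card_pow_succ (G := D) (p := 2) (n := 3) hd
        (H := P.subgroupOf D) (by
          rw [Nat.card_congr (Subgroup.subgroupOfEquivOfLe (hPW.trans inf_le_left)).toEquiv, hP8]
          norm_num)
      have hidx2 : ((P.subgroupOf D).subgroupOf Q').index = 2 := by
        have := ((P.subgroupOf D).subgroupOf Q').card_mul_index
        rw [Nat.card_congr (Subgroup.subgroupOfEquivOfLe hPQ).toEquiv, hQ',
          Nat.card_congr (Subgroup.subgroupOfEquivOfLe (hPW.trans inf_le_left)).toEquiv, hP8] at this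
        omega
      haveI := Subgroup.normal_of_index_eq_two hidx2
      have hle : Q'.map D.subtype ≤ W := by
        rintro _ ⟨n, hn, rfl⟩
        refine Subgroup.mem_inf.2 ⟨n.2, Subgroup.mem_centralizer_singleton_iff.2 ?_⟩
        have hconj : ∀ r ∈ P, (n : G)⁻¹ * r * n ∈ P ∧ (n : G) * r * (n : G)⁻¹ ∈ P := by
          intro r hr
          have hrD : r ∈ D := (hPW.trans inf_le_left) hr
          have hrQ : (⟨r, hrD⟩ : D) ∈ Q' := hPQ (Subgroup.mem_subgroupOf.2 hr)
          have key : ∀ m : Q', ((m : D) : G) * r * (((m : D) : G))⁻¹ ∈ P := fun m => by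
            have := Subgroup.Normal.conj_mem (H := (P.subgroupOf D).subgroupOf Q') inferInstance
              ⟨⟨r, hrD⟩, hrQ⟩ (Subgroup.mem_subgroupOf.2 (Subgroup.mem_subgroupOf.2 hr)) m
            exact Subgroup.mem_subgroupOf.1 (Subgroup.mem_subgroupOf.1 this)
          exact ⟨by simpa using key (⟨n, hn⟩ : Q')⁻¹, key ⟨n, hn⟩⟩
        have := hcen _ (hconj a (hAP ha)).2 (by simpa using ha1) fun r hr => by
          have hc := hPa _ (hconj r hr).1
          show r * ((n : G) * a * (n : G)⁻¹) = _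
          calc r * ((n : G) * a * (n : G)⁻¹) = n * ((n : G)⁻¹ * r * n * a) * (n : G)⁻¹ := by group
            _ = n * (a * ((n : G)⁻¹ * r * n)) * (n : G)⁻¹ := by rw [hc.eq]
            _ = (n : G) * a * (n : G)⁻¹ * r := by group
        exact mul_inv_eq_iff_eq_mul.1 this
      have := Subgroup.card_dvd_of_le hle
      rw [Subgroup.card_map_of_injective D.subtype_injective, hQ', hW, hD,
        h.card_cent_ax ha ha1] at this
      norm_num at this
    set zD : D := ⟨T.z, Subgroup.mem_centralizer_singleton_iff.2 (T.mem_C.1 h.hx).1.symm⟩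
    have hPS : IsPGroup 2 (P.subgroupOf D) := IsPGroup.of_card (n := 3) (by
      rw [Nat.card_congr (Subgroup.subgroupOfEquivOfLe (hPW.trans inf_le_left)).toEquiv, hP8]
      norm_num)
    have hPi : ¬ 2 ∣ (P.subgroupOf D).index := fun hd => hnot (by
      rw [← (P.subgroupOf D).card_mul_index,
        Nat.card_congr (Subgroup.subgroupOfEquivOfLe (hPW.trans inf_le_left)).toEquiv, hP8]
      exact mul_dvd_mul_left 8 hd)
    obtain ⟨Q, hQ⟩ := (IsPGroup.of_card (p := 2) (n := 1) (G := Subgroup.zpowers zD) (by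
      rw [pow_one, Nat.card_zpowers, ← Subgroup.orderOf_coe]
      exact T.sub.two)).exists_le_sylow
    obtain ⟨c, hc⟩ := MulAction.exists_smul_eq D Q (hPS.toSylow hPi)
    have hval : ((c • Q : Sylow 2 D) : Subgroup D) = P.subgroupOf D := by rw [hc]; rfl
    have hmem : c * zD * c⁻¹ ∈ P.subgroupOf D := by
      rw [← hval, Sylow.coe_subgroup_smul]
      have := Subgroup.smul_mem_pointwise_smul zD (MulAut.conj c) _
        (hQ (Subgroup.mem_zpowers zD))
      rwa [MulAut.smul_def, MulAut.conj_apply] at this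
    have hca := hPa _ (Subgroup.mem_subgroupOf.1 hmem)
    refine ⟨(c : G)⁻¹, inv_mem c.2, ?_⟩
    have e : ((c : G) * T.z * (c : G)⁻¹) * a = a * ((c : G) * T.z * (c : G)⁻¹) := hca
    show T.z * ((c : G)⁻¹ * a * (c : G)⁻¹⁻¹) = (c : G)⁻¹ * a * (c : G)⁻¹⁻¹ * T.z
    calc T.z * ((c : G)⁻¹ * a * (c : G)⁻¹⁻¹) = (c : G)⁻¹ * ((c : G) * T.z * (c : G)⁻¹ * a) * c := by
          group
      _ = (c : G)⁻¹ * (a * ((c : G) * T.z * (c : G)⁻¹)) * c := by rw [e]
      _ = (c : G)⁻¹ * a * (c : G)⁻¹⁻¹ * T.z := by group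

end SevenData

end CfsgLib.JFourSeven
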