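import Mathlib
import Cfsg.Agent.Small.ThompsonOrder

/-!
# A recognition of the symmetric group of degree five

A finite group with two classes of involutions, centralisers of orders twelve and eight, and a
four-group fused inside one class, is the symmetric group of degree five.
-/

set_option autoImplicit false

namespace CfsgLib.JFourSeven

variable {I : Type*} [Group I]

/-- A subgroup of order four with four given distinct members has no further member. -/
theorem mem_four {A : Subgroup I} (hA : Nat.card A = 4) {a b c : I} (ha : a ∈ A) (hb : b ∈ A)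
    (hc : c ∈ A) (ha1 : a ≠ 1) (hb1 : b ≠ 1) (hc1 : c ≠ 1) (hab : a ≠ b) (hac : a ≠ c)
    (hbc : b ≠ c) {x : I} (hx : x ∈ A) : x = 1 ∨ x = a ∨ x = b ∨ x = c := by
  classical
  haveI : Finite A := Nat.finite_of_card_ne_zero (by omega)
  have hfin : (A : Set I).Finite := Set.toFinite (A : Set I)
  have hsub : ({1, a, b, c} : Set I) ⊆ (A : Set I) := by
    rintro y (rfl | rfl | rfl | rfl)
    exacts [one_mem A, ha, hb, hc]
  have hcard : ({1, a, b, c} : Set I).ncard = 4 := by
    rw [Set.ncard_insert_of_notMem (by simp [Ne.symm ha1, Ne.symm hb1, Ne.symm hc1]),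
      Set.ncard_insert_of_notMem (by simp [hab, hac]), Set.ncard_pair hbc]
  have heq := Set.eq_of_subset_of_ncard_le hsub
    (by rw [hcard]; exact le_of_eq ((Nat.card_coe_set_eq _).symm.trans hA)) hfin
  have : x ∈ ({1, a, b, c} : Set I) := by rw [heq]; exact hx
  simpa using this

/-- A finite group with centralisers of involutions as in the symmetric group of degree five. -/
structure FiveData (z u w : I) : Prop where
  hz : orderOf z = 2
  hu : orderOf u = 2
  hnc : ¬ IsConj z u
  hzu : Commute z u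
  cz : Nat.card (Subgroup.centralizer ({z} : Set I)) = 12
  cu : Nat.card (Subgroup.centralizer ({u} : Set I)) = 8
  hwu : Commute w u
  hw : w ≠ u
  huw : IsConj u w
  huuw : IsConj u (u * w)

variable [Finite I] {z u w : I}

namespace FiveData

variable (h : FiveData z u w)
include h

theorem sq_one {x : I} (hx : IsConj u x ∨ IsConj z x) : x * x = 1 ∧ x ≠ 1 := by
  have : orderOf x = 2 := by
    rcases hx with hx | hx <;> obtain ⟨c, rfl⟩ := isConj_iff.1 hx
    · exact ((MulAut.conj c).orderOf_eq u).trans h.hu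
    · exact ((MulAut.conj c).orderOf_eq z).trans h.hz
  exact ⟨by rw [← pow_two, ← this, pow_orderOf_eq_one], fun e => by simp [e] at this⟩

theorem z_ne : z ≠ u ∧ z ≠ w ∧ z ≠ u * w ∧ z * u ≠ 1 ∧ z * u ≠ u ∧ z ≠ 1 := by
  refine ⟨fun e => h.hnc (e ▸ IsConj.refl z), fun e => h.hnc (e ▸ h.huw.symm),
    fun e => h.hnc (e ▸ h.huuw.symm), fun e => ?_, fun e => ?_,
    (h.sq_one (.inr (IsConj.refl z))).2⟩
  · exact h.hnc ((mul_eq_one_iff_eq_inv.1 e).trans
      (inv_eq_of_mul_eq_one_left (h.sq_one (.inl (IsConj.refl u))).1) ▸ IsConj.refl z)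
  · exact (h.sq_one (.inr (IsConj.refl z))).2 (mul_eq_right.1 e)

theorem card_cent_zu : Nat.card (Subgroup.centralizer ({z, u} : Set I)) = 4 := by
  set B := Subgroup.centralizer ({z, u} : Set I) with hB
  have h1 : Nat.card B ∣ 12 := h.cz ▸ Subgroup.card_dvd_of_le
    (Subgroup.centralizer_le (by simp))
  have h2 : Nat.card B ∣ 8 := h.cu ▸ Subgroup.card_dvd_of_le
    (Subgroup.centralizer_le (by simp))
  have h3 : Nat.card B ∣ 4 := by simpa using Nat.dvd_gcd h1 h2
  have hzB : z ∈ B := by
    simp only [hB, Subgroup.mem_centralizer_iff, Set.mem_insert_iff, Set.mem_singleton_iff,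
      forall_eq_or_imp, forall_eq]
    exact ⟨trivial, h.hzu.symm.eq⟩
  have huB : u ∈ B := by
    simp only [hB, Subgroup.mem_centralizer_iff, Set.mem_insert_iff, Set.mem_singleton_iff,
      forall_eq_or_imp, forall_eq]
    exact ⟨h.hzu.eq, trivial⟩
  have h4 : 3 ≤ Nat.card B := by
    have hs : ({1, z, u} : Set I) ⊆ (B : Set I) := by
      rintro y (rfl | rfl | rfl)
      exacts [one_mem B, hzB, huB]
    have := Set.ncard_le_ncard hs (Set.toFinite _)
    rw [Set.ncard_insert_of_notMem (by simp [Ne.symm h.z_ne.2.2.2.2.2,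
      Ne.symm (h.sq_one (.inl (IsConj.refl u))).2]), Set.ncard_pair h.z_ne.1] at this
    rwa [← Nat.card_coe_set_eq] at this
  have := Nat.le_of_dvd (by norm_num) h3
  interval_cases (Nat.card B) <;> omega

theorem mem_cent_zu {x : I} (hxz : Commute x z) (hxu : Commute x u) :
    x = 1 ∨ x = z ∨ x = u ∨ x = z * u := by
  have hm : ∀ y : I, Commute y z → Commute y u → y ∈ Subgroup.centralizer ({z, u} : Set I) := by
    intro y h1 h2
    simp only [Subgroup.mem_centralizer_iff, Set.mem_insert_iff, Set.mem_singleton_iff,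
      forall_eq_or_imp, forall_eq]
    exact ⟨h1.symm.eq, h2.symm.eq⟩
  exact mem_four h.card_cent_zu (hm z (Commute.refl z) h.hzu) (hm u h.hzu.symm (Commute.refl u))
    (hm _ ((Commute.refl z).mul_left h.hzu.symm) (h.hzu.mul_left (Commute.refl u)))
    h.z_ne.2.2.2.2.2 (h.sq_one (.inl (IsConj.refl u))).2 h.z_ne.2.2.2.1 h.z_ne.1
    (fun e => (h.sq_one (.inl (IsConj.refl u))).2 (left_eq_mul.1 e))
    (fun e => h.z_ne.2.2.2.2.1 e.symm) (hm x hxz hxu)

theorem not_commute_zw : ¬ Commute w z := fun hc => by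
  rcases h.mem_cent_zu hc h.hwu with e | e | e | e
  · exact (h.sq_one (.inl h.huw)).2 e
  · exact h.z_ne.2.1 e.symm
  · exact h.hw e
  · apply h.z_ne.2.2.1
    rw [e, h.hzu.eq, ← mul_assoc, (h.sq_one (.inl (IsConj.refl u))).1, one_mul]

theorem card_cent_uw : Nat.card (Subgroup.centralizer ({u, w} : Set I)) = 4 := by
  set A := Subgroup.centralizer ({u, w} : Set I) with hA
  have hle : A ≤ Subgroup.centralizer ({u} : Set I) := Subgroup.centralizer_le (by simp)
  have hd : Nat.card A ∣ 8 := h.cu ▸ Subgroup.card_dvd_of_le hle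
  have hmem : ∀ y : I, Commute y u → Commute y w → y ∈ A := by
    intro y h1 h2
    simp only [hA, Subgroup.mem_centralizer_iff, Set.mem_insert_iff, Set.mem_singleton_iff,
      forall_eq_or_imp, forall_eq]
    exact ⟨h1.symm.eq, h2.symm.eq⟩
  have h4 : 3 ≤ Nat.card A := by
    have hs : ({1, u, w} : Set I) ⊆ (A : Set I) := by
      rintro y (rfl | rfl | rfl)
      exacts [one_mem A, hmem _ (Commute.refl _) h.hwu.symm, hmem _ h.hwu (Commute.refl _)]
    have := Set.ncard_le_ncard hs (Set.toFinite _)
    rw [Set.ncard_insert_of_notMem (by simp [Ne.symm (h.sq_one (.inl h.huw)).2,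
      Ne.symm (h.sq_one (.inl (IsConj.refl u))).2]), Set.ncard_pair (Ne.symm h.hw)] at this
    rwa [← Nat.card_coe_set_eq] at this
  have h8 : Nat.card A ≠ 8 := fun e => by
    have heq : A = Subgroup.centralizer ({u} : Set I) :=
      Subgroup.eq_of_le_of_card_ge hle (by rw [e, h.cu])
    have hz : z ∈ A := heq ▸ (Subgroup.mem_centralizer_singleton_iff.2 h.hzu.eq)
    exact h.not_commute_zw (Subgroup.mem_centralizer_iff.1 hz w (by simp))
  have := Nat.le_of_dvd (by norm_num) hd
  interval_cases hn : Nat.card A <;> omega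

theorem mem_cent_uw {x : I} (hxu : Commute x u) (hxw : Commute x w) :
    x = 1 ∨ x = u ∨ x = w ∨ x = u * w := by
  have hm : ∀ y : I, Commute y u → Commute y w → y ∈ Subgroup.centralizer ({u, w} : Set I) := by
    intro y h1 h2
    simp only [Subgroup.mem_centralizer_iff, Set.mem_insert_iff, Set.mem_singleton_iff,
      forall_eq_or_imp, forall_eq]
    exact ⟨h1.symm.eq, h2.symm.eq⟩
  exact mem_four h.card_cent_uw (hm u (Commute.refl u) h.hwu.symm) (hm w h.hwu (Commute.refl w))
    (hm _ ((Commute.refl u).mul_left h.hwu) (h.hwu.symm.mul_left (Commute.refl w)))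
    (h.sq_one (.inl (IsConj.refl u))).2 (h.sq_one (.inl h.huw)).2 (h.sq_one (.inl h.huuw)).2
    (Ne.symm h.hw) (fun e => (h.sq_one (.inl h.huw)).2 (left_eq_mul.1 e))
    (fun e => (h.sq_one (.inl (IsConj.refl u))).2 (right_eq_mul.1 e)) (hm x hxu hxw)

theorem cent_u_cases {x : I} (hxu : Commute x u) :
    (x = 1 ∨ x = u ∨ x = w ∨ x = u * w) ∨
      (x = z ∨ x = z * u ∨ x = z * w ∨ x = z * (u * w)) := by
  set A := (Subgroup.centralizer ({u, w} : Set I)).subgroupOf
    (Subgroup.centralizer ({u} : Set I)) with hA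
  have hle : Subgroup.centralizer ({u, w} : Set I) ≤ Subgroup.centralizer ({u} : Set I) :=
    Subgroup.centralizer_le (by simp)
  have hidx : A.index = 2 := by
    have h1 : Nat.card A = 4 :=
      (Nat.card_congr (Subgroup.subgroupOfEquivOfLe hle).toEquiv).trans h.card_cent_uw
    have := A.card_mul_index
    rw [h1, h.cu] at this
    omega
  have hmemA : ∀ y : I, ∀ hy : y ∈ Subgroup.centralizer ({u} : Set I),
      (⟨y, hy⟩ : ↥(Subgroup.centralizer ({u} : Set I))) ∈ A ↔ Commute y w := by
    intro y hy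
    simp only [hA, Subgroup.mem_subgroupOf, Subgroup.mem_centralizer_iff, Set.mem_insert_iff,
      Set.mem_singleton_iff, forall_eq_or_imp, forall_eq]
    exact ⟨fun e => e.2.symm, fun e => ⟨(Subgroup.mem_centralizer_singleton_iff.1 hy).symm,
      e.symm.eq⟩⟩
  have hxC : x ∈ Subgroup.centralizer ({u} : Set I) := Subgroup.mem_centralizer_singleton_iff.2 hxu
  have hzC : z ∈ Subgroup.centralizer ({u} : Set I) :=
    Subgroup.mem_centralizer_singleton_iff.2 h.hzu
  by_cases hxw : Commute x w
  · exact .inl (h.mem_cent_uw hxu hxw)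
  · right
    have hzz : z * z = 1 := (h.sq_one (.inr (IsConj.refl z))).1
    have hprod : Commute (z * x) w := (hmemA _ (mul_mem hzC hxC)).1
      ((Subgroup.mul_mem_iff_of_index_two hidx (a := ⟨z, hzC⟩) (b := ⟨x, hxC⟩)).2
        (iff_of_false (fun e => h.not_commute_zw ((hmemA z hzC).1 e).symm)
          (fun e => hxw ((hmemA x hxC).1 e))))
    have hxe : x = z * (z * x) := by rw [← mul_assoc, hzz, one_mul]
    rcases h.mem_cent_uw (h.hzu.mul_left hxu) hprod with e | e | e | e <;> rw [e] at hxe
    exacts [.inl (by simpa using hxe), .inr (.inl hxe), .inr (.inr (.inl hxe)),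
      .inr (.inr (.inr hxe))]

theorem wzw : w * z * w = z * u := by
  obtain ⟨hww, hw1⟩ := h.sq_one (.inl h.huw)
  obtain ⟨hzz, -⟩ := h.sq_one (.inr (IsConj.refl z))
  have hinv : w⁻¹ = w := inv_eq_of_mul_eq_one_left hww
  have hc : Commute (w * z * w) u := (h.hwu.mul_left h.hzu).mul_left h.hwu
  have hne : w * z * w ≠ z := fun e => h.not_commute_zw (by
    have := congrArg (· * w) e
    simp only [mul_assoc, hww, mul_one] at this
    exact this)
  have hnA : ¬ Commute (w * z * w) w := fun e => h.not_commute_zw (by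
    have := e.eq
    simp only [mul_assoc, hww, mul_one] at this
    simp only [← mul_assoc, hww, one_mul] at this
    exact this)
  have hsq : w * z * w * (w * z * w) = 1 := by
    rw [show w * z * w * (w * z * w) = w * (z * ((w * w) * z)) * w by group, hww, one_mul, hzz,
      mul_one, hww]
  rcases h.cent_u_cases hc with e | e
  · exact absurd (by
      rcases e with e | e | e | e <;> rw [e]
      exacts [Commute.one_left w, h.hwu.symm,
        h.hwu.symm.mul_left (Commute.refl w)]) hnA
  · rcases e with e | e | e | e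
    · exact absurd e hne
    · exact e
    · exfalso
      rw [e] at hsq
      exact h.not_commute_zw (by
        have h2 : (z * w)⁻¹ = z * w := inv_eq_of_mul_eq_one_left hsq
        rw [mul_inv_rev, hinv, inv_eq_of_mul_eq_one_left hzz] at h2
        exact h2)
    · exfalso
      rw [e] at hsq
      obtain ⟨huwsq, -⟩ := h.sq_one (.inl h.huuw)
      have h2 : (z * (u * w))⁻¹ = z * (u * w) := inv_eq_of_mul_eq_one_left hsq
      rw [mul_inv_rev, inv_eq_of_mul_eq_one_left huwsq, inv_eq_of_mul_eq_one_left hzz] at h2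
      have h3 : Commute (u * w) z := h2
      exact h.not_commute_zw (by
        have h4 : w = u * (u * w) := by
          rw [← mul_assoc, (h.sq_one (.inl (IsConj.refl u))).1, one_mul]
        rw [h4]
        exact h.hzu.symm.mul_left h3)

theorem conj_zu : IsConj z (z * u) := by
  refine isConj_iff.2 ⟨w, ?_⟩
  rw [inv_eq_of_mul_eq_one_left (h.sq_one (.inl h.huw)).1, h.wzw]

theorem zw_sq : z * w * (z * w) = u := by
  rw [show z * w * (z * w) = z * (w * z * w) by group, h.wzw, ← mul_assoc,
    (h.sq_one (.inr (IsConj.refl z))).1, one_mul]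

theorem cent_u_invol {x : I} (hxu : Commute x u) (hx : x * x = 1) (hx1 : x ≠ 1) :
    (x = u ∨ x = w ∨ x = u * w) ∨ (x = z ∨ x = z * u) := by
  obtain ⟨-, hu1⟩ := h.sq_one (.inl (IsConj.refl u))
  rcases h.cent_u_cases hxu with (e | e | e | e) | (e | e | e | e)
  · exact absurd e hx1
  · exact .inl (.inl e)
  · exact .inl (.inr (.inl e))
  · exact .inl (.inr (.inr e))
  · exact .inr (.inl e)
  · exact .inr (.inr e)
  · rw [e, h.zw_sq] at hx; exact absurd hx hu1
  · exfalso
    rw [e] at hx
    refine hu1 ?_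
    have hcm : Commute u (z * w) := (h.hzu.mul_left h.hwu).symm
    rwa [show z * (u * w) = u * (z * w) by rw [← mul_assoc, h.hzu.eq, mul_assoc],
      show u * (z * w) * (u * (z * w)) = u * u * (z * w * (z * w)) from
        hcm.symm.mul_mul_mul_comm u (z * w), (h.sq_one (.inl (IsConj.refl u))).1,
      one_mul, h.zw_sq] at hx

theorem class_cent_u {x : I} (hxu : Commute x u) :
    (IsConj u x ↔ x = u ∨ x = w ∨ x = u * w) ∧ (IsConj z x ↔ x = z ∨ x = z * u) := by
  constructor <;> constructor
  · intro hc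
    rcases h.cent_u_invol hxu (h.sq_one (.inl hc)).1 (h.sq_one (.inl hc)).2 with e | e | e
    · exact e
    · exact absurd (e ▸ hc).symm h.hnc
    · exact absurd (h.conj_zu.trans (e ▸ hc).symm) h.hnc
  · rintro (rfl | rfl | rfl)
    exacts [IsConj.refl _, h.huw, h.huuw]
  · intro hc
    rcases h.cent_u_invol hxu (h.sq_one (.inr hc)).1 (h.sq_one (.inr hc)).2 with e | e
    · rcases e with e | e | e <;> rw [e] at hc
      exacts [absurd hc h.hnc, absurd (hc.trans h.huw.symm) h.hnc,
        absurd (hc.trans h.huuw.symm) h.hnc]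
    · exact e
  · rintro (rfl | rfl)
    exacts [IsConj.refl _, h.conj_zu]

theorem all_invol (t : I) (ht : orderOf t = 2) : IsConj z t ∨ IsConj u t := by
  haveI : Fact (Nat.Prime 2) := ⟨Nat.prime_two⟩
  set T := Subgroup.centralizer ({u} : Set I) with hT
  have hTp : IsPGroup 2 T := IsPGroup.of_card (h.cu.trans (by norm_num : (8 : ℕ) = 2 ^ 3))
  obtain ⟨P, hP⟩ := hTp.exists_le_sylow
  have hPT : (P : Subgroup I) = T := by
    haveI : Nontrivial P := by
      rw [← Finite.one_lt_card_iff_nontrivial]
      have := Subgroup.card_le_of_le hP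
      rw [h.cu] at this
      omega
    obtain ⟨⟨c, hc⟩, hc1⟩ := (haveI := IsPGroup.center_nontrivial P.2; exists_ne (1 : Subgroup.center P))
    have hcomm : ∀ y ∈ T, Commute (c : I) y := fun y hy =>
      (congrArg Subtype.val (Subgroup.mem_center_iff.1 hc ⟨y, hP hy⟩)).symm
    have huT : u ∈ T := Subgroup.mem_centralizer_singleton_iff.2 rfl
    have hzT : z ∈ T := Subgroup.mem_centralizer_singleton_iff.2 h.hzu
    have hwT : w ∈ T := Subgroup.mem_centralizer_singleton_iff.2 h.hwu
    have hcu : (c : I) = u := by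
      have hc1' : (c : I) ≠ 1 := fun e => hc1 (Subtype.ext (Subtype.ext e))
      rcases h.mem_cent_uw (hcomm u huT) (hcomm w hwT) with e | e | e | e
      · exact absurd e hc1'
      · exact e
      · exact absurd (e ▸ hcomm z hzT) h.not_commute_zw
      · exfalso
        have h3 : Commute (u * w) z := e ▸ hcomm z hzT
        refine h.not_commute_zw ?_
        have h4 : w = u * (u * w) := by
          rw [← mul_assoc, (h.sq_one (.inl (IsConj.refl u))).1, one_mul]
        rw [h4]
        exact h.hzu.symm.mul_left h3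
    refine le_antisymm (fun y hy => Subgroup.mem_centralizer_singleton_iff.2 ?_) hP
    have := congrArg Subtype.val (Subgroup.mem_center_iff.1 hc ⟨y, hy⟩)
    simpa [hcu] using this
  have hz2 : IsPGroup 2 (Subgroup.zpowers t) :=
    IsPGroup.of_card (n := 1) (by rw [Nat.card_zpowers, ht, pow_one])
  obtain ⟨R, hR⟩ := hz2.exists_le_sylow
  obtain ⟨g, hg⟩ := MulAction.exists_smul_eq I R P
  have hmem : g * t * g⁻¹ ∈ T := by
    rw [← hPT, ← hg, Sylow.coe_subgroup_smul]
    have := Subgroup.smul_mem_pointwise_smul t (MulAut.conj g) _ (hR (Subgroup.mem_zpowers t))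
    rwa [MulAut.smul_def, MulAut.conj_apply] at this
  have hc := Subgroup.mem_centralizer_singleton_iff.1 hmem
  have ho : orderOf (g * t * g⁻¹) = 2 := ((MulAut.conj g).orderOf_eq t).trans ht
  have hsq : g * t * g⁻¹ * (g * t * g⁻¹) = 1 := by rw [← pow_two, ← ho, pow_orderOf_eq_one]
  have hne : g * t * g⁻¹ ≠ 1 := fun e => by simp [e] at ho
  have hback : IsConj (g * t * g⁻¹) t := (isConj_iff.2 ⟨g, rfl⟩).symm
  rcases h.cent_u_invol hc hsq hne with e | e
  · exact .inr (((h.class_cent_u hc).1.2 e).trans hback)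
  · exact .inl (((h.class_cent_u hc).2.2 e).trans hback)

end FiveData

end CfsgLib.JFourSeven
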